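import Groth.Agent.EtLimit.PullThen

/-! systems of sheaves on an inverse system of schemes -/

set_option autoImplicit false
universe u

open CategoryTheory CategoryTheory.Limits AlgebraicGeometry Opposite CategoryTheory.Abelian

namespace Groth.Agent.EtLimit

open Groth.Agent.EtFound

set_option backward.isDefEq.respectTransparency.types false

section mates

variable {X Y Z : Scheme.{u}}

theorem pushCongr_rfl (f : X ⟶ Y) : EtCoh.pushCongr (rfl : f = f) = Iso.refl _ := by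
  have e : (MorphismProperty.Over.pullbackCongr (P := EtCoh.etaleMP) (Q := ⊤) (rfl : f = f)) = Iso.refl _ := by
    ext U : 3
    ext
    apply pullback.hom_ext <;> (simp [MorphismProperty.Over.pullbackCongr]; rfl)
  ext K U
  simp [EtCoh.pushCongr, e]
  erw [K.obj.map_id]
  rfl

theorem homEquiv_pullComp (k : X ⟶ Y) (t : Y ⟶ Z) {G : EtCoh.Ab Z} {K : EtCoh.Ab X}
    (m : (EtCoh.pull k).obj ((EtCoh.pull t).obj G) ⟶ K) :
    (EtCoh.pullPushAdj (k ≫ t)).homEquiv _ _ ((EtCore.pullComp k t).hom.app G ≫ m) =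
      (EtCoh.pullPushAdj t).homEquiv _ _ ((EtCoh.pullPushAdj k).homEquiv _ _ m) ≫
        (EtCoh.pushComp t k).hom.app K := by
  have h : (EtCoh.pullPushAdj (k ≫ t)).unit.app G ≫
      (EtCoh.push (k ≫ t)).map ((EtCore.pullComp k t).hom.app G) =
    ((EtCoh.pullPushAdj t).unit.app G ≫ (EtCoh.push t).map ((EtCoh.pullPushAdj k).unit.app _)) ≫
      (EtCoh.pushComp t k).hom.app _ := by
    refine (Adjunction.unit_leftAdjointUniq_hom_app (EtCoh.pullPushAdj (k ≫ t))
      (((EtCoh.pullPushAdj t).comp (EtCoh.pullPushAdj k)).ofNatIsoRight (EtCoh.pushComp t k)) G).trans ?_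
    rw [Adjunction.ofNatIsoRight_unit]
    simp
  have n := (EtCoh.pushComp t k).hom.naturality m
  simp only [Functor.comp_map] at n
  simp only [Adjunction.homEquiv_unit, Functor.map_comp, Category.assoc]
  rw [reassoc_of% h]
  erw [n]

/-- a cocycle identity in terms of adjoints -/
theorem homEquiv_of_cocycle (v : X ⟶ Y) (u : Y ⟶ Z) (w : X ⟶ Z) (hw : v ≫ u = w)
    {F : EtCoh.Ab Z} {G : EtCoh.Ab Y} {M : EtCoh.Ab X}
    (α : (EtCoh.pull u).obj F ⟶ G) (β : (EtCoh.pull v).obj G ⟶ M) (γ : (EtCoh.pull w).obj F ⟶ M)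
    (h : (θPull v u w hw).hom.app F ≫ γ = (EtCoh.pull v).map α ≫ β) :
    (EtCoh.pullPushAdj w).homEquiv _ _ γ =
      (EtCoh.pullPushAdj u).homEquiv _ _ α ≫ (EtCoh.push u).map ((EtCoh.pullPushAdj v).homEquiv _ _ β) ≫
        (EtCoh.pushComp u v).hom.app M ≫ (EtCoh.pushCongr hw).hom.app M := by
  subst hw
  have hθ : (θPull v u (v ≫ u) rfl).hom.app F = (EtCore.pullComp v u).inv.app F := by
    simp [θPull, EtCore.pullCongr]
  rw [hθ] at h
  have hγ : γ = (EtCore.pullComp v u).hom.app F ≫ (EtCoh.pull v).map α ≫ β := by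
    rw [← h, Iso.hom_inv_id_app_assoc]
  rw [hγ, homEquiv_pullComp, Adjunction.homEquiv_naturality_left, Adjunction.homEquiv_naturality_right,
    pushCongr_rfl]
  simp

theorem cocycle_of_homEquiv (v : X ⟶ Y) (u : Y ⟶ Z) (w : X ⟶ Z) (hw : v ≫ u = w)
    {F : EtCoh.Ab Z} {G : EtCoh.Ab Y} {M : EtCoh.Ab X}
    (α : (EtCoh.pull u).obj F ⟶ G) (β : (EtCoh.pull v).obj G ⟶ M) (γ : (EtCoh.pull w).obj F ⟶ M)
    (h : (EtCoh.pullPushAdj w).homEquiv _ _ γ =
      (EtCoh.pullPushAdj u).homEquiv _ _ α ≫ (EtCoh.push u).map ((EtCoh.pullPushAdj v).homEquiv _ _ β) ≫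
        (EtCoh.pushComp u v).hom.app M ≫ (EtCoh.pushCongr hw).hom.app M) :
    (θPull v u w hw).hom.app F ≫ γ = (EtCoh.pull v).map α ≫ β := by
  let γ' := (θPull v u w hw).inv.app F ≫ (EtCoh.pull v).map α ≫ β
  have h' := homEquiv_of_cocycle v u w hw α β γ' (by simp [γ'])
  obtain rfl : γ = γ' := ((EtCoh.pullPushAdj w).homEquiv _ _).injective (h.trans h'.symm)
  simp [γ']

theorem pushComp_app (u : Y ⟶ Z) (v : X ⟶ Y) (M : EtCoh.Ab X) (W : Z.Etale) :
    ((EtCoh.pushComp u v).hom.app M).hom.app (op W) =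
      M.obj.map ((MorphismProperty.Over.pullbackComp (P := EtCoh.etaleMP) (Q := ⊤) v u).hom.app W).op := rfl

theorem pushCongr_app {v w : X ⟶ Z} (h : v = w) (M : EtCoh.Ab X) (W : Z.Etale) :
    ((EtCoh.pushCongr h).hom.app M).hom.app (op W) =
      M.obj.map ((MorphismProperty.Over.pullbackCongr (P := EtCoh.etaleMP) (Q := ⊤) h).inv.app W).op := rfl

variable {S : Scheme.{u}}

/-- the restriction isomorphism `q_* M ≅ u_* p_* M` for `p ≫ u = q` -/
noncomputable def tauPush (p : X ⟶ Y) (u : Y ⟶ Z) (q : X ⟶ Z) (h : p ≫ u = q) (M : EtCoh.Ab X) :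
    (EtCoh.push q).obj M ⟶ (EtCoh.push u).obj ((EtCoh.push p).obj M) :=
  (EtCoh.pushCongr h).inv.app M ≫ (EtCoh.pushComp u p).inv.app M

/-- the transition of direct images -/
noncomputable def phiPush (p : X ⟶ Y) (u : Y ⟶ Z) (q : X ⟶ Z) (h : p ≫ u = q) (M : EtCoh.Ab X) :
    (EtCoh.pull u).obj ((EtCoh.push q).obj M) ⟶ (EtCoh.push p).obj M :=
  ((EtCoh.pullPushAdj u).homEquiv _ _).symm (tauPush p u q h M)

theorem homEquiv_phiPush (p : X ⟶ Y) (u : Y ⟶ Z) (q : X ⟶ Z) (h : p ≫ u = q) (M : EtCoh.Ab X) :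
    (EtCoh.pullPushAdj u).homEquiv _ _ (phiPush p u q h M) = tauPush p u q h M :=
  Equiv.apply_symm_apply _ _

/-- compatibility of the transitions with the counits -/
theorem phiPush_counit (p : X ⟶ Y) (u : Y ⟶ Z) (q : X ⟶ Z) (h : p ≫ u = q) (M : EtCoh.Ab X) :
    (θPull p u q h).hom.app ((EtCoh.push q).obj M) ≫ (EtCoh.pullPushAdj q).counit.app M =
      (EtCoh.pull p).map (phiPush p u q h M) ≫ (EtCoh.pullPushAdj p).counit.app M := by
  refine cocycle_of_homEquiv p u q h _ _ _ ?_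
  rw [homEquiv_phiPush]
  simp [Adjunction.homEquiv_unit, tauPush]

/-- the comparison of iterated base changes -/
noncomputable def tauMap (p : X ⟶ Y) (u : Y ⟶ Z) (q : X ⟶ Z) (h : p ≫ u = q) (W : Z.Etale) :
    (EtCoh.bc p).obj ((EtCoh.bc u).obj W) ⟶ (EtCoh.bc q).obj W :=
  (MorphismProperty.Over.pullbackComp (P := EtCoh.etaleMP) (Q := ⊤) p u).inv.app W ≫
    (MorphismProperty.Over.pullbackCongr (P := EtCoh.etaleMP) (Q := ⊤) h).hom.app W

theorem tauPush_app (p : X ⟶ Y) (u : Y ⟶ Z) (q : X ⟶ Z) (h : p ≫ u = q) (M : EtCoh.Ab X) (W : Z.Etale) :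
    (tauPush p u q h M).hom.app (op W) = M.obj.map (tauMap p u q h W).op := by
  rw [tauMap, op_comp, Functor.map_comp]
  rfl

theorem tauMap_fst (p : X ⟶ Y) (u : Y ⟶ Z) (q : X ⟶ Z) (h : p ≫ u = q) (W : Z.Etale) :
    (tauMap p u q h W).left ≫ pullback.fst W.hom q =
      pullback.fst (pullback.snd W.hom u) p ≫ pullback.fst W.hom u := by
  subst h
  let c := (MorphismProperty.Over.pullbackComp (P := EtCoh.etaleMP) (Q := ⊤) p u).app W
  have c1 : c.hom.left ≫ pullback.fst (pullback.snd W.hom u) p ≫ pullback.fst W.hom u = pullback.fst W.hom (p ≫ u) :=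
    MorphismProperty.Over.pullbackComp_left_fst_fst p u W
  have c2 : ((MorphismProperty.Over.pullbackCongr (P := EtCoh.etaleMP) (Q := ⊤) (rfl : p ≫ u = p ≫ u)).hom.app W).left ≫
      pullback.fst W.hom (p ≫ u) = pullback.fst W.hom (p ≫ u) :=
    MorphismProperty.Over.pullbackCongr_hom_app_left_fst rfl W
  have c3 : c.inv.left ≫ c.hom.left = 𝟙 _ := congrArg (fun m => m.left) c.inv_hom_id
  refine (Category.assoc _ _ _).trans ((congrArg (_ ≫ ·) c2).trans ?_)
  change c.inv.left ≫ _ = _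
  refine (congrArg (c.inv.left ≫ ·) c1.symm).trans ((Category.assoc _ _ _).symm.trans ?_)
  exact (congrArg (· ≫ _) c3).trans (Category.id_comp _)

/-- the transitions of direct images compose -/
theorem tauPush_comp (p : S ⟶ X) (v : X ⟶ Y) (u : Y ⟶ Z) (w : X ⟶ Z) (hw : v ≫ u = w) (q : S ⟶ Y) (r : S ⟶ Z)
    (hq : p ≫ v = q) (hr : q ≫ u = r) (hr' : p ≫ w = r) (M : EtCoh.Ab S) :
    tauPush p w r hr' M = tauPush q u r hr M ≫ (EtCoh.push u).map (tauPush p v q hq M) ≫
      (EtCoh.pushComp u v).hom.app _ ≫ (EtCoh.pushCongr hw).hom.app _ := by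
  subst hw
  rw [pushCongr_rfl]
  refine Sheaf.hom_ext (NatTrans.ext (funext fun ⟨W⟩ => ?_))
  let A := (EtCoh.bc u).obj W
  let c := (MorphismProperty.Over.pullbackComp (P := EtCoh.etaleMP) (Q := ⊤) v u).hom.app W
  let m := (EtCoh.bc p).map c ≫ tauMap p v q hq A ≫ tauMap q u r hr W
  have hm : tauMap p (v ≫ u) r hr' W = m := by
    apply MorphismProperty.Over.Hom.ext
    refine pullback.hom_ext ?_ ((MorphismProperty.Over.w (tauMap p (v ≫ u) r hr' W)).trans (MorphismProperty.Over.w m).symm)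
    have e1 : c.left ≫ pullback.fst (pullback.snd W.hom u) v ≫ pullback.fst W.hom u = pullback.fst W.hom (v ≫ u) :=
      MorphismProperty.Over.pullbackComp_left_fst_fst v u W
    have e2 : ((EtCoh.bc p).map c).left ≫ pullback.fst (pullback.snd (pullback.snd W.hom u) v) p =
        pullback.fst (pullback.snd W.hom (v ≫ u)) p ≫ c.left := (EtCoh.isPullback_bc_map p c).w
    have e3 : (tauMap p v q hq A).left ≫ pullback.fst (pullback.snd W.hom u) q =
        pullback.fst (pullback.snd (pullback.snd W.hom u) v) p ≫ pullback.fst (pullback.snd W.hom u) v :=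
      tauMap_fst p v q hq A
    refine (tauMap_fst p (v ≫ u) r hr' W).trans ?_
    refine Eq.trans ?_ ((Category.assoc _ _ _).trans (congrArg (_ ≫ ·)
      ((Category.assoc _ _ _).trans (congrArg (_ ≫ ·) (tauMap_fst q u r hr W))))).symm
    refine (congrArg (_ ≫ ·) e1.symm).trans ?_
    refine (Category.assoc _ _ _).symm.trans ((congrArg (· ≫ _) e2.symm).trans ((Category.assoc _ _ _).trans
      (congrArg (_ ≫ ·) ?_)))
    refine Eq.trans ?_ (Category.assoc _ _ _)
    exact (Category.assoc _ _ _).symm.trans (congrArg (· ≫ pullback.fst W.hom u) e3.symm)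
  rw [tauPush_app, hm]
  change _ = (tauPush q u r hr M).hom.app (op W) ≫ (tauPush p v q hq M).hom.app (op A) ≫
    M.obj.map ((EtCoh.bc p).map c).op ≫ 𝟙 _
  rw [tauPush_app, tauPush_app, Category.comp_id]
  change M.obj.map (Quiver.Hom.op m) = _
  simp only [m, op_comp, Functor.map_comp, Category.assoc]
  rfl

theorem phiPush_cocycle (p : S ⟶ X) (v : X ⟶ Y) (u : Y ⟶ Z) (w : X ⟶ Z) (hw : v ≫ u = w) (q : S ⟶ Y) (r : S ⟶ Z)
    (hq : p ≫ v = q) (hr : q ≫ u = r) (hr' : p ≫ w = r) (M : EtCoh.Ab S) :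
    (θPull v u w hw).hom.app ((EtCoh.push r).obj M) ≫ phiPush p w r hr' M =
      (EtCoh.pull v).map (phiPush q u r hr M) ≫ phiPush p v q hq M := by
  refine cocycle_of_homEquiv v u w hw _ _ _ ?_
  rw [homEquiv_phiPush, homEquiv_phiPush, homEquiv_phiPush]
  exact tauPush_comp p v u w hw q r hq hr hr' M

end mates

end Groth.Agent.EtLimit
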