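import Groth.Agent.EtLimit.PullThen
import Groth.Agent.EtLC12.QcqsAcyclic

/-! cohomology classes: maps and connecting maps, stated inside `EtCoh.H` -/

set_option autoImplicit false
set_option linter.style.haveILetI false
set_option maxHeartbeats 800000
universe u

open CategoryTheory CategoryTheory.Limits AlgebraicGeometry Opposite CategoryTheory.Abelian

namespace Groth.Agent.EtLimit

variable {X Y : Scheme.{u}}

/-- the group structure, as a constant (keeps the kernel from unfolding `EtCoh.H` at every use) -/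
noncomputable instance (priority := high) hGroup (X : Scheme.{u}) (F : EtCoh.Ab X) (n : ℕ) :
    AddCommGroup (EtCoh.H X F n) :=
  inferInstance

/-- the map on cohomology induced by a morphism of sheaves -/
noncomputable def hmap {F G : EtCoh.Ab X} (a : F ⟶ G) (n : ℕ) : EtCoh.H X F n →+ EtCoh.H X G n :=
  ((EtCoh.HF X n).map a).hom

/-- pullback followed by a morphism -/
noncomputable def hThen (u : X ⟶ Y) [PreservesFiniteLimits (EtCoh.pull u)] (F : EtCoh.Ab Y) {M : EtCoh.Ab X}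
    (α : (EtCoh.pull u).obj F ⟶ M) (n : ℕ) : EtCoh.H Y F n →+ EtCoh.H X M n :=
  EtLim.HpullThen u F α n

theorem hThen_apply (u : X ⟶ Y) [PreservesFiniteLimits (EtCoh.pull u)] (F : EtCoh.Ab Y) {M : EtCoh.Ab X}
    (α : (EtCoh.pull u).obj F ⟶ M) (n : ℕ) (ξ : EtCoh.H Y F n) :
    hThen u F α n ξ = EtLim.HpullThen u F α n ξ := rfl

/-- the connecting map -/
noncomputable def hδ {S : ShortComplex (EtCoh.Ab X)} (hS : S.ShortExact) {n n' : ℕ} (hn : n + 1 = n') :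
    EtCoh.H X S.X₃ n →+ EtCoh.H X S.X₁ n' :=
  hS.extClass.postcomp _ hn

theorem HF_map_comp {F G K : EtCoh.Ab X} (a : F ⟶ G) (b : G ⟶ K) (n : ℕ) (ξ : (EtCoh.HF X n).obj F) :
    ((EtCoh.HF X n).map b).hom (((EtCoh.HF X n).map a).hom ξ) = ((EtCoh.HF X n).map (a ≫ b)).hom ξ := by
  rw [Functor.map_comp]; rfl

theorem hmap_comp {F G K : EtCoh.Ab X} (a : F ⟶ G) (b : G ⟶ K) (n : ℕ) (ξ : EtCoh.H X F n) :
    hmap b n (hmap a n ξ) = hmap (a ≫ b) n ξ :=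
  HF_map_comp a b n ξ

theorem exists_hmap_of_hmap_eq_zero {S : ShortComplex (EtCoh.Ab X)} (hS : S.ShortExact) (n : ℕ)
    (ξ : EtCoh.H X S.X₂ n) (h : hmap S.g n ξ = 0) : ∃ a, hmap S.f n a = ξ :=
  Ext.covariant_sequence_exact₂ _ hS ξ h

theorem exists_hmap_of_hδ_eq_zero {S : ShortComplex (EtCoh.Ab X)} (hS : S.ShortExact) {n n' : ℕ} (hn : n + 1 = n')
    (ξ : EtCoh.H X S.X₃ n) (h : hδ hS hn ξ = 0) : ∃ a, hmap S.g n a = ξ :=
  Ext.covariant_sequence_exact₃ _ hS ξ hn h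

theorem exists_hδ_of_hmap_eq_zero {S : ShortComplex (EtCoh.Ab X)} (hS : S.ShortExact) {n n' : ℕ} (hn : n + 1 = n')
    (ξ : EtCoh.H X S.X₁ n') (h : hmap S.f n' ξ = 0) : ∃ c, hδ hS hn c = ξ :=
  Ext.covariant_sequence_exact₁ _ hS ξ h hn

theorem hδ_hmap_g {S : ShortComplex (EtCoh.Ab X)} (hS : S.ShortExact) {n n' : ℕ} (hn : n + 1 = n')
    (ξ : EtCoh.H X S.X₂ n) : hδ hS hn (hmap S.g n ξ) = 0 := by
  show Ext.comp (Ext.comp ξ (Ext.mk₀ S.g) (add_zero n)) hS.extClass hn = 0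
  rw [Ext.comp_assoc_of_second_deg_zero, ShortComplex.ShortExact.comp_extClass, Ext.comp_zero]

theorem hmap_zero_injective {F G : EtCoh.Ab X} (a : F ⟶ G) [Mono a] : Function.Injective (hmap a 0) :=
  Ext.postcomp_mk₀_injective_of_mono _ a

theorem hmap_zero_map {F G : EtCoh.Ab X} (n : ℕ) (ξ : EtCoh.H X F n) : hmap (0 : F ⟶ G) n ξ = 0 := by
  show Ext.comp ξ (Ext.mk₀ (0 : F ⟶ G)) (add_zero n) = 0
  rw [Ext.mk₀_zero, Ext.comp_zero]

theorem exists_rep_HF {J : Type u} [SmallCategory J] [IsFiltered J] (n : ℕ) {K : J ⥤ EtCoh.Ab X} {c : Cocone K}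
    (hc : IsColimit c) [PreservesColimitsOfShape J (EtCoh.HF X n)] (ξ : (EtCoh.HF X n).obj c.pt) :
    ∃ (k : J) (η : (EtCoh.HF X n).obj (K.obj k)), ((EtCoh.HF X n).map (c.ι.app k)).hom η = ξ := by
  obtain ⟨k, η, hη⟩ := Concrete.isColimit_exists_rep _ (isColimitOfPreserves (EtCoh.HF X n) hc) ξ
  exact ⟨k, η, hη⟩

theorem exists_hmap_of_isColimit {J : Type u} [SmallCategory J] [IsFiltered J] (n : ℕ) {K : J ⥤ EtCoh.Ab X}
    {c : Cocone K} (hc : IsColimit c) [PreservesColimitsOfShape J (EtCoh.HF X n)] (ξ : EtCoh.H X c.pt n) :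
    ∃ (k : J) (η : EtCoh.H X (K.obj k) n), hmap (c.ι.app k) n η = ξ :=
  exists_rep_HF n hc ξ

theorem HpullThen_hmap (u : X ⟶ Y) [PreservesFiniteLimits (EtCoh.pull u)] {F F' : EtCoh.Ab Y}
    {M M' : EtCoh.Ab X} (α : (EtCoh.pull u).obj F ⟶ M) (α' : (EtCoh.pull u).obj F' ⟶ M') (a : F ⟶ F')
    (b : M ⟶ M') (h : (EtCoh.pull u).map a ≫ α' = α ≫ b) (n : ℕ) (ξ : EtCoh.H Y F n) :
    hThen u F' α' n (hmap a n ξ) = hmap b n (hThen u F α n ξ) :=
  HpullThen_natural u α α' a b h n ξ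

theorem HpullThen_hδ (u : X ⟶ Y) [PreservesFiniteLimits (EtCoh.pull u)] {S : ShortComplex (EtCoh.Ab Y)}
    (hS : S.ShortExact) {S' : ShortComplex (EtCoh.Ab X)} (hS' : S'.ShortExact)
    (a₁ : (EtCoh.pull u).obj S.X₁ ⟶ S'.X₁) (a₂ : (EtCoh.pull u).obj S.X₂ ⟶ S'.X₂)
    (a₃ : (EtCoh.pull u).obj S.X₃ ⟶ S'.X₃) (c₁ : a₁ ≫ S'.f = (EtCoh.pull u).map S.f ≫ a₂)
    (c₂ : a₂ ≫ S'.g = (EtCoh.pull u).map S.g ≫ a₃) {n n' : ℕ} (hn : n + 1 = n') (ξ : EtCoh.H Y S.X₃ n) :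
    hThen u S.X₁ a₁ n' (hδ hS hn ξ) = hδ hS' hn (hThen u S.X₃ a₃ n ξ) :=
  HpullThen_extClass u hS hS' a₁ a₂ a₃ c₁ c₂ hn ξ

theorem HpullThen_zero (u : X ⟶ Y) [PreservesFiniteLimits (EtCoh.pull u)] (F : EtCoh.Ab Y) (M : EtCoh.Ab X)
    (n : ℕ) (ξ : EtCoh.H Y F n) : hThen u F (0 : (EtCoh.pull u).obj F ⟶ M) n ξ = 0 :=
  hmap_zero_map n _

/-- composition -/
theorem hThen_comp {Z : Scheme.{u}} (v : X ⟶ Y) (u : Y ⟶ Z) (w : X ⟶ Z) (hw : v ≫ u = w)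
    [PreservesFiniteLimits (EtCoh.pull v)] [PreservesFiniteLimits (EtCoh.pull u)]
    [PreservesFiniteLimits (EtCoh.pull w)] {F : EtCoh.Ab Z} {G : EtCoh.Ab Y} {M : EtCoh.Ab X}
    (α : (EtCoh.pull u).obj F ⟶ G) (β : (EtCoh.pull v).obj G ⟶ M) (γ : (EtCoh.pull w).obj F ⟶ M)
    (h : (Groth.Agent.EtFound.θPull v u w hw).hom.app F ≫ γ = (EtCoh.pull v).map α ≫ β) (n : ℕ)
    (ξ : EtCoh.H Z F n) : hThen v G β n (hThen u F α n ξ) = hThen w F γ n ξ :=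
  HpullThen_comp v u w hw α β γ h n ξ

theorem HpullThen_kill (u : X ⟶ Y) [PreservesFiniteLimits (EtCoh.pull u)] {E F : EtCoh.Ab Y} {M : EtCoh.Ab X}
    (a : E ⟶ F) (α : (EtCoh.pull u).obj F ⟶ M) (h : (EtCoh.pull u).map a ≫ α = 0) (n : ℕ)
    (η : EtCoh.H Y E n) : hThen u F α n (hmap a n η) = 0 := by
  rw [HpullThen_hmap u (0 : (EtCoh.pull u).obj E ⟶ M) α a (𝟙 _) (by rw [h, Category.comp_id]) n η,
    HpullThen_zero, map_zero]

theorem preservesColimitsOfShape_HF (X : Scheme.{u}) [CompactSpace X] [QuasiSeparatedSpace X] (n : ℕ)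
    (J : Type u) [SmallCategory J] [IsFiltered J] : PreservesColimitsOfShape J (EtCoh.HF X n) := by
  haveI : IsFiltered (AsSmall.{u + 1} J) := IsFiltered.of_equivalence AsSmall.equiv
  haveI := EtLC12.QcqsAcyclic.preservesColimitsOfShape_HF X n (AsSmall.{u + 1} J)
  exact preservesColimitsOfShape_of_equiv (AsSmall.equiv (C := J)).symm _

end Groth.Agent.EtLimit
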