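import Groth.Agent.EtLimit.Const
import Groth.Agent.EtFound.PullExt

/-! cohomology in degree zero and global sections -/

set_option autoImplicit false
set_option linter.style.haveILetI false
universe u

open CategoryTheory CategoryTheory.Limits AlgebraicGeometry Opposite CategoryTheory.Abelian

namespace Groth.Agent.EtLimit

open Groth.Agent.EtFound

set_option backward.isDefEq.respectTransparency.types false

variable {X Y Z : Scheme.{u}}

/-- the morphism of a class of degree zero -/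
noncomputable def h0Mor (F : EtCoh.Ab X) (ξ : EtCoh.H X F 0) : EtCoh.const X ℤ ⟶ F :=
  Ext.homEquiv₀ ξ

/-- the section of a class of degree zero -/
noncomputable def hSec (F : EtCoh.Ab X) (ξ : EtCoh.H X F 0) : (EtCore.gsec X).obj F := constVal (h0Mor F ξ)

theorem mk₀_h0Mor (F : EtCoh.Ab X) (ξ : EtCoh.H X F 0) : Ext.mk₀ (h0Mor F ξ) = ξ :=
  Ext.mk₀_homEquiv₀_apply ξ

theorem hSec_mk₀ (F : EtCoh.Ab X) (ψ : EtCoh.const X ℤ ⟶ F) : hSec F (Ext.mk₀ ψ) = constVal ψ :=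
  congrArg constVal (Ext.homEquiv₀.apply_symm_apply ψ)

theorem hSec_bijective (F : EtCoh.Ab X) : Function.Bijective (hSec F) :=
  (constVal_bijective F).comp (Ext.homEquiv₀.bijective)

theorem hSec_hmap {F G : EtCoh.Ab X} (a : F ⟶ G) (ξ : EtCoh.H X F 0) :
    hSec G (hmap a 0 ξ) = (EtCore.gsec X).map a (hSec F ξ) := by
  have e : hmap a 0 ξ = Ext.mk₀ (h0Mor F ξ ≫ a) := by
    conv_lhs => rw [← mk₀_h0Mor F ξ]
    exact Ext.mk₀_comp_mk₀ _ _
  rw [e, hSec_mk₀, constVal_comp]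
  rfl

theorem hSec_Hpull (k : X ⟶ Y) [PreservesFiniteLimits (EtCoh.pull k)] (F : EtCoh.Ab Y) (ξ : EtCoh.H Y F 0) :
    hSec ((EtCoh.pull k).obj F) (EtCore.Hpull k F 0 ξ) = (EtMVLib.pullSec k).app F (hSec F ξ) := by
  have e : EtCore.Hpull k F 0 ξ = Ext.mk₀ ((EtCore.pullConst k ℤ).inv ≫ (EtCoh.pull k).map (h0Mor F ξ)) := by
    conv_lhs => rw [← mk₀_h0Mor F ξ]
    rw [EtMVLib.Hpull_apply, Ext.mapExactFunctor_mk₀]
    exact Ext.mk₀_comp_mk₀ _ _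
  rw [e, hSec_mk₀, constVal_pullConst]
  rfl

theorem hSec_add (F : EtCoh.Ab X) (ξ η : EtCoh.H X F 0) : hSec F (ξ + η) = hSec F ξ + hSec F η := by
  have e : h0Mor F (ξ + η) = h0Mor F ξ + h0Mor F η := Ext.addEquiv₀.map_add ξ η
  unfold hSec
  haveI : (EtCore.gsec X).Additive := ⟨fun {_ _ _ _} => rfl⟩
  rw [e, constVal_eq, constVal_eq, constVal_eq, Functor.map_add]
  rfl

theorem hSec_zero (F : EtCoh.Ab X) : hSec F 0 = 0 := by
  have h := hSec_add F 0 0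
  rw [add_zero] at h
  exact left_eq_add.mp h

theorem hSec_hThen (k : X ⟶ Y) [PreservesFiniteLimits (EtCoh.pull k)] (F : EtCoh.Ab Y) {M : EtCoh.Ab X}
    (α : (EtCoh.pull k).obj F ⟶ M) (ξ : EtCoh.H Y F 0) :
    hSec M (hThen k F α 0 ξ) = (EtCore.gsec X).map α ((EtMVLib.pullSec k).app F (hSec F ξ)) := by
  rw [← hSec_Hpull]
  exact hSec_hmap α _

/-- evaluation at a point, through the wrapper -/
noncomputable def secAt (t : Y ⟶ Z) (W : Z.Etale) (ρ : Y ⟶ W.left) (e : ρ ≫ W.hom = t) (G : EtCoh.Ab Z)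
    (s : G.obj.obj (op W)) : (EtCore.gsec Y).obj (pullObj t G) :=
  atPt t W ρ e G s

theorem secAt_eq (t : Y ⟶ Z) (W : Z.Etale) (ρ : Y ⟶ W.left) (e : ρ ≫ W.hom = t) (G : EtCoh.Ab Z)
    (s : G.obj.obj (op W)) : secAt t W ρ e G s = atPt t W ρ e G s := rfl

theorem hSec_hVia (f : X ⟶ Y) (t : Y ⟶ Z) (f₀ : X ⟶ Z) (w : f ≫ t = f₀)
    [PreservesFiniteLimits (EtCoh.pull f)] (G : EtCoh.Ab Z) (W : Z.Etale) (ρ : Y ⟶ W.left) (e : ρ ≫ W.hom = t)
    (s : G.obj.obj (op W)) (ξ : EtCoh.H Y (pullObj t G) 0) (hξ : hSec (pullObj t G) ξ = secAt t W ρ e G s)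
    (ρ' : X ⟶ W.left) (hρ : ρ' = f ≫ ρ) (e' : ρ' ≫ W.hom = f₀) :
    hSec (pullObj f₀ G) (hVia f t f₀ w G 0 ξ) = secAt f₀ W ρ' e' G s := by
  refine (hSec_hThen f ((EtCoh.pull t).obj G) (appOf (θPull f t f₀ w) G) ξ).trans ?_
  refine (congrArg (fun z => (EtCore.gsec X).map (appOf (θPull f t f₀ w) G) ((EtMVLib.pullSec f).app _ z)) hξ).trans ?_
  exact ConcreteCategory.congr_hom (atPt_pullSec f t f₀ w W ρ e ρ' hρ e' G) s

theorem secAt_eq_zero_of_diesAt (f : X ⟶ Y) (t : Y ⟶ Z) (f₀ : X ⟶ Z) (w : f ≫ t = f₀)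
    [PreservesFiniteLimits (EtCoh.pull f)] (G : EtCoh.Ab Z) (W : Z.Etale) (ρ : Y ⟶ W.left) (e : ρ ≫ W.hom = t)
    (s : G.obj.obj (op W)) (ξ : EtCoh.H Y (pullObj t G) 0) (hξ : hSec (pullObj t G) ξ = secAt t W ρ e G s)
    (h : DiesAt f t G 0 ξ) (ρ' : X ⟶ W.left) (hρ : ρ' = f ≫ ρ) (e' : ρ' ≫ W.hom = f₀) :
    secAt f₀ W ρ' e' G s = 0 := by
  have h1 : (EtMVLib.pullSec f).app ((EtCoh.pull t).obj G) (secAt t W ρ e G s) = 0 := by
    rw [← hξ]
    refine (hSec_Hpull f ((EtCoh.pull t).obj G) ξ).symm.trans ?_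
    exact (congrArg (hSec _) h).trans (hSec_zero _)
  refine (ConcreteCategory.congr_hom (atPt_pullSec f t f₀ w W ρ e ρ' hρ e' G) s).symm.trans ?_
  change (EtCore.gsec X).map ((θPull f t f₀ w).hom.app G) ((EtMVLib.pullSec f).app _ (atPt t W ρ e G s)) = 0
  rw [secAt_eq] at h1
  rw [h1, map_zero]

/-- restriction of sections and evaluation -/
theorem atPt_map (h : Y ⟶ Z) {W W' : Z.Etale} (g : W' ⟶ W) (ρ : Y ⟶ W'.left) (e : ρ ≫ W'.hom = h)
    (ρ' : Y ⟶ W.left) (hρ : ρ' = ρ ≫ g.left) (e' : ρ' ≫ W.hom = h) (F : EtCoh.Ab Z) :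
    F.obj.map g.op ≫ atPt h W' ρ e F = atPt h W ρ' e' F := by
  subst hρ
  have hp : ptSec h W' ρ e ≫ (EtCoh.bc h).map g = ptSec h W (ρ ≫ g.left) e' := by
    apply MorphismProperty.Over.Hom.ext
    change (ptSec h W' ρ e).left ≫ ((EtCoh.bc h).map g).left = pullback.lift (ρ ≫ g.left) (𝟙 Y) _
    apply pullback.hom_ext
    · refine (Category.assoc _ _ _).trans ((congrArg _ (EtCoh.isPullback_bc_map h g).w).trans ?_)
      refine (Category.assoc _ _ _).symm.trans ?_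
      exact (congrArg (· ≫ g.left) (pullback.lift_fst _ _ _)).trans (pullback.lift_fst _ _ _).symm
    · refine (Category.assoc _ _ _).trans ((congrArg _ (MorphismProperty.Over.w ((EtCoh.bc h).map g))).trans ?_)
      exact (pullback.lift_snd _ _ _).trans (pullback.lift_snd _ _ _).symm
  have n := ((EtCoh.pullPushAdj h).unit.app F).hom.naturality g.op
  refine (Category.assoc _ _ _).symm.trans ((congrArg (· ≫ _) n).trans ?_)
  refine (Category.assoc _ _ _).trans (congrArg (_ ≫ ·) ?_)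
  change ((EtCoh.pull h).obj F).obj.map ((EtCoh.bc h).map g).op ≫ ((EtCoh.pull h).obj F).obj.map (ptSec h W' ρ e).op = _
  rw [← Functor.map_comp, ← op_comp, hp]

theorem secAt_map (h : Y ⟶ Z) {W W' : Z.Etale} (g : W' ⟶ W) (ρ : Y ⟶ W'.left) (e : ρ ≫ W'.hom = h)
    (ρ' : Y ⟶ W.left) (hρ : ρ' = ρ ≫ g.left) (e' : ρ' ≫ W.hom = h) (F : EtCoh.Ab Z) (s : F.obj.obj (op W)) :
    secAt h W' ρ e F (F.obj.map g.op s) = secAt h W ρ' e' F s :=
  ConcreteCategory.congr_hom (atPt_map h g ρ e ρ' hρ e' F) s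

theorem secAt_bijective (t : Y ⟶ Z) [AlgebraicGeometry.Etale t] (W : Z.Etale) (ρ : Y ⟶ W.left) [IsIso ρ]
    (e : ρ ≫ W.hom = t) (G : EtCoh.Ab Z) : Function.Bijective (secAt t W ρ e G) :=
  atPt_bijective t W ρ e G

theorem secAt_naturality (t : Y ⟶ Z) (W : Z.Etale) (ρ : Y ⟶ W.left) (e : ρ ≫ W.hom = t) {G G' : EtCoh.Ab Z}
    (a : G ⟶ G') (s : G.obj.obj (op W)) :
    secAt t W ρ e G' (a.hom.app (op W) s) = (EtCore.gsec Y).map ((EtCoh.pull t).map a) (secAt t W ρ e G s) :=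
  atPt_naturality_apply t W ρ e a s

theorem secAt_zero (t : Y ⟶ Z) (W : Z.Etale) (ρ : Y ⟶ W.left) (e : ρ ≫ W.hom = t) (G : EtCoh.Ab Z) :
    secAt t W ρ e G 0 = 0 :=
  map_zero (atPt t W ρ e G).hom

end Groth.Agent.EtLimit
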