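import Groth.Agent.IndEtLib.Sys
import Groth.Agent.IndEtLib.Localization
import Groth.Agent.IndZarLib.Factor
import Groth.Agent.S0734
import Groth.Agent.S12237
import Groth.Prelude.Def_Hens2
import Groth.Prelude.Def_EtBase
import Mathlib.CategoryTheory.Presentable.Directed

/-! strict localizations are limits of affine étale schemes over the base -/

set_option autoImplicit false
set_option linter.style.haveILetI false
universe u

open CategoryTheory CategoryTheory.Limits AlgebraicGeometry Opposite

namespace Groth.Agent.EtLimit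


/-- the cone of a compatible family of maps to the stages -/
def etLegs {S T : Scheme.{u}} {ι : Type u} [Preorder ι] (V : ιᵒᵖ ⥤ S.Etale)
    (leg : ∀ a, T ⟶ (V.obj a).left) (w : ∀ {a b : ιᵒᵖ} (m : a ⟶ b), leg a ≫ (V.map m).left = leg b) :
    Cone (V ⋙ Scheme.Etale.forget S ⋙ Over.forget S) :=
  Cone.mk T { app := leg, naturality := fun _ _ m => (Category.id_comp _).trans (w m).symm }

/-- a presentation of `π : T ⟶ S` as a limit of affine schemes étale over `S` -/
structure EtPres {S T : Scheme.{u}} (π : T ⟶ S) where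
  ι : Type u
  [preorder : Preorder ι]
  [directed : IsDirected ι (· ≤ ·)]
  [nonempty : Nonempty ι]
  V : ιᵒᵖ ⥤ S.Etale
  affine : ∀ a, IsAffine (V.obj a).left
  leg : ∀ a, T ⟶ (V.obj a).left
  leg_hom : ∀ a, leg a ≫ (V.obj a).hom = π
  leg_map : ∀ {a b : ιᵒᵖ} (m : a ⟶ b), leg a ≫ (V.map m).left = leg b
  isLimit : Nonempty (IsLimit (etLegs V leg leg_map))

attribute [instance] EtPres.preorder EtPres.directed EtPres.nonempty

set_option maxHeartbeats 1000000 in
/-- the strict localization has such a presentation -/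
theorem nonempty_etPres_specOf (S : Scheme.{u}) (s : S) (R : Type u) [CommRing R] [IsLocalRing R]
    [Algebra (S.presheaf.stalk s) R] [IsLocalHom (algebraMap (S.presheaf.stalk s) R)]
    [Hensel.IsStrictHenselization (S.presheaf.stalk s) R] : Nonempty (EtPres (Hens2.specOf S s R)) := by
  obtain ⟨_, ⟨U, hU, rfl⟩, hs, -⟩ :=
    S.isBasis_affineOpens.exists_subset_of_mem_open (Set.mem_univ s) isOpen_univ
  replace hU : IsAffineOpen U := hU
  let A : Type u := Γ(S, U)
  letI : Algebra A (S.presheaf.stalk s) := (S.presheaf.germ U s hs).hom.toAlgebra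
  haveI : IsLocalization.AtPrime (S.presheaf.stalk s) (hU.primeIdealOf ⟨s, hs⟩).asIdeal :=
    hU.isLocalization_stalk ⟨s, hs⟩
  letI : Algebra A R := ((algebraMap (S.presheaf.stalk s) R).comp (S.presheaf.germ U s hs).hom).toAlgebra
  haveI : IsScalarTower A (S.presheaf.stalk s) R := IsScalarTower.of_algebraMap_eq fun _ => rfl
  have hA : EtPBC.IsIndEtale A R := S0734.result A (S.presheaf.stalk s) R
    (IndZarLib.isIndEtale_of_isIndZariski
      (IndEtLib.isIndZariski_localization (hU.primeIdealOf ⟨s, hs⟩).asIdeal.primeCompl (S.presheaf.stalk s)))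
    (S12237.result (S.presheaf.stalk s) R)
  obtain ⟨J, _, _, D, c, hc, hD, ⟨e⟩⟩ := hA
  obtain ⟨ι, _, _, _, F, _⟩ := IsFiltered.exists_directed J
  haveI : IsFiltered ι := isFiltered_of_directed_le_nonempty ι
  haveI : IsConnected ι := IsFiltered.isConnected _
  let G : ι ⥤ Under (CommRingCat.of A) := F ⋙ D
  let j : Spec (CommRingCat.of A) ⟶ S := hU.fromSpec
  have hobj : ∀ a : ιᵒᵖ, AlgebraicGeometry.Etale (Spec.map (G.obj a.unop).hom ≫ j) := fun a => by
    letI := (G.obj a.unop).hom.hom.toAlgebra
    haveI : AlgebraicGeometry.Etale (Spec.map (G.obj a.unop).hom) :=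
      (HasRingHomProperty.Spec_iff (P := @AlgebraicGeometry.Etale)).2 (RingHom.etale_algebraMap.2 (hD _))
    haveI : IsOpenImmersion j := hU.isOpenImmersion_fromSpec
    infer_instance
  let V : ιᵒᵖ ⥤ S.Etale :=
    { obj := fun a => MorphismProperty.Over.mk ⊤ (Spec.map (G.obj a.unop).hom ≫ j) (hobj a)
      map := fun {a b} m => MorphismProperty.Over.homMk (Spec.map (G.map m.unop).right)
        (by
          change Spec.map _ ≫ Spec.map _ ≫ _ = Spec.map _ ≫ _
          rw [← Category.assoc, ← Spec.map_comp, Under.w]) trivial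
      map_id := fun a => MorphismProperty.Over.Hom.ext (by
        change Spec.map (G.map (𝟙 a.unop)).right = 𝟙 (Spec (G.obj a.unop).right)
        rw [G.map_id, Under.id_right, Spec.map_id])
      map_comp := fun {a b d} m n => MorphismProperty.Over.Hom.ext (by
        change Spec.map (G.map (n.unop ≫ m.unop)).right = Spec.map (G.map m.unop).right ≫ Spec.map (G.map n.unop).right
        rw [G.map_comp, Under.comp_right, Spec.map_comp]) }
  let leg : ∀ a : ιᵒᵖ, Spec (CommRingCat.of R) ⟶ Spec (G.obj a.unop).right :=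
    fun a => Spec.map ((c.ι.app (F.obj a.unop)).right ≫ e.hom.right)
  have hj : Spec.map (CommRingCat.ofHom (algebraMap A R)) ≫ j = Hens2.specOf S s R := by
    rw [Hens2.specOf, ← hU.fromSpecStalk_eq_fromSpecStalk hs, IsAffineOpen.fromSpecStalk, ← Category.assoc,
      ← Spec.map_comp]
    rfl
  refine ⟨{
    ι := ι
    V := V
    affine := fun a => inferInstanceAs (IsAffine (Spec _))
    leg := leg
    leg_hom := fun a => ?_
    leg_map := fun {a b} m => ?_
    isLimit := ?_ }⟩
  · change Spec.map _ ≫ Spec.map _ ≫ j = _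
    rw [← Category.assoc, ← Spec.map_comp, ← Category.assoc, Under.w]
    refine (congrArg (fun g => Spec.map g ≫ j) ?_).trans hj
    exact Under.w e.hom
  · change Spec.map _ ≫ Spec.map _ = Spec.map _
    rw [← Spec.map_comp, ← Category.assoc, ← Under.comp_right]
    have hw : (G.map m.unop).right ≫ (c.ι.app (F.obj a.unop)).right = (c.ι.app (F.obj b.unop)).right :=
      by
      have := congrArg (fun g => CommaMorphism.right g) (c.w (F.map m.unop))
      exact this
    rw [Under.comp_right, hw]
  · have h0 : IsColimit (c.extend e.hom) := IsColimit.extendIso e.hom hc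
    have h1 : IsColimit (Cocone.whisker F (c.extend e.hom)) :=
      (Functor.Final.isColimitWhiskerEquiv F _).symm h0
    have h2 := isLimitOfPreserves Scheme.Spec
      (isColimitOfPreserves (Under.forget (CommRingCat.of A)) h1).op
    refine ⟨IsLimit.ofIsoLimit ((IsLimit.postcomposeHomEquiv
      (NatIso.ofComponents (fun _ => Iso.refl _) (by intro a b m; simp [G, V])) _).symm h2)
      (Cone.ext (Iso.refl _) fun a => ?_)⟩
    change Spec.map _ ≫ 𝟙 _ = 𝟙 _ ≫ Spec.map _
    rw [Category.comp_id, Category.id_comp]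
    rfl

end Groth.Agent.EtLimit
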