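import Groth.Agent.SiteBase.UnivDelta
import Groth.Agent.SiteBase.Horseshoe
import Groth.Prelude.Def_RDerDelta
import Mathlib.CategoryTheory.Abelian.RightDerived
import Mathlib.Algebra.Homology.ShortComplex.ExactFunctor
import Mathlib.Algebra.Homology.ShortComplex.Ab

/-! isomorphisms of effaced connected sequences; derived functors followed by an exact functor -/

set_option autoImplicit false
universe w v u v₂ u₂

open CategoryTheory CategoryTheory.Limits

namespace Groth.Agent.EtLimit

open SiteBase

variable {A : Type u} [Category.{v} A] [Abelian A] [EnoughInjectives A]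

/-- effaced connected sequences with isomorphic degree zero are isomorphic -/
theorem connSeq_nonempty_iso {H G : ConnSeq.{w} A} (hH : H.Effaced) (hG : G.Effaced) (e0 : H.F 0 ≅ G.F 0)
    (n : ℕ) : Nonempty (H.F n ≅ G.F n) := by
  obtain ⟨e, he0, he⟩ := ConnSeq.exists_hom (G := G) hH e0.hom
  obtain ⟨d, hd0, hd⟩ := ConnSeq.exists_hom (G := H) hG e0.inv
  have c1 : ∀ p, e p ≫ d p = 𝟙 _ := ConnSeq.hom_unique hH (fun p => e p ≫ d p) (fun p => 𝟙 _)
    (fun S hS p => by
      rw [NatTrans.comp_app, NatTrans.comp_app, ← Category.assoc, he S hS p, Category.assoc, hd S hS p,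
        Category.assoc])
    (fun S hS p => by rw [NatTrans.id_app, NatTrans.id_app, Category.comp_id, Category.id_comp])
    (by simp [he0, hd0])
  have c2 : ∀ p, d p ≫ e p = 𝟙 _ := ConnSeq.hom_unique hG (fun p => d p ≫ e p) (fun p => 𝟙 _)
    (fun S hS p => by
      rw [NatTrans.comp_app, NatTrans.comp_app, ← Category.assoc, hd S hS p, Category.assoc, he S hS p,
        Category.assoc])
    (fun S hS p => by rw [NatTrans.id_app, NatTrans.id_app, Category.comp_id, Category.id_comp])
    (by simp [he0, hd0])
  exact ⟨⟨e n, d n, c1 n, c2 n⟩⟩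

variable {D : Type u₂} [Category.{v₂} D] [Abelian D] (F : A ⥤ D) [F.Additive] (G : D ⥤ AddCommGrpCat.{w})
  [G.Additive] [PreservesFiniteLimits G] [PreservesFiniteColimits G]

/-- the derived functors of `F` followed by an exact functor -/
noncomputable def derivedSeq : ConnSeq.{w} A where
  F n := F.rightDerived n ⋙ G
  δ {S} hS p := G.map ((SESResLib.derivedLES F).δ S hS p (p + 1) rfl)
  δ_natural {S T} hS hT φ p := by
    simp only [Functor.comp_map, ← Functor.map_comp]
    exact congrArg G.map ((SESResLib.derivedLES F).δ_natural hS hT φ p (p + 1) rfl).symm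
  map_comp_δ {S} hS p := by
    simp only [Functor.comp_map, ← Functor.map_comp]
    rw [(SESResLib.derivedLES F).comp_δ S hS p (p + 1) rfl, G.map_zero]

omit [PreservesFiniteLimits G] [PreservesFiniteColimits G] in
theorem derivedSeq_F (n : ℕ) : (derivedSeq F G).F n = F.rightDerived n ⋙ G := rfl

theorem derivedSeq_effaced : (derivedSeq F G).Effaced := fun {S} hS hI p => by
  have h3 := ((SESResLib.derivedLES F).exact₃ S hS p (p + 1) rfl).map G
  have h1 := ((SESResLib.derivedLES F).exact₁ S hS p (p + 1) rfl).map G
  refine ⟨?_, fun x hx => (ShortComplex.ab_exact_iff _).1 h3 x hx⟩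
  exact (AddCommGrpCat.epi_iff_surjective _).1
    (h1.epi_f ((G.map_isZero (F.isZero_rightDerived_obj_injective_succ p S.X₂)).eq_of_tgt _ _))

end Groth.Agent.EtLimit
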