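import Groth.Agent.EtLimit.StalkPush0
import Groth.Agent.EtLimit.DeltaIso
import Groth.Agent.EtFound.Stalk
import Groth.Agent.EtFound.Henselian
import Groth.Agent.EtLC12.AffineLocalAcyclic

/-! stalks of higher direct images are cohomology groups over the strict localization -/

set_option autoImplicit false
set_option linter.style.haveILetI false
universe u

open CategoryTheory CategoryTheory.Limits AlgebraicGeometry Opposite CategoryTheory.Abelian

namespace Groth.Agent.EtLimit

open Groth.Agent.EtFound SiteBase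

set_option backward.isDefEq.respectTransparency.types false

variable {X S T : Scheme.{u}}

theorem hδ_natural {E E' : ShortComplex (EtCoh.Ab X)} (hE : E.ShortExact) (hE' : E'.ShortExact) (φ : E ⟶ E')
    {n n' : ℕ} (hn : n + 1 = n') (ξ : EtCoh.H X E.X₃ n) :
    hmap φ.τ₁ n' (hδ hE hn ξ) = hδ hE' hn (hmap φ.τ₃ n ξ) := by
  show Ext.comp (Ext.comp ξ hE.extClass hn) (Ext.mk₀ φ.τ₁) (add_zero n') =
    Ext.comp (Ext.comp ξ (Ext.mk₀ φ.τ₃) (add_zero n)) hE'.extClass hn
  rw [Ext.comp_assoc_of_third_deg_zero, ShortComplex.ShortExact.extClass_naturality hE hE' φ,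
    Ext.comp_assoc_of_second_deg_zero]

theorem subsingleton_H_succ_of_injective (I : EtCoh.Ab X) [Injective I] (n : ℕ) :
    Subsingleton (EtCoh.H X I (n + 1)) :=
  subsingleton_of_forall_eq 0 fun _ => Ext.eq_zero_of_injective _

/-- cohomology of an inverse image, as a connected sequence -/
noncomputable def pullHSeq (p : T ⟶ X) [PreservesFiniteLimits (EtCoh.pull p)] : ConnSeq.{u + 1} (EtCoh.Ab X) where
  F n := EtCoh.pull p ⋙ EtCoh.HF T n
  δ hS n := AddCommGrpCat.ofHom (hδ (hS.map_of_exact (EtCoh.pull p)) (rfl : n + 1 = n + 1))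
  δ_natural hS hS' φ n := AddCommGrpCat.hom_ext (AddMonoidHom.ext fun ξ =>
    hδ_natural (hS.map_of_exact (EtCoh.pull p)) (hS'.map_of_exact (EtCoh.pull p))
      ((EtCoh.pull p).mapShortComplex.map φ) rfl ξ)
  map_comp_δ hS n := AddCommGrpCat.hom_ext (AddMonoidHom.ext fun ξ =>
    hδ_hmap_g (hS.map_of_exact (EtCoh.pull p)) rfl ξ)

theorem pullHSeq_effaced (p : T ⟶ X) [PreservesFiniteLimits (EtCoh.pull p)]
    (h : ∀ (I : EtCoh.Ab X), Injective I → ∀ n, Subsingleton (EtCoh.H T ((EtCoh.pull p).obj I) (n + 1))) :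
    (pullHSeq p).Effaced := fun {E} hE hI n => by
  refine ⟨fun ξ => ?_, fun x hx => exists_hmap_of_hδ_eq_zero (hE.map_of_exact (EtCoh.pull p)) rfl x hx⟩
  exact exists_hδ_of_hmap_eq_zero (hE.map_of_exact (EtCoh.pull p)) rfl ξ ((h E.X₂ hI n).elim _ _)

/-- degree zero of `H^*(T, p⁻¹-)` -/
theorem nonempty_pullH0Iso (p : T ⟶ X) :
    Nonempty (EtCoh.pull p ⋙ EtCoh.HF T 0 ≅ EtCoh.pull p ⋙ EtCore.gsec T) := by
  let a : ∀ F : EtCoh.Ab T, (EtCoh.HF T 0).obj F ⟶ (EtCore.gsec T).obj F := fun F =>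
    AddCommGrpCat.ofHom (AddMonoidHom.mk' (hSec F) (hSec_add F))
  haveI : ∀ F, IsIso (a F) := fun F => (ConcreteCategory.isIso_iff_bijective _).2 (hSec_bijective F)
  let e : EtCoh.HF T 0 ≅ EtCore.gsec T :=
    NatIso.ofComponents (fun F => asIso (a F)) fun {F G} g => AddCommGrpCat.hom_ext (AddMonoidHom.ext fun ξ =>
      hSec_hmap g ξ)
  exact ⟨Functor.isoWhiskerLeft _ e⟩

section

variable (f : X ⟶ S) [QuasiCompact f] [QuasiSeparated f] {π : T ⟶ S} (P : EtPres π)

include P in
theorem subsingleton_H_pull_injective (I : EtCoh.Ab X) [Injective I] (n : ℕ) :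
    Subsingleton (EtCoh.H (pullback f π) ((EtCoh.pull (pullback.fst f π)).obj I) (n + 1)) := by
  haveI : ∀ a, PreservesFiniteLimits (EtCoh.pull ((stCone f P).π.app a)) := fun a => pull_preservesFiniteLimits _
  haveI : ∀ ⦃a b : P.ιᵒᵖ⦄ (h : a ⟶ b), PreservesFiniteLimits (EtCoh.pull ((stDiag f P).map h)) :=
    fun a b h => pull_preservesFiniteLimits _
  obtain ⟨hc⟩ := nonempty_isLimit_stCone f P
  refine subsingleton_of_forall_eq 0 fun ξ => ?_
  obtain ⟨j, x, rfl⟩ := (genSys_comparison' (stDiag f P) (stDiag_affine f P) (stCone f P) hc (stDiag_compact f P)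
    (stDiag_quasiSeparated f P) (fun i => stHom f P (op i)) (fun {_ _} h => stMap_hom f P _) I (pullback.fst f π)
    (fun i => stLeg_hom f P (op i)) (n + 1)).1 ξ
  haveI := etale_stHom f P (op j)
  haveI := jCont (stHom f P (op j))
  haveI : Injective ((EtCoh.pull (stHom f P (op j))).obj I) := EtLC12.AffineLocalAcyclic.injective_pull _ I
  haveI : Subsingleton (EtCoh.H ((stDiag f P).obj (op j)) (pullObj (stHom f P (op j)) I) (n + 1)) :=
    subsingleton_H_succ_of_injective ((EtCoh.pull (stHom f P (op j))).obj I) n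
  rw [Subsingleton.elim x 0, map_zero]
  rfl

variable {Ω : Type u} [Field Ω] [IsSepClosed Ω] {z : Spec (CommRingCat.of Ω) ⟶ T}

include P in
/-- stalks of `R^n f_*` -/
theorem nonempty_stalk_rpush (hz : LiftsUniquely π z) (n : ℕ) :
    Nonempty (EtCoh.Rpush f n ⋙ EtCoh.stalk (z ≫ π) ≅
      EtCoh.pull (pullback.fst f π) ⋙ EtCoh.HF (pullback f π) n) := by
  haveI : (EtCoh.stalk (z ≫ π)).Additive := Functor.additive_of_preserves_binary_products _
  haveI : PreservesFiniteLimits (EtCoh.push f) :=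
    haveI : PreservesLimitsOfSize.{0, 0} (EtCoh.push f) := (EtCoh.pullPushAdj f).rightAdjoint_preservesLimits
    PreservesLimitsOfSize.preservesFiniteLimits _
  haveI : PreservesFiniteLimits (EtCoh.pull (pullback.fst f π)) := pull_preservesFiniteLimits _
  obtain ⟨e1⟩ := nonempty_stalkPushIso f hz P
  obtain ⟨e2⟩ := nonempty_pullH0Iso (pullback.fst f π)
  exact connSeq_nonempty_iso (derivedSeq_effaced (EtCoh.push f) (EtCoh.stalk (z ≫ π)))
    (pullHSeq_effaced (pullback.fst f π) fun I hI n => subsingleton_H_pull_injective f P I n)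
    (Functor.isoWhiskerRight (EtCoh.push f).rightDerivedZeroIsoSelf _ ≪≫ e1 ≪≫ e2.symm) n

end

/-- étale neighbourhoods of the closed geometric point of a strictly henselian ring -/
theorem liftsUniquely_specOf (R : Type u) [CommRing R] [HenselianLocalRing R] {S : Scheme.{u}}
    (π : Spec (CommRingCat.of R) ⟶ S) : LiftsUniquely π (cpt R) := fun V v hv => by
  haveI : AlgebraicGeometry.Etale V.hom := V.prop
  let u : Spec (CommRingCat.of (IsLocalRing.ResidueField R)) ⟶ pullback V.hom π := pullback.lift v (cpt R) hv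
  obtain ⟨σ, ⟨h1, h2⟩, huniq⟩ := existsUnique_section R (pullback.snd V.hom π) u (pullback.lift_snd _ _ _)
  refine ⟨σ ≫ pullback.fst V.hom π, ⟨?_, ?_⟩, fun ρ hρ => ?_⟩
  · rw [Category.assoc, pullback.condition, ← Category.assoc, h1, Category.id_comp]
  · rw [← Category.assoc, h2]
    exact pullback.lift_fst _ _ _
  · have e := huniq (pullback.lift ρ (𝟙 _) (hρ.1.trans (Category.id_comp π).symm)) ⟨pullback.lift_snd _ _ _, ?_⟩
    · rw [← e, pullback.lift_fst]
    · apply pullback.hom_ext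
      · rw [Category.assoc, pullback.lift_fst, hρ.2]
        exact (pullback.lift_fst _ _ _).symm
      · rw [Category.assoc, pullback.lift_snd, Category.comp_id]
        exact (pullback.lift_snd _ _ _).symm

end Groth.Agent.EtLimit
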