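import Groth.Agent.EtLimit.Restrict

/-! cohomology of the inverse image of a sheaf from a stage -/

set_option autoImplicit false
set_option linter.style.haveILetI false
universe u

open CategoryTheory CategoryTheory.Limits AlgebraicGeometry Opposite

namespace Groth.Agent.EtLimit

open Groth.Agent.EtFound

set_option backward.isDefEq.respectTransparency.types false

variable {X Y Z : Scheme.{u}}

/-- the frozen relative pullback -/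
theorem hThen_eq_HpullVia (f : X ⟶ Y) (t : Y ⟶ Z) (f₀ : X ⟶ Z) (w : f ≫ t = f₀)
    [PreservesFiniteLimits (EtCoh.pull f)] (G : EtCoh.Ab Z) (p : ℕ)
    (α : (EtCoh.pull f).obj ((EtCoh.pull t).obj G) ⟶ (EtCoh.pull f₀).obj G)
    (hα : α = appOf (θPull f t f₀ w) G) (ξ : EtCoh.H Y ((EtCoh.pull t).obj G) p) :
    hThen f ((EtCoh.pull t).obj G) α p ξ = EtCore.HpullVia f t f₀ w G p ξ := by
  subst hα
  rfl

theorem hThen_eq_zero_of_HpullVia (f : X ⟶ Y) (t : Y ⟶ Z) (f₀ : X ⟶ Z) (w : f ≫ t = f₀)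
    [PreservesFiniteLimits (EtCoh.pull f)] (G : EtCoh.Ab Z) (p : ℕ)
    (α : (EtCoh.pull f).obj ((EtCoh.pull t).obj G) ⟶ (EtCoh.pull f₀).obj G)
    (hα : α = appOf (θPull f t f₀ w) G) (ξ : EtCoh.H Y ((EtCoh.pull t).obj G) p)
    (h : EtCore.HpullVia f t f₀ w G p ξ = 0) : hThen f ((EtCoh.pull t).obj G) α p ξ = 0 :=
  (hThen_eq_HpullVia f t f₀ w G p α hα ξ).trans h

/-- the bare pullback as a class -/
noncomputable abbrev hPull (u : X ⟶ Y) [PreservesFiniteLimits (EtCoh.pull u)] (F : EtCoh.Ab Y) (n : ℕ)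
    (ξ : EtCoh.H Y F n) : EtCoh.H X ((EtCoh.pull u).obj F) n :=
  EtCore.Hpull u F n ξ

theorem Hpull_eq_zero (u : X ⟶ Y) [PreservesFiniteLimits (EtCoh.pull u)] (F : EtCoh.Ab Y) {M : EtCoh.Ab X}
    (α : (EtCoh.pull u).obj F ⟶ M) [IsIso α] (n : ℕ) (ξ : EtCoh.H Y F n) (h : hThen u F α n ξ = 0) :
    EtCore.Hpull u F n ξ = 0 := by
  have e : hmap (inv α) n (hmap α n (hPull u F n ξ)) = hPull u F n ξ := by
    rw [hmap_comp, IsIso.hom_inv_id]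
    exact ConcreteCategory.congr_hom ((EtCoh.HF X n).map_id _) _
  exact e.symm.trans ((congrArg (hmap (inv α) n) h).trans (map_zero _))

instance isIso_genφ {ι : Type u} [Preorder ι] (Ys : ιᵒᵖ ⥤ Scheme.{u}) (e : ∀ i : ι, Ys.obj (op i) ⟶ Z)
    (he : ∀ {i j : ι} (h : i ≤ j), tr Ys h ≫ e i = e j) (F₀ : EtCoh.Ab Z) {i j : ι} (h : i ≤ j) :
    IsIso (genφ Ys e @he F₀ h) := by
  delta genφ appOf
  infer_instance

section comparison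

variable {ι : Type u} [Preorder ι] [IsDirected ι (· ≤ ·)] [Nonempty ι] (Ys : ιᵒᵖ ⥤ Scheme.{u})
  (haff : ∀ ⦃a b : ιᵒᵖ⦄ (h : a ⟶ b), IsAffineHom (Ys.map h)) (c : Cone Ys) (hc : IsLimit c)
  (hqc : ∀ a, CompactSpace ↥(Ys.obj a)) (hqs : ∀ a, QuasiSeparatedSpace ↥(Ys.obj a))
  [∀ a, PreservesFiniteLimits (EtCoh.pull (c.π.app a))]
  [∀ ⦃a b : ιᵒᵖ⦄ (h : a ⟶ b), PreservesFiniteLimits (EtCoh.pull (Ys.map h))]
  (e : ∀ i : ι, Ys.obj (op i) ⟶ Z) (he : ∀ {i j : ι} (h : i ≤ j), tr Ys h ≫ e i = e j) (F₀ : EtCoh.Ab Z)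
  (e₀ : c.pt ⟶ Z) (he₀ : ∀ i : ι, c.π.app (op i) ≫ e i = e₀)

include haff hc hqc hqs he he₀ in
/-- cohomology of an inverse image from a common base -/
theorem genSys_comparison (n : ℕ) :
    (∀ ξ : EtCoh.H c.pt ((EtCoh.pull e₀).obj F₀) n,
      ∃ (j : ι) (x : EtCoh.H (Ys.obj (op j)) ((EtCoh.pull (e j)).obj F₀) n),
        hThen (c.π.app (op j)) ((EtCoh.pull (e j)).obj F₀) (genψ Ys e F₀ c e₀ he₀ j).hom n x = ξ) ∧
    (∀ (j : ι) (x : EtCoh.H (Ys.obj (op j)) ((EtCoh.pull (e j)).obj F₀) n),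
      hThen (c.π.app (op j)) ((EtCoh.pull (e j)).obj F₀) (genψ Ys e F₀ c e₀ he₀ j).hom n x = 0 →
        ∃ (k : ι) (h : j ≤ k), hThen (tr Ys h) ((EtCoh.pull (e j)).obj F₀) (genφ Ys e @he F₀ h) n x = 0) := by
  haveI : IsFiltered ι := isFiltered_index (ι := ι)
  haveI : IsConnected ι := IsFiltered.isConnected ι
  have hψ : SysColim (genSys Ys e @he F₀) ((Functor.const ι).obj ((EtCoh.pull e₀).obj F₀))
      (genψ Ys e F₀ c e₀ he₀) := genSys_sysColim Ys e @he F₀ c e₀ he₀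
  have hl : ∀ j, colimLeg (A := genSys Ys e @he F₀) (genψ Ys e F₀ c e₀ he₀) (constCocone ι ((EtCoh.pull e₀).obj F₀)) j =
      (genψ Ys e F₀ c e₀ he₀ j).hom := fun j => by
    simp only [colimLeg, constCocone, NatTrans.id_app]
    exact Category.comp_id _
  have h := hψ.comparison haff hc hqc hqs (isColimitConstCocone ι ((EtCoh.pull e₀).obj F₀)) n
  refine ⟨fun ξ => ?_, fun j x hx => ?_⟩
  · obtain ⟨j, x, hx⟩ := h.1 ξ
    rw [hl] at hx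
    exact ⟨j, x, hx⟩
  · refine h.2 j x ?_
    rw [hl]
    exact hx

end comparison

section wrappers

/-- the inverse image, as a constant (keeps the kernel from unfolding `EtCoh.pull`) -/
noncomputable def pullObj (t : Y ⟶ Z) (G : EtCoh.Ab Z) : EtCoh.Ab Y := (EtCoh.pull t).obj G

/-- relative pullback, as a constant -/
noncomputable def hVia (f : X ⟶ Y) (t : Y ⟶ Z) (f₀ : X ⟶ Z) (w : f ≫ t = f₀)
    [PreservesFiniteLimits (EtCoh.pull f)] (G : EtCoh.Ab Z) (p : ℕ) :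
    EtCoh.H Y (pullObj t G) p →+ EtCoh.H X (pullObj f₀ G) p :=
  hThen f ((EtCoh.pull t).obj G) (appOf (θPull f t f₀ w) G) p

/-- bare pullback from a stage, as a constant -/
noncomputable def hUp (u : X ⟶ Y) (t : Y ⟶ Z) [PreservesFiniteLimits (EtCoh.pull u)] (G : EtCoh.Ab Z) (p : ℕ)
    (ξ : EtCoh.H Y (pullObj t G) p) : EtCoh.H X ((EtCoh.pull u).obj ((EtCoh.pull t).obj G)) p :=
  EtCore.Hpull u ((EtCoh.pull t).obj G) p ξ

theorem HpullVia_eq (f : X ⟶ Y) (t : Y ⟶ Z) (f₀ : X ⟶ Z) (w : f ≫ t = f₀)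
    [PreservesFiniteLimits (EtCoh.pull f)] (G : EtCoh.Ab Z) (p : ℕ)
    (ξ : EtCoh.H Y ((EtCoh.pull t).obj G) p) : EtCore.HpullVia f t f₀ w G p ξ = hVia f t f₀ w G p ξ :=
  (hThen_eq_HpullVia f t f₀ w G p _ rfl ξ).symm

theorem hVia_eq_zero (f : X ⟶ Y) (t : Y ⟶ Z) (f₀ : X ⟶ Z) (w : f ≫ t = f₀)
    [PreservesFiniteLimits (EtCoh.pull f)] (G : EtCoh.Ab Z) (p : ℕ)
    (ξ : EtCoh.H Y ((EtCoh.pull t).obj G) p) (h : EtCore.HpullVia f t f₀ w G p ξ = 0) :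
    hVia f t f₀ w G p ξ = 0 :=
  hThen_eq_zero_of_HpullVia f t f₀ w G p _ rfl ξ h

/-- the vanishing of a pullback from a stage -/
def DiesAt (u : X ⟶ Y) (t : Y ⟶ Z) [PreservesFiniteLimits (EtCoh.pull u)] (G : EtCoh.Ab Z) (p : ℕ)
    (ξ : EtCoh.H Y (pullObj t G) p) : Prop :=
  EtCore.Hpull u ((EtCoh.pull t).obj G) p ξ = 0

end wrappers

section comparison'

variable {ι : Type u} [Preorder ι] [IsDirected ι (· ≤ ·)] [Nonempty ι] (Ys : ιᵒᵖ ⥤ Scheme.{u})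
  (haff : ∀ ⦃a b : ιᵒᵖ⦄ (h : a ⟶ b), IsAffineHom (Ys.map h)) (c : Cone Ys) (hc : IsLimit c)
  (hqc : ∀ a, CompactSpace ↥(Ys.obj a)) (hqs : ∀ a, QuasiSeparatedSpace ↥(Ys.obj a))
  [∀ a, PreservesFiniteLimits (EtCoh.pull (c.π.app a))]
  [∀ ⦃a b : ιᵒᵖ⦄ (h : a ⟶ b), PreservesFiniteLimits (EtCoh.pull (Ys.map h))]
  (e : ∀ i : ι, Ys.obj (op i) ⟶ Z) (he : ∀ {i j : ι} (h : i ≤ j), tr Ys h ≫ e i = e j) (F₀ : EtCoh.Ab Z)
  (e₀ : c.pt ⟶ Z) (he₀ : ∀ i : ι, c.π.app (op i) ≫ e i = e₀)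

include haff hc hqc hqs he he₀ in
/-- cohomology of an inverse image from a common base, in wrapped form -/
theorem genSys_comparison' (n : ℕ) :
    (∀ ξ : EtCoh.H c.pt (pullObj e₀ F₀) n, ∃ (j : ι) (x : EtCoh.H (Ys.obj (op j)) (pullObj (e j) F₀) n),
      hVia (c.π.app (op j)) (e j) e₀ (he₀ j) F₀ n x = ξ) ∧
    (∀ (j : ι) (x : EtCoh.H (Ys.obj (op j)) (pullObj (e j) F₀) n),
      hVia (c.π.app (op j)) (e j) e₀ (he₀ j) F₀ n x = 0 →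
        ∃ (k : ι) (h : j ≤ k), DiesAt (tr Ys h) (e j) F₀ n x) := by
  have H := genSys_comparison Ys haff c hc hqc hqs e he F₀ e₀ he₀ n
  refine ⟨fun ξ => ?_, fun j x hx => ?_⟩
  · obtain ⟨j, x, hx⟩ := H.1 ξ
    rw [genψ_hom] at hx
    exact ⟨j, x, hx⟩
  · obtain ⟨k, hk, h0⟩ := H.2 j x (by rw [genψ_hom]; exact hx)
    haveI := isIso_genφ Ys e @he F₀ hk
    exact ⟨k, hk, Hpull_eq_zero (tr Ys hk) _ (genφ Ys e @he F₀ hk) n x h0⟩

end comparison'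

section up

variable {ι : Type u} [Preorder ι] [IsDirected ι (· ≤ ·)] {Xs : ιᵒᵖ ⥤ Scheme.{u}} (i₀ : ι)

/-- the projections to the stage `i₀` -/
noncomputable def upLeg (i : Up i₀) : (upDiag Xs i₀).obj (op i) ⟶ Xs.obj (op i₀) := tr Xs i.2

omit [IsDirected ι (· ≤ ·)] in
theorem upLeg_comp {i j : Up i₀} (h : i ≤ j) : tr (upDiag Xs i₀) h ≫ upLeg i₀ i = upLeg i₀ j :=
  tr_comp Xs i.2 h

variable (haff : ∀ ⦃a b : ιᵒᵖ⦄ (h : a ⟶ b), IsAffineHom (Xs.map h)) (c : Cone Xs) (hc : IsLimit c)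
  (hqc : ∀ a, CompactSpace ↥(Xs.obj a)) (hqs : ∀ a, QuasiSeparatedSpace ↥(Xs.obj a))
  [∀ a, PreservesFiniteLimits (EtCoh.pull (c.π.app a))]
  [∀ ⦃a b : ιᵒᵖ⦄ (h : a ⟶ b), PreservesFiniteLimits (EtCoh.pull (Xs.map h))]

include haff hc hqc hqs in
/-- cohomology of the inverse image of a sheaf on a stage -/
theorem const_comparison (F₀ : EtCoh.Ab (Xs.obj (op i₀))) (n : ℕ) :
    (∀ ξ : EtCoh.H c.pt (pullObj (c.π.app (op i₀)) F₀) n,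
      ∃ (j : ι) (hj : i₀ ≤ j) (x : EtCoh.H (Xs.obj (op j)) (pullObj (tr Xs hj) F₀) n),
        hVia (c.π.app (op j)) (tr Xs hj) (c.π.app (op i₀)) (cone_w c hj) F₀ n x = ξ) ∧
    (∀ (j : ι) (hj : i₀ ≤ j) (x : EtCoh.H (Xs.obj (op j)) (pullObj (tr Xs hj) F₀) n),
      hVia (c.π.app (op j)) (tr Xs hj) (c.π.app (op i₀)) (cone_w c hj) F₀ n x = 0 →
        ∃ (k : ι) (hk : j ≤ k), DiesAt (tr Xs hk) (tr Xs hj) F₀ n x) := by
  haveI : ∀ a, PreservesFiniteLimits (EtCoh.pull ((c.whisker (upIncl i₀).op).π.app a)) := fun a =>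
    ‹∀ a, PreservesFiniteLimits (EtCoh.pull (c.π.app a))› ((upIncl i₀).op.obj a)
  haveI : ∀ ⦃a b : (Up i₀)ᵒᵖ⦄ (h : a ⟶ b), PreservesFiniteLimits (EtCoh.pull ((upDiag Xs i₀).map h)) :=
    fun a b h => ‹∀ ⦃a b : ιᵒᵖ⦄ (h : a ⟶ b), PreservesFiniteLimits (EtCoh.pull (Xs.map h))› ((upIncl i₀).op.map h)
  have H := genSys_comparison' (upDiag Xs i₀) (fun a b h => haff ((upIncl i₀).op.map h))
    (c.whisker (upIncl i₀).op) (upIsLimit Xs i₀ c hc) (fun a => hqc _) (fun a => hqs _) (upLeg i₀)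
    (fun {_ _} h => upLeg_comp i₀ h) F₀ (c.π.app (op i₀)) (fun i => cone_w c i.2) n
  refine ⟨fun ξ => ?_, fun j hj x hx => ?_⟩
  · obtain ⟨j, x, hx⟩ := H.1 ξ
    exact ⟨j.1, j.2, x, hx⟩
  · obtain ⟨k, hk, h0⟩ := H.2 ⟨j, hj⟩ x hx
    exact ⟨k.1, hk, h0⟩

end up

end Groth.Agent.EtLimit
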