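import Groth.Agent.EtLimit.PushBij

/-! the frozen transitions of direct images versus the ones of the library -/

set_option autoImplicit false
universe u

open CategoryTheory CategoryTheory.Limits AlgebraicGeometry Opposite

namespace Groth.Agent.EtLimit

set_option backward.isDefEq.respectTransparency.types false

variable {X Y Z : Scheme.{u}}

theorem pushCongr_symm_hom {f g : X ⟶ Y} (h : f = g) :
    (EtCoh.pushCongr h.symm).hom = (EtCoh.pushCongr h).inv := by
  subst h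
  rw [pushCongr_rfl]
  rfl

theorem HofPush_apply (u : X ⟶ Y) [PreservesFiniteLimits (EtCoh.pull u)] (F : EtCoh.Ab X) (n : ℕ)
    (ξ : EtCoh.H Y ((EtCoh.push u).obj F) n) :
    EtLim.HofPush u F n ξ = hThen u ((EtCoh.push u).obj F) ((EtCoh.pullPushAdj u).counit.app F) n ξ := rfl

theorem HofPush_eq_zero_iff (u : X ⟶ Y) [PreservesFiniteLimits (EtCoh.pull u)] (F : EtCoh.Ab X) (n : ℕ)
    (ξ : EtCoh.H Y ((EtCoh.push u).obj F) n) :
    EtLim.HofPush u F n ξ = 0 ↔ hThen u ((EtCoh.push u).obj F) ((EtCoh.pullPushAdj u).counit.app F) n ξ = 0 :=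
  Iff.rfl

theorem phiPush_eq (p : X ⟶ Y) (u : Y ⟶ Z) (q : X ⟶ Z) (h : p ≫ u = q) (M : EtCoh.Ab X) :
    (EtCoh.pull u).map (((EtCoh.pushCongr h.symm).app M).hom ≫ (EtCoh.pushComp u p).inv.app M) ≫
        (EtCoh.pullPushAdj u).counit.app ((EtCoh.push p).obj M) = phiPush p u q h M ≫ 𝟙 _ := by
  rw [phiPush, Adjunction.homEquiv_counit, Category.comp_id]
  refine congrArg (fun t => (EtCoh.pull u).map t ≫ (EtCoh.pullPushAdj u).counit.app _) ?_
  exact congrArg (· ≫ (EtCoh.pushComp u p).inv.app M) (congrArg (fun t => t.app M) (pushCongr_symm_hom h))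

theorem HpushTrans_apply (p : X ⟶ Y) (u : Y ⟶ Z) (q : X ⟶ Z) (h : p ≫ u = q)
    [PreservesFiniteLimits (EtCoh.pull u)] (M : EtCoh.Ab X) (n : ℕ) (ξ : EtCoh.H Z ((EtCoh.push q).obj M) n) :
    EtLim.HpushTrans u p q h M n ξ = hThen u ((EtCoh.push q).obj M) (phiPush p u q h M) n ξ := by
  refine (HpullThen_natural u (phiPush p u q h M) ((EtCoh.pullPushAdj u).counit.app ((EtCoh.push p).obj M))
    (((EtCoh.pushCongr h.symm).app M).hom ≫ (EtCoh.pushComp u p).inv.app M) (𝟙 _) (phiPush_eq p u q h M) n ξ).trans ?_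
  exact Abelian.Ext.comp_mk₀_id _

theorem HpushTrans_eq_zero (p : X ⟶ Y) (u : Y ⟶ Z) (q : X ⟶ Z) (h : p ≫ u = q)
    [PreservesFiniteLimits (EtCoh.pull u)] (M : EtCoh.Ab X) (n : ℕ) (ξ : EtCoh.H Z ((EtCoh.push q).obj M) n)
    (h0 : hThen u ((EtCoh.push q).obj M) (phiPush p u q h M) n ξ = 0) : EtLim.HpushTrans u p q h M n ξ = 0 :=
  (HpushTrans_apply p u q h M n ξ).trans h0

end Groth.Agent.EtLimit
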