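import Groth.Agent.EtLimit.Compare
import Groth.Agent.EtFound.PullGerm
import Groth.Agent.EtFound.Germ

/-! cohomology of the colimit of a compatible system of sheaves on a limit -/

set_option autoImplicit false
set_option linter.style.haveILetI false
universe u

open CategoryTheory CategoryTheory.Limits AlgebraicGeometry Opposite

namespace Groth.Agent.EtLimit

open Groth.Agent.EtFound

set_option backward.isDefEq.respectTransparency.types false

section germs

variable {X Y : Scheme.{u}} {Ω : Type u} [Field Ω] [IsSepClosed Ω] (f : X ⟶ Y)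
  (ξ : Spec (CommRingCat.of Ω) ⟶ X)

theorem stalk_map_germ {F G : EtCoh.Ab X} (a : F ⟶ G) (U : X.Etale)
    (t : (Scheme.pointSmallEtale ξ).fiber.obj U) (s : F.obj.obj (op U)) :
    (EtCoh.stalk ξ).map a ((Scheme.pointSmallEtale ξ).toPresheafFiber U t F.obj s) =
      (Scheme.pointSmallEtale ξ).toPresheafFiber U t G.obj (a.hom.app (op U) s) :=
  (Scheme.pointSmallEtale ξ).toPresheafFiber_naturality_apply a.hom U t s

set_option maxHeartbeats 1000000 in
theorem germ_unit (G : EtCoh.Ab Y) (V : Y.Etale)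
    (t : (Scheme.pointSmallEtale ξ).fiber.obj ((EtCoh.bc f).obj V)) (s : G.obj.obj (op V)) :
    (Scheme.pointSmallEtale ξ).toPresheafFiber _ t ((EtCoh.pull f).obj G).obj
        (((EtCoh.pullPushAdj f).unit.app G).hom.app (op V) s) =
      (sheafFiberPullIso f ξ).inv.app G
        ((Scheme.pointSmallEtale (ξ ≫ f)).toPresheafFiber V (bcFiberEquiv f ξ V t) G.obj s) :=
  ((ConcreteCategory.congr_hom (sheafFiberPullIso_germ f ξ G V t) s).trans
    (ConcreteCategory.comp_apply _ _ s)).symm.trans (ConcreteCategory.comp_apply _ _ s)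

theorem bcFiberEquiv_natural {V W : Y.Etale} (g : V ⟶ W)
    (t : (Scheme.pointSmallEtale ξ).fiber.obj ((EtCoh.bc f).obj V)) :
    bcFiberEquiv f ξ W ((Scheme.pointSmallEtale ξ).fiber.map ((EtCoh.bc f).map g) t) =
      (Scheme.pointSmallEtale (ξ ≫ f)).fiber.map g (bcFiberEquiv f ξ V t) :=
  CategoryTheory.Over.OverMorphism.ext <|
    ((Category.assoc (t.left : Spec (CommRingCat.of Ω) ⟶ ((EtCoh.bc f).obj V).left) ((EtCoh.bc f).map g).left
        (pullback.fst W.hom f)).trans (congrArg (_ ≫ ·) (EtCoh.isPullback_bc_map f g).w)).trans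
      (Category.assoc _ _ _).symm

theorem exists_common_nhd {U V : X.Etale} (u : (Scheme.pointSmallEtale ξ).fiber.obj U)
    (v : (Scheme.pointSmallEtale ξ).fiber.obj V) :
    ∃ (T : X.Etale) (a : T ⟶ U) (b : T ⟶ V) (t : (Scheme.pointSmallEtale ξ).fiber.obj T),
      (Scheme.pointSmallEtale ξ).fiber.map a t = u ∧ (Scheme.pointSmallEtale ξ).fiber.map b t = v := by
  obtain ⟨⟨T, t⟩, ⟨a, ha⟩, ⟨b, hb⟩, -⟩ := IsCofilteredOrEmpty.cone_objs
    ((Scheme.pointSmallEtale ξ).fiber.elementsMk U u) ((Scheme.pointSmallEtale ξ).fiber.elementsMk V v)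
  exact ⟨T, a, b, t, ha, hb⟩

/-- the underlying point of a geometric point -/
noncomputable abbrev ptOf {U : X.Etale} (t : (Scheme.pointSmallEtale ξ).fiber.obj U) : U.left :=
  (t.left : Spec (CommRingCat.of Ω) ⟶ U.left).base (default : Spec (CommRingCat.of Ω))

theorem ptOf_map {U V : X.Etale} (g : V ⟶ U) (t : (Scheme.pointSmallEtale ξ).fiber.obj V) :
    ptOf ξ ((Scheme.pointSmallEtale ξ).fiber.map g t) = g.left.base (ptOf ξ t) := rfl

theorem ptOf_bcFiberEquiv (V : Y.Etale) (t : (Scheme.pointSmallEtale ξ).fiber.obj ((EtCoh.bc f).obj V)) :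
    ptOf (ξ ≫ f) (bcFiberEquiv f ξ V t) = (pullback.fst V.hom f).base (ptOf ξ t) := rfl

end germs

variable {ι : Type u} [Preorder ι] {Xs : ιᵒᵖ ⥤ Scheme.{u}} (c : Cone Xs)

theorem tauMap_prTo {j k : ι} (h : j ≤ k) (W : (Xs.obj (op j)).Etale) :
    (tauMap (c.π.app (op k)) (tr Xs h) (c.π.app (op j)) (cone_w c h) W).left ≫ prTo c h W =
      pullback.fst (pullback.snd W.hom (tr Xs h)) (c.π.app (op k)) := by
  let a := tauMap (c.π.app (op k)) (tr Xs h) (c.π.app (op j)) (cone_w c h) W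
  refine pullback.hom_ext ?_ ?_
  · refine (Category.assoc _ _ _).trans ((congrArg (a.left ≫ ·) (pullback.lift_fst _ _ _)).trans ?_)
    exact tauMap_fst _ _ _ _ W
  · refine (Category.assoc _ _ _).trans ((congrArg (a.left ≫ ·) (pullback.lift_snd _ _ _)).trans ?_)
    refine (Category.assoc _ _ _).symm.trans ((congrArg (· ≫ c.π.app (op k)) (MorphismProperty.Over.w a)).trans ?_)
    exact pullback.condition.symm

theorem prTo_comp {j k l : ι} (h : j ≤ k) (h' : k ≤ l) (W : (Xs.obj (op j)).Etale) :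
    prTo c h' ((EtCoh.bc (tr Xs h)).obj W) ≫
        (tauMap (tr Xs h') (tr Xs h) (tr Xs (h.trans h')) (tr_comp Xs h h') W).left =
      (tauMap (c.π.app (op k)) (tr Xs h) (c.π.app (op j)) (cone_w c h) W).left ≫ prTo c (h.trans h') W := by
  let a := tauMap (tr Xs h') (tr Xs h) (tr Xs (h.trans h')) (tr_comp Xs h h') W
  let b := tauMap (c.π.app (op k)) (tr Xs h) (c.π.app (op j)) (cone_w c h) W
  refine pullback.hom_ext ?_ ?_
  · refine (Category.assoc _ _ _).trans ((congrArg (prTo c h' _ ≫ ·) (tauMap_fst _ _ _ _ W)).trans ?_)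
    refine (Category.assoc _ _ _).symm.trans ((congrArg (· ≫ pullback.fst W.hom (tr Xs h)) (pullback.lift_fst _ _ _)).trans ?_)
    refine (tauMap_fst (c.π.app (op k)) (tr Xs h) (c.π.app (op j)) (cone_w c h) W).symm.trans ?_
    exact ((Category.assoc _ _ _).trans (congrArg (b.left ≫ ·) (pullback.lift_fst _ _ _))).symm
  · refine (Category.assoc _ _ _).trans ((congrArg (prTo c h' _ ≫ ·) (MorphismProperty.Over.w a)).trans ?_)
    refine (pullback.lift_snd _ _ _).trans ?_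
    refine Eq.trans ?_ ((Category.assoc _ _ _).trans (congrArg (b.left ≫ ·) (pullback.lift_snd _ _ _))).symm
    refine Eq.trans ?_ (Category.assoc _ _ _)
    exact congrArg (· ≫ c.π.app (op l)) (MorphismProperty.Over.w b).symm

/-- iterated transitions -/
theorem Sys.map_tauMap_τ (A : Sys Xs) {j k l : ι} (h : j ≤ k) (h' : k ≤ l) (W : (Xs.obj (op j)).Etale)
    (s : (A.obj j).obj.obj (op W)) :
    (A.obj l).obj.map (tauMap (tr Xs h') (tr Xs h) (tr Xs (h.trans h')) (tr_comp Xs h h') W).op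
        ((A.τ (h.trans h')).hom.app (op W) s) =
      (A.τ h').hom.app (op ((EtCoh.bc (tr Xs h)).obj W)) ((A.τ h).hom.app (op W) s) := by
  have hs : (A.τ (h.trans h')).hom.app (op W) s =
      ((EtCoh.pushComp (tr Xs h) (tr Xs h')).hom.app (A.obj l) ≫
        (EtCoh.pushCongr (tr_comp Xs h h')).hom.app (A.obj l)).hom.app (op W)
        ((A.τ h').hom.app (op ((EtCoh.bc (tr Xs h)).obj W)) ((A.τ h).hom.app (op W) s)) := by
    rw [A.τ_trans h h']
    rfl
  rw [hs, ← tauPush_app]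
  refine (ConcreteCategory.comp_apply _ _ _).symm.trans ?_
  have e1 : ((EtCoh.pushComp (tr Xs h) (tr Xs h')).hom.app (A.obj l) ≫
      (EtCoh.pushCongr (tr_comp Xs h h')).hom.app (A.obj l)) ≫
        tauPush (tr Xs h') (tr Xs h) (tr Xs (h.trans h')) (tr_comp Xs h h') (A.obj l) = 𝟙 _ := by
    simp [tauPush]
  exact (ConcreteCategory.congr_hom (congrArg (fun k => k.hom.app (op W)) e1) _).trans rfl

variable {c} (A : Sys Xs) (G : ι ⥤ EtCoh.Ab c.pt)
  (ψ : ∀ i : ι, (EtCoh.pull (c.π.app (op i))).obj (A.obj i) ≅ G.obj i)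

/-- compatibility with the transitions -/
def SysColim : Prop :=
  ∀ {i j : ι} (h : i ≤ j),
    (θPull (c.π.app (op j)) (tr Xs h) (c.π.app (op i)) (cone_w c h)).hom.app (A.obj i) ≫
        (ψ i).hom ≫ G.map (homOfLE h) =
      (EtCoh.pull (c.π.app (op j))).map (A.φ h) ≫ (ψ j).hom

variable {A G ψ}

/-- the maps to a cocone point -/
noncomputable def colimLeg (ψ : ∀ i : ι, (EtCoh.pull (c.π.app (op i))).obj (A.obj i) ≅ G.obj i) (C : Cocone G)
    (i : ι) : (EtCoh.pull (c.π.app (op i))).obj (A.obj i) ⟶ C.pt :=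
  (ψ i).hom ≫ C.ι.app i

theorem leg_chase {K : Type*} [Category* K] {S T U V W Z : K} {θ : S ⟶ T} {p : T ⟶ U} {g : U ⟶ V} {φ : S ⟶ W}
    {q : W ⟶ V} {li : U ⟶ Z} {lj : V ⟶ Z} (hg : g ≫ lj = li) (e : θ ≫ p ≫ g = φ ≫ q) :
    θ ≫ p ≫ li = φ ≫ q ≫ lj := by
  rw [← hg, reassoc_of% e]

theorem SysColim.compatible (hψ : SysColim A G ψ) (C : Cocone G) : Compatible c A C.pt (colimLeg ψ C) :=
  fun {_ _} h => leg_chase (C.w (homOfLE h)) (hψ h)

theorem transition_app {M : EtCoh.Ab c.pt} {i j : ι} (h : i ≤ j)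
    (αi : (EtCoh.pull (c.π.app (op i))).obj (A.obj i) ⟶ M)
    (αj : (EtCoh.pull (c.π.app (op j))).obj (A.obj j) ⟶ M)
    (e : (θPull (c.π.app (op j)) (tr Xs h) (c.π.app (op i)) (cone_w c h)).hom.app (A.obj i) ≫ αi =
      (EtCoh.pull (c.π.app (op j))).map (A.φ h) ≫ αj)
    (W : (Xs.obj (op i)).Etale) (s : (A.obj i).obj.obj (op W)) :
    M.obj.map (tauMap (c.π.app (op j)) (tr Xs h) (c.π.app (op i)) (cone_w c h) W).op
        (((EtCoh.pullPushAdj (c.π.app (op i))).homEquiv _ _ αi).hom.app (op W) s) =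
      ((EtCoh.pullPushAdj (c.π.app (op j))).homEquiv _ _ αj).hom.app (op ((EtCoh.bc (tr Xs h)).obj W))
        ((A.τ h).hom.app (op W) s) := by
  have e' := homEquiv_of_cocycle (c.π.app (op j)) (tr Xs h) (c.π.app (op i)) (cone_w c h) (A.φ h) αj αi e
  have e1 : (EtCoh.pullPushAdj (c.π.app (op i))).homEquiv _ _ αi ≫
      tauPush (c.π.app (op j)) (tr Xs h) (c.π.app (op i)) (cone_w c h) M =
        A.τ h ≫ (EtCoh.push (tr Xs h)).map ((EtCoh.pullPushAdj (c.π.app (op j))).homEquiv _ _ αj) := by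
    refine (congrArg (· ≫ tauPush (c.π.app (op j)) (tr Xs h) (c.π.app (op i)) (cone_w c h) M) e').trans ?_
    simp [tauPush, Sys.τ]
  rw [← tauPush_app]
  exact ConcreteCategory.congr_hom (congrArg (fun t => t.hom.app (op W)) e1) s

theorem homEquiv_app {X Y : Scheme.{u}} (f : X ⟶ Y) {F : EtCoh.Ab Y} {M : EtCoh.Ab X}
    (α : (EtCoh.pull f).obj F ⟶ M) (W : Y.Etale) (s : F.obj.obj (op W)) :
    ((EtCoh.pullPushAdj f).homEquiv _ _ α).hom.app (op W) s =
      α.hom.app (op ((EtCoh.bc f).obj W)) (((EtCoh.pullPushAdj f).unit.app F).hom.app (op W) s) := by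
  rw [Adjunction.homEquiv_unit]
  rfl

theorem adjHom_app_apply {M : EtCoh.Ab c.pt} {α : ∀ i : ι, (EtCoh.pull (c.π.app (op i))).obj (A.obj i) ⟶ M}
    (hα : Compatible c A M α) (i : ι) (W : (Xs.obj (op i)).Etale) (s : (A.obj i).obj.obj (op W)) :
    ((adjHom hα).app i).hom.app (op W) s =
      (α i).hom.app (op ((EtCoh.bc (c.π.app (op i))).obj W))
        (((EtCoh.pullPushAdj (c.π.app (op i))).unit.app (A.obj i)).hom.app (op W) s) :=
  homEquiv_app (c.π.app (op i)) (α i) W s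

theorem exists_point_tauMap {j k : ι} (h : j ≤ k) (W : (Xs.obj (op j)).Etale) {Ω : Type u} [Field Ω]
    [IsSepClosed Ω] {ξ : Spec (CommRingCat.of Ω) ⟶ c.pt}
    (u : (Scheme.pointSmallEtale ξ).fiber.obj ((EtCoh.bc (c.π.app (op j))).obj W)) :
    ∃ t : (Scheme.pointSmallEtale ξ).fiber.obj
        ((EtCoh.bc (c.π.app (op k))).obj ((EtCoh.bc (tr Xs h)).obj W)),
      (Scheme.pointSmallEtale ξ).fiber.map
        (tauMap (c.π.app (op k)) (tr Xs h) (c.π.app (op j)) (cone_w c h) W) t = u ∧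
      (pullback.fst (pullback.snd W.hom (tr Xs h)) (c.π.app (op k))).base (ptOf ξ t) =
        (prTo c h W).base (ptOf ξ u) := by
  let T := tauMap (c.π.app (op k)) (tr Xs h) (c.π.app (op j)) (cone_w c h) W
  haveI : IsIso T := Iso.isIso_hom
    (((MorphismProperty.Over.pullbackComp (P := EtCoh.etaleMP) (Q := ⊤) (c.π.app (op k)) (tr Xs h)).app W).symm ≪≫
      (MorphismProperty.Over.pullbackCongr (P := EtCoh.etaleMP) (Q := ⊤) (cone_w c h)).app W)
  let F := (Scheme.pointSmallEtale ξ).fiber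
  refine ⟨F.map (inv T) u, ?_, ?_⟩
  · refine (FunctorToTypes.map_comp_apply F (inv T) T u).symm.trans ?_
    rw [IsIso.inv_hom_id]
    exact FunctorToTypes.map_id_apply F u
  · have e : (inv T).left ≫ T.left ≫ prTo c h W = prTo c h W :=
      (Category.assoc _ _ _).symm.trans ((congrArg (· ≫ prTo c h W)
        (congrArg (fun g => g.left) (IsIso.inv_hom_id T))).trans (Category.id_comp _))
    rw [← tauMap_prTo c h W, ptOf_map]
    exact (Scheme.Hom.comp_apply _ _ _).symm.trans (congrArg (fun g => g.base (ptOf ξ u)) e)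

variable [IsDirected ι (· ≤ ·)]

theorem isFiltered_index [Nonempty ι] : IsFiltered ι := isFiltered_of_directed_le_nonempty ι

/-- sections killed in the colimit die at a stage -/
theorem SysColim.nearInj (hψ : SysColim A G ψ) {C : Cocone G} (hC : IsColimit C) :
    NearInj (adjHom (hψ.compatible C)) := by
  intro j W _ s hs y
  haveI : Nonempty ι := ⟨j⟩
  haveI := isFiltered_index (ι := ι)
  obtain ⟨Ω, _, _, ξ, u, hu⟩ := exists_point_through (X := c.pt) ((EtCoh.bc (c.π.app (op j))).obj W) y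
  let Φ := Scheme.pointSmallEtale ξ
  let Wj := (EtCoh.bc (c.π.app (op j))).obj W
  let t₀ : (G.obj j).obj.obj (op Wj) := (ψ j).hom.hom.app (op Wj)
    (((EtCoh.pullPushAdj (c.π.app (op j))).unit.app (A.obj j)).hom.app (op W) s)
  have h0 : (C.ι.app j).hom.app (op Wj) t₀ = 0 :=
    (ConcreteCategory.comp_apply _ _ _).symm.trans ((adjHom_app_apply (hψ.compatible C) j W s).symm.trans hs)
  let col := isColimitOfPreserves (EtCoh.stalk ξ) hC
  have h1 : (EtCoh.stalk ξ).map (C.ι.app j) (Φ.toPresheafFiber Wj u (G.obj j).obj t₀) =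
      (EtCoh.stalk ξ).map (C.ι.app j) 0 := by
    rw [stalk_map_germ, h0, map_zero, map_zero]
    rfl
  obtain ⟨k, g, g', hg⟩ := Concrete.isColimit_exists_of_rep_eq (G ⋙ EtCoh.stalk ξ) col _ _ h1
  let h : j ≤ k := leOfHom g
  let πk := c.π.app (op k)
  let Wk := (EtCoh.bc πk).obj ((EtCoh.bc (tr Xs h)).obj W)
  have hg0 : (EtCoh.stalk ξ).map (G.map (homOfLE h)) (Φ.toPresheafFiber Wj u (G.obj j).obj t₀) = 0 := by
    rw [show homOfLE h = g from Subsingleton.elim _ _]
    exact hg.trans (map_zero _)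
  obtain ⟨t, ht, htp⟩ := exists_point_tauMap (c := c) h W u
  let σ := (A.τ h).hom.app (op W) s
  let η := ((EtCoh.pullPushAdj πk).unit.app (A.obj k)).hom.app (op ((EtCoh.bc (tr Xs h)).obj W))
  have hT : (G.obj k).obj.map (tauMap πk (tr Xs h) (c.π.app (op j)) (cone_w c h) W).op
      ((G.map (homOfLE h)).hom.app (op Wj) t₀) = (ψ k).hom.hom.app (op Wk) (η σ) := by
    have e := transition_app h ((ψ j).hom ≫ G.map (homOfLE h)) (ψ k).hom (hψ h) W s
    rw [homEquiv_app, homEquiv_app] at e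
    exact e
  have h2 : (EtCoh.stalk ξ).map (ψ k).hom (Φ.toPresheafFiber Wk t ((EtCoh.pull πk).obj (A.obj k)).obj (η σ)) = 0 := by
    rw [stalk_map_germ, ← hT]
    rw [stalk_map_germ, ← ht] at hg0
    exact (Φ.toPresheafFiber_w_apply _ t _ _).trans hg0
  have h3 : Φ.toPresheafFiber Wk t ((EtCoh.pull πk).obj (A.obj k)).obj (η σ) = 0 := by
    have := congrArg ((EtCoh.stalk ξ).map (ψ k).inv) h2
    rw [map_zero] at this
    refine Eq.trans ?_ this
    exact ((ConcreteCategory.comp_apply _ _ _).symm.trans ((ConcreteCategory.congr_hom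
      (((EtCoh.stalk ξ).map_comp _ _).symm.trans ((congrArg (EtCoh.stalk ξ).map (ψ k).hom_inv_id).trans
        ((EtCoh.stalk ξ).map_id _))) _).trans (ConcreteCategory.id_apply _))).symm
  have h4 : Φ.toPresheafFiber Wk t ((EtCoh.pull πk).obj (A.obj k)).obj (η σ) =
      Φ.toPresheafFiber Wk t ((EtCoh.pull πk).obj (A.obj k)).obj (η 0) := by
    exact h3.trans ((congrArg _ (map_zero η.hom)).trans (map_zero _)).symm
  have h5 := (germ_unit_eq_iff πk ξ (A.obj k) _ t σ 0).1 h4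
  obtain ⟨W', m, w', hw', hm⟩ := ((Scheme.pointSmallEtale (ξ ≫ πk)).toPresheafFiber_eq_iff' _ _ _ _).1 h5
  refine ⟨k, h, W', m, ptOf (ξ ≫ πk) w', ?_, hm.trans (map_zero _)⟩
  rw [← ptOf_map, hw', ptOf_bcFiberEquiv]
  exact htp.trans (congrArg (prTo c h W).base (hu _))

/-- sections of the colimit come from stages near every point -/
theorem SysColim.nearSurj (haff : ∀ ⦃a b : ιᵒᵖ⦄ (h : a ⟶ b), IsAffineHom (Xs.map h)) (hlim : IsLimit c)
    (hψ : SysColim A G ψ) {C : Cocone G} (hC : IsColimit C) : NearSurj (adjHom (hψ.compatible C)) := by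
  intro j W _ s y
  haveI : Nonempty ι := ⟨j⟩
  haveI := isFiltered_index (ι := ι)
  obtain ⟨Ω, _, _, ξ, u, hu⟩ := exists_point_through (X := c.pt) ((EtCoh.bc (c.π.app (op j))).obj W) y
  let Φ := Scheme.pointSmallEtale ξ
  let col := isColimitOfPreserves (EtCoh.stalk ξ) hC
  let Wj := (EtCoh.bc (c.π.app (op j))).obj W
  obtain ⟨k₀, e₀, he₀⟩ := Concrete.isColimit_exists_rep (G ⋙ EtCoh.stalk ξ) col (Φ.toPresheafFiber Wj u C.pt.obj s)
  obtain ⟨l, hjl, hkl⟩ := directed_of (· ≤ ·) j k₀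
  let e := (EtCoh.stalk ξ).map (G.map (homOfLE hkl)) e₀
  have he : (EtCoh.stalk ξ).map (C.ι.app l) e = Φ.toPresheafFiber Wj u C.pt.obj s := by
    refine (ConcreteCategory.comp_apply _ _ e₀).symm.trans (Eq.trans ?_ he₀)
    exact ConcreteCategory.congr_hom (((EtCoh.stalk ξ).map_comp _ _).symm.trans
      (congrArg (EtCoh.stalk ξ).map (C.w (homOfLE hkl)))) e₀
  let πl := c.π.app (op l)
  let r := (EtCoh.stalk ξ).map (ψ l).inv e
  let Ψ := Scheme.pointSmallEtale (ξ ≫ πl)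
  obtain ⟨W₂, w₂, p, hp⟩ := Ψ.toPresheafFiber_jointly_surjective ((sheafFiberPullIso πl ξ).hom.app (A.obj l) r)
  obtain ⟨t, ht, htp⟩ := exists_point_tauMap (c := c) hjl W u
  let Wl := (EtCoh.bc (tr Xs hjl)).obj W
  obtain ⟨W₃, g₁, g₂, w₃, hg₁, hg₂⟩ := exists_common_nhd (ξ ≫ πl) (bcFiberEquiv πl ξ Wl t) w₂
  let p₃ := (A.obj l).obj.map g₂.op p
  let t₃ := (bcFiberEquiv πl ξ W₃).symm w₃
  let B := (EtCoh.bc πl).obj W₃
  let a := adjHom (hψ.compatible C)
  let q₁ : C.pt.obj.obj (op B) := (a.app l).hom.app (op W₃) p₃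
  let q₂ : C.pt.obj.obj (op B) := (pushObj c C.pt l).obj.map g₁.op (((pushSys c C.pt).τ hjl).hom.app (op W) s)
  have hq₁ : Φ.toPresheafFiber B t₃ C.pt.obj q₁ = Φ.toPresheafFiber Wj u C.pt.obj s := by
    rw [← he]
    have h1 : Φ.toPresheafFiber B t₃ ((EtCoh.pull πl).obj (A.obj l)).obj (((EtCoh.pullPushAdj πl).unit.app (A.obj l)).hom.app (op W₃) p₃) = r := by
      refine (germ_unit πl ξ (A.obj l) W₃ t₃ p₃).trans ?_
      rw [Equiv.apply_symm_apply]
      have hp₃ : Ψ.toPresheafFiber W₃ w₃ (A.obj l).obj p₃ = (sheafFiberPullIso πl ξ).hom.app (A.obj l) r :=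
        (Ψ.toPresheafFiber_w_apply g₂ w₃ _ p).trans
          ((congrArg (fun x => Ψ.toPresheafFiber W₂ x (A.obj l).obj p) hg₂).trans hp)
      exact (congrArg _ hp₃).trans ((ConcreteCategory.comp_apply _ _ r).symm.trans
        ((ConcreteCategory.congr_hom ((sheafFiberPullIso πl ξ).hom_inv_id_app (A.obj l)) r).trans
          (ConcreteCategory.id_apply r)))
    refine (congrArg _ (adjHom_app_apply (hψ.compatible C) l W₃ p₃)).trans ?_
    refine (stalk_map_germ ξ (colimLeg ψ C l) B t₃ _).symm.trans ?_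
    rw [h1]
    refine (ConcreteCategory.congr_hom ((EtCoh.stalk ξ).map_comp _ _) r).trans ?_
    refine (ConcreteCategory.comp_apply _ _ r).trans (congrArg _ ?_)
    exact (ConcreteCategory.comp_apply _ _ e).symm.trans ((ConcreteCategory.congr_hom
      (((EtCoh.stalk ξ).map_comp _ _).symm.trans ((congrArg (EtCoh.stalk ξ).map (ψ l).inv_hom_id).trans
        ((EtCoh.stalk ξ).map_id _))) e).trans (ConcreteCategory.id_apply e))
  have h1 : Φ.fiber.map ((EtCoh.bc πl).map g₁) t₃ = t := by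
    apply (bcFiberEquiv πl ξ Wl).injective
    rw [bcFiberEquiv_natural, Equiv.apply_symm_apply, hg₁]
  have hq₂ : Φ.toPresheafFiber B t₃ C.pt.obj q₂ = Φ.toPresheafFiber Wj u C.pt.obj s := by
    refine (Φ.toPresheafFiber_w_apply ((EtCoh.bc πl).map g₁) t₃ _ _).trans ?_
    rw [h1, τ_pushSys, tauPush_app]
    exact (Φ.toPresheafFiber_w_apply _ t _ s).trans (congrArg (fun x => Φ.toPresheafFiber Wj x C.pt.obj s) ht)
  obtain ⟨V, m₀, v, hv, hm₀⟩ := (Φ.toPresheafFiber_eq_iff' B t₃ q₁ q₂).1 (hq₁.trans hq₂.symm)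
  obtain ⟨k, hlk, W', m, w, H, -, hw, hH⟩ := exists_stage_refine haff c hlim W₃ m₀ (ptOf ξ v)
  let n₁ := (EtCoh.bc (tr Xs hlk)).map g₁
  let T := tauMap (tr Xs hlk) (tr Xs hjl) (tr Xs (hjl.trans hlk)) (tr_comp Xs hjl hlk) W
  let P := pushSys c C.pt
  refine ⟨k, hjl.trans hlk, W', m ≫ n₁ ≫ T, w, (A.obj k).obj.map m.op ((A.τ hlk).hom.app (op W₃) p₃), ?_, ?_⟩
  · refine (Scheme.Hom.comp_apply _ _ w).trans ((congrArg (n₁ ≫ T).left.base hw).trans ?_)
    rw [← ptOf_map, hv]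
    have hz : n₁.left.base ((prTo c hlk W₃).base (ptOf ξ t₃)) = (prTo c hlk Wl).base (ptOf ξ t) := by
      refine (Scheme.Hom.comp_apply _ _ _).symm.trans
        ((congrArg (fun g => g.base (ptOf ξ t₃)) (prTo_natural c hlk g₁)).trans ?_)
      exact (Scheme.Hom.comp_apply _ _ _).trans (congrArg (prTo c hlk Wl).base (congrArg (ptOf ξ) h1))
    refine (Scheme.Hom.comp_apply _ _ _).trans ((congrArg T.left.base hz).trans ?_)
    refine (Scheme.Hom.comp_apply _ _ _).symm.trans ((congrArg (fun g => g.base (ptOf ξ t)) (prTo_comp c hjl hlk W)).trans ?_)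
    refine (Scheme.Hom.comp_apply _ _ _).trans (congrArg _ ?_)
    rw [← ptOf_map, ht]
    exact hu _
  · have e1 : (a.app k).hom.app (op W') ((A.obj k).obj.map m.op ((A.τ hlk).hom.app (op W₃) p₃)) =
        (P.obj k).obj.map m.op ((P.τ hlk).hom.app (op W₃) q₁) := by
      refine (ConcreteCategory.congr_hom ((a.app k).hom.naturality m.op) _).trans ?_
      refine (ConcreteCategory.comp_apply _ _ _).trans (congrArg _ ?_)
      exact (ConcreteCategory.congr_hom (congrArg (fun t => t.hom.app (op W₃)) (a.τ_natural hlk)) p₃).symm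
    have e2 : (P.obj k).obj.map m.op ((P.τ hlk).hom.app (op W₃) q₁) =
        (P.obj k).obj.map m.op ((P.τ hlk).hom.app (op W₃) q₂) := by
      rw [τ_pushSys, tauPush_app]
      change C.pt.obj.map ((EtCoh.bc (c.π.app (op k))).map m).op (C.pt.obj.map _ q₁) =
        C.pt.obj.map ((EtCoh.bc (c.π.app (op k))).map m).op (C.pt.obj.map _ q₂)
      rw [← ConcreteCategory.comp_apply, ← ConcreteCategory.comp_apply, ← Functor.map_comp, ← op_comp, ← hH,
        op_comp, Functor.map_comp, ConcreteCategory.comp_apply, ConcreteCategory.comp_apply, hm₀]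
    have e3 : (P.τ hlk).hom.app (op W₃) q₂ =
        (P.obj k).obj.map (n₁ ≫ T).op ((P.τ (hjl.trans hlk)).hom.app (op W) s) := by
      refine (ConcreteCategory.congr_hom ((P.τ hlk).hom.naturality g₁.op) _).trans ?_
      refine (ConcreteCategory.comp_apply _ _ _).trans ?_
      rw [op_comp, Functor.map_comp]
      exact (congrArg _ (P.map_tauMap_τ hjl hlk W s).symm).trans (ConcreteCategory.comp_apply _ _ _).symm
    refine e1.trans (e2.trans ?_)
    rw [e3, op_comp (f := m) (g := n₁ ≫ T), Functor.map_comp]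
    exact (ConcreteCategory.comp_apply _ _ _).symm

variable [Nonempty ι] [∀ a, PreservesFiniteLimits (EtCoh.pull (c.π.app a))]
  [∀ ⦃a b : ιᵒᵖ⦄ (h : a ⟶ b), PreservesFiniteLimits (EtCoh.pull (Xs.map h))]

/-- cohomology of a colimit of a compatible system -/
theorem SysColim.comparison (haff : ∀ ⦃a b : ιᵒᵖ⦄ (h : a ⟶ b), IsAffineHom (Xs.map h)) (hlim : IsLimit c)
    (hqc : ∀ a, CompactSpace ↥(Xs.obj a)) (hqs : ∀ a, QuasiSeparatedSpace ↥(Xs.obj a))
    (hψ : SysColim A G ψ) {C : Cocone G} (hC : IsColimit C) (n : ℕ) :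
    (∀ ξ : EtCoh.H c.pt C.pt n, ∃ (j : ι) (x : EtCoh.H (Xs.obj (op j)) (A.obj j) n),
      hThen (c.π.app (op j)) (A.obj j) (colimLeg ψ C j) n x = ξ) ∧
    (∀ (j : ι) (x : EtCoh.H (Xs.obj (op j)) (A.obj j) n),
      hThen (c.π.app (op j)) (A.obj j) (colimLeg ψ C j) n x = 0 → ∃ (k : ι) (h : j ≤ k), A.Tr h n x = 0) :=
  EtLimit.comparison haff hlim hqc hqs (hψ.compatible C) (hψ.nearInj hC) (hψ.nearSurj haff hlim hC) n

end Groth.Agent.EtLimit
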