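import Groth.Agent.EtLimit.ColimCase
import Groth.Prelude.Def_EtLim

/-! sheaves given by a presheaf on all schemes commuting with affine limits -/

set_option autoImplicit false
set_option linter.style.haveILetI false
universe u

open CategoryTheory CategoryTheory.Limits AlgebraicGeometry Opposite

namespace Groth.Agent.EtLimit

open Groth.Agent.EtFound

set_option backward.isDefEq.respectTransparency.types false

/-- a presheaf on schemes turning affine limits of qcqs schemes into colimits -/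
structure LimitColimit (P : Scheme.{u}ᵒᵖ ⥤ AddCommGrpCat.{u + 1}) : Prop where
  inj : ∀ {I : Type u} [SmallCategory I] [IsCofiltered I] (D : I ⥤ Scheme.{u}) (c : Cone D) (_ : IsLimit c)
    [∀ {i j} (f : i ⟶ j), IsAffineHom (D.map f)] [∀ i, CompactSpace (D.obj i)] [∀ i, QuasiSeparatedSpace (D.obj i)]
    (i : I) (s : P.obj (op (D.obj i))), P.map (c.π.app i).op s = 0 →
      ∃ (j : I) (f : j ⟶ i), P.map (D.map f).op s = 0
  surj : ∀ {I : Type u} [SmallCategory I] [IsCofiltered I] (D : I ⥤ Scheme.{u}) (c : Cone D) (_ : IsLimit c)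
    [∀ {i j} (f : i ⟶ j), IsAffineHom (D.map f)] [∀ i, CompactSpace (D.obj i)] [∀ i, QuasiSeparatedSpace (D.obj i)]
    (σ : P.obj (op c.pt)), ∃ (i : I) (t : P.obj (op (D.obj i))), P.map (c.π.app i).op t = σ

variable (P : Scheme.{u}ᵒᵖ ⥤ AddCommGrpCat.{u + 1}) (hP : Presheaf.IsSheaf Scheme.etaleTopology P)

/-- the restriction to a small site -/
noncomputable def glob (X : Scheme.{u}) : EtCoh.Ab X :=
  ((Scheme.Etale.forget X ⋙ Over.forget X).sheafPushforwardContinuous _ _ Scheme.etaleTopology).obj ⟨P, hP⟩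

/-- functoriality in the scheme -/
noncomputable def globPush {X Y : Scheme.{u}} (u : X ⟶ Y) : glob P hP Y ⟶ (EtCoh.push u).obj (glob P hP X) :=
  ObjectProperty.homMk (Functor.whiskerRight (NatTrans.op (EtLim.bcProj u)) P)

theorem globPush_app {X Y : Scheme.{u}} (u : X ⟶ Y) (W : Y.Etale) :
    (globPush P hP u).hom.app (op W) = P.map (pullback.fst W.hom u).op := rfl

variable {X Y Z : Scheme.{u}}

theorem globPush_tauPush (p : X ⟶ Y) (u : Y ⟶ Z) (q : X ⟶ Z) (h : p ≫ u = q) :
    globPush P hP q ≫ tauPush p u q h (glob P hP X) = globPush P hP u ≫ (EtCoh.push u).map (globPush P hP p) := by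
  refine Sheaf.hom_ext (NatTrans.ext (funext fun ⟨W⟩ => ?_))
  change (globPush P hP q).hom.app (op W) ≫ (tauPush p u q h (glob P hP X)).hom.app (op W) =
    (globPush P hP u).hom.app (op W) ≫ (globPush P hP p).hom.app (op ((EtCoh.bc u).obj W))
  rw [tauPush_app, globPush_app, globPush_app, globPush_app]
  change P.map _ ≫ P.map (tauMap p u q h W).left.op = _
  refine (P.map_comp _ _).symm.trans (Eq.trans ?_ (P.map_comp _ _))
  exact congrArg (fun g => P.map (Quiver.Hom.op g)) (tauMap_fst p u q h W)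

/-- the pullback maps -/
noncomputable def globPull {X Y : Scheme.{u}} (u : X ⟶ Y) : (EtCoh.pull u).obj (glob P hP Y) ⟶ glob P hP X :=
  ((EtCoh.pullPushAdj u).homEquiv _ _).symm (globPush P hP u)

theorem globPull_comp (p : X ⟶ Y) (u : Y ⟶ Z) (q : X ⟶ Z) (h : p ≫ u = q) :
    (θPull p u q h).hom.app (glob P hP Z) ≫ globPull P hP q =
      (EtCoh.pull p).map (globPull P hP u) ≫ globPull P hP p := by
  refine cocycle_of_homEquiv p u q h _ _ _ ?_
  rw [globPull, globPull, globPull, Equiv.apply_symm_apply, Equiv.apply_symm_apply, Equiv.apply_symm_apply]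
  refine Eq.trans ?_ (congrArg (· ≫ (EtCoh.pushComp u p).hom.app _ ≫ (EtCoh.pushCongr h).hom.app _)
    (globPush_tauPush P hP p u q h) |>.trans (Category.assoc _ _ _))
  simp [tauPush]

variable {ι : Type u} [Preorder ι] {Xs : ιᵒᵖ ⥤ Scheme.{u}} (c : Cone Xs)

variable (Xs) in
/-- the objects -/
noncomputable def globObj (i : ι) : EtCoh.Ab (Xs.obj (op i)) := glob P hP (Xs.obj (op i))

variable (Xs) in
/-- the transitions -/
noncomputable def globφ {i j : ι} (h : i ≤ j) : (EtCoh.pull (tr Xs h)).obj (globObj P hP Xs i) ⟶ globObj P hP Xs j :=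
  globPull P hP (tr Xs h)

theorem globφ_cocycle {i j k : ι} (hij : i ≤ j) (hjk : j ≤ k) :
    (θPull (tr Xs hjk) (tr Xs hij) (tr Xs (hij.trans hjk)) (tr_comp Xs hij hjk)).hom.app (globObj P hP Xs i) ≫
        globφ P hP Xs (hij.trans hjk) =
      (EtCoh.pull (tr Xs hjk)).map (globφ P hP Xs hij) ≫ globφ P hP Xs hjk :=
  globPull_comp P hP (tr Xs hjk) (tr Xs hij) _ (tr_comp Xs hij hjk)

variable (Xs) in
/-- the system -/
noncomputable def globSys : Sys Xs := ⟨globObj P hP Xs, @globφ P hP _ _ Xs, @globφ_cocycle P hP _ _ Xs⟩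

/-- maps to the limit -/
noncomputable def globLeg (i : ι) : (EtCoh.pull (c.π.app (op i))).obj (globObj P hP Xs i) ⟶ glob P hP c.pt :=
  globPull P hP (c.π.app (op i))

theorem globLeg_compatible : Compatible c (globSys P hP Xs) (glob P hP c.pt) (globLeg P hP c) :=
  fun {_ j} h => globPull_comp P hP (c.π.app (op j)) (tr Xs h) _ (cone_w c h)

theorem adjHom_glob_app (i : ι) (W : (Xs.obj (op i)).Etale) :
    ((adjHom (globLeg_compatible P hP c)).app i).hom.app (op W) = P.map (pullback.fst W.hom (c.π.app (op i))).op :=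
  congrArg (fun t => t.hom.app (op W))
    (Equiv.apply_symm_apply ((EtCoh.pullPushAdj (c.π.app (op i))).homEquiv _ _) (globPush P hP (c.π.app (op i))))

theorem globSys_τ {i j : ι} (h : i ≤ j) (W : (Xs.obj (op i)).Etale) :
    ((globSys P hP Xs).τ h).hom.app (op W) = P.map (pullback.fst W.hom (tr Xs h)).op :=
  congrArg (fun t => t.hom.app (op W))
    (Equiv.apply_symm_apply ((EtCoh.pullPushAdj (tr Xs h)).homEquiv _ _) (globPush P hP (tr Xs h)))

variable [IsDirected ι (· ≤ ·)] (haff : ∀ ⦃a b : ιᵒᵖ⦄ (h : a ⟶ b), IsAffineHom (Xs.map h)) (hc : IsLimit c)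
include haff hc

theorem glob_near (hL : LimitColimit P) :
    NearInj (adjHom (globLeg_compatible P hP c)) ∧ NearSurj (adjHom (globLeg_compatible P hP c)) := by
  refine ⟨fun j W hW s hs y => ?_, fun j W hW σ y => ?_⟩
  all_goals
    haveI : IsAffine W.left := hW
    haveI : Nonempty ι := ⟨j⟩
    haveI : IsFiltered ι := isFiltered_of_directed_le_nonempty ι
    haveI : ∀ {a b : ιᵒᵖ} (f : a ⟶ b), IsAffineHom (Xs.map f) := fun f => haff f
    let f : W.left ⟶ Xs.obj (op j) := W.hom
    have hX : IsPullback (pullback.fst f (c.π.app (op j))) (pullback.snd f (c.π.app (op j))) f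
        (c.π.app (op j)) := IsPullback.of_hasPullback _ _
    let E := MorLib.BC.diag Xs f
    let C := MorLib.BC.cone Xs f hX
    have hC : IsLimit C := MorLib.BC.isLimitCone Xs f hX hc
  · let o : CategoryTheory.Over (op j) := CategoryTheory.Over.mk (𝟙 (op j))
    let s₀ : P.obj (op (E.obj o)) := P.map (pullback.fst f (Xs.map o.hom)).op s
    have h0 : P.map (C.π.app o).op s₀ = 0 := by
      refine Eq.trans ?_ ((ConcreteCategory.congr_hom (adjHom_glob_app P hP c j W) s).symm.trans hs)
      refine (ConcreteCategory.comp_apply _ _ _).symm.trans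
        (ConcreteCategory.congr_hom ((P.map_comp _ _).symm.trans ?_) s)
      exact congrArg (fun g => P.map (Quiver.Hom.op g)) (MorLib.BC.proj_fst Xs f hX o)
    obtain ⟨x, g, hg⟩ := hL.inj E C hC o s₀ h0
    let k : ι := x.left.unop
    let h : j ≤ k := leOfHom x.hom.unop
    refine ⟨k, h, (EtCoh.bc (tr Xs h)).obj W, 𝟙 _, (prTo c h W).base y, rfl, ?_⟩
    have hτ : ((globSys P hP Xs).τ h).hom.app (op W) s = 0 := by
      refine (ConcreteCategory.congr_hom (globSys_τ P hP h W) s).trans (Eq.trans ?_ hg)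
      refine Eq.trans ?_ (ConcreteCategory.comp_apply _ _ _)
      refine ConcreteCategory.congr_hom (Eq.trans ?_ (P.map_comp _ _)) s
      exact congrArg (fun t => P.map (Quiver.Hom.op t)) (MorLib.BC.map_fst Xs f g).symm
    exact (congrArg _ hτ).trans (map_zero _)
  · let σ₀ : P.obj (op C.pt) := σ
    obtain ⟨x, t, ht⟩ := hL.surj E C hC σ₀
    let k : ι := x.left.unop
    let h : j ≤ k := leOfHom x.hom.unop
    let Q := (EtCoh.bc (tr Xs h)).obj W
    refine ⟨k, h, Q, 𝟙 _, (prTo c h W).base y, t, rfl, ?_⟩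
    refine (ConcreteCategory.congr_hom (adjHom_glob_app P hP c k Q) t).trans ?_
    refine Eq.trans ?_ (ConcreteCategory.congr_hom ((pushObj c (glob P hP c.pt) k).obj.map_id (op Q)) _).symm
    rw [τ_pushSys, tauPush_app]
    change _ = P.map (tauMap (c.π.app (op k)) (tr Xs h) (c.π.app (op j)) (cone_w c h) W).left.op σ₀
    rw [← ht]
    refine Eq.trans ?_ (ConcreteCategory.comp_apply _ _ _)
    refine ConcreteCategory.congr_hom (Eq.trans ?_ (P.map_comp _ _)) t
    exact congrArg (fun g => P.map (Quiver.Hom.op g)) (tauMap_prTo c h W).symm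

variable [∀ a, PreservesFiniteLimits (EtCoh.pull (c.π.app a))]
  [∀ ⦃a b : ιᵒᵖ⦄ (h : a ⟶ b), PreservesFiniteLimits (EtCoh.pull (Xs.map h))] [Nonempty ι]
  (hqc : ∀ a, CompactSpace ↥(Xs.obj a)) (hqs : ∀ a, QuasiSeparatedSpace ↥(Xs.obj a))
include hqc hqs

/-- cohomology of such a sheaf commutes with affine limits -/
theorem glob_comparison (hL : LimitColimit P) (n : ℕ) :
    (∀ ξ : EtCoh.H c.pt (glob P hP c.pt) n,
      ∃ (j : ι) (x : EtCoh.H (Xs.obj (op j)) (globObj P hP Xs j) n),
        hThen (c.π.app (op j)) (globObj P hP Xs j) (globLeg P hP c j) n x = ξ) ∧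
    (∀ (j : ι) (x : EtCoh.H (Xs.obj (op j)) (globObj P hP Xs j) n),
      hThen (c.π.app (op j)) (globObj P hP Xs j) (globLeg P hP c j) n x = 0 →
        ∃ (k : ι) (h : j ≤ k), (globSys P hP Xs).Tr h n x = 0) :=
  comparison haff hc hqc hqs (globLeg_compatible P hP c) (glob_near P hP c haff hc hL).1
    (glob_near P hP c haff hc hL).2 n

end Groth.Agent.EtLimit
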