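import Groth.Agent.EtFound.PullExt
import Groth.Agent.EtMVLib.HpullApply
import Groth.Prelude.Def_EtLim

/-! functoriality of pulling back cohomology classes followed by a morphism -/

set_option autoImplicit false
universe u

open CategoryTheory CategoryTheory.Limits AlgebraicGeometry Opposite CategoryTheory.Abelian

namespace Groth.Agent.EtLimit

open Groth.Agent.EtFound

variable {X Y Z : Scheme.{u}}

theorem HpullThen_apply (u : X ⟶ Y) [PreservesFiniteLimits (EtCoh.pull u)] (F : EtCoh.Ab Y) {M : EtCoh.Ab X}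
    (α : (EtCoh.pull u).obj F ⟶ M) (n : ℕ) (ξ : EtCoh.H Y F n) :
    EtLim.HpullThen u F α n ξ = (EtCore.Hpull u F n ξ).comp (Ext.mk₀ α) (add_zero n) := rfl

theorem Hpull_comp_mk₀ (u : X ⟶ Y) [PreservesFiniteLimits (EtCoh.pull u)] {F G : EtCoh.Ab Y} (a : F ⟶ G)
    (n : ℕ) (ξ : EtCoh.H Y F n) :
    EtCore.Hpull u G n (ξ.comp (Ext.mk₀ a) (add_zero n)) =
      (EtCore.Hpull u F n ξ).comp (Ext.mk₀ ((EtCoh.pull u).map a)) (add_zero n) := by
  rw [EtMVLib.Hpull_apply, EtMVLib.Hpull_apply, Ext.mapExactFunctor_comp, Ext.mapExactFunctor_mk₀,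
    Ext.comp_assoc_of_third_deg_zero]

/-- naturality in the sheaves -/
theorem HpullThen_natural (u : X ⟶ Y) [PreservesFiniteLimits (EtCoh.pull u)] {F F' : EtCoh.Ab Y}
    {M M' : EtCoh.Ab X} (α : (EtCoh.pull u).obj F ⟶ M) (α' : (EtCoh.pull u).obj F' ⟶ M') (a : F ⟶ F')
    (b : M ⟶ M') (h : (EtCoh.pull u).map a ≫ α' = α ≫ b) (n : ℕ) (ξ : EtCoh.H Y F n) :
    EtLim.HpullThen u F' α' n (ξ.comp (Ext.mk₀ a) (add_zero n)) =
      (EtLim.HpullThen u F α n ξ).comp (Ext.mk₀ b) (add_zero n) := by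
  rw [HpullThen_apply, HpullThen_apply, Hpull_comp_mk₀, Ext.comp_assoc_of_third_deg_zero,
    Ext.comp_assoc_of_third_deg_zero, Ext.mk₀_comp_mk₀, Ext.mk₀_comp_mk₀, h]

theorem ext_chase {C : Type*} [Category* C] [Abelian C] [HasExt.{u + 1} C] {B A P Q P' Q' : C} {n n' : ℕ}
    (c : Ext.{u + 1} B A 0) (x : Ext.{u + 1} A P n) (e : Ext.{u + 1} P Q 1) (a₁ : Ext.{u + 1} Q Q' 0)
    (a₃ : Ext.{u + 1} P P' 0) (e' : Ext.{u + 1} P' Q' 1)
    (h : e.comp a₁ (add_zero 1) = a₃.comp e' (zero_add 1)) (hn : n + 1 = n') :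
    (c.comp (x.comp e hn) (zero_add n')).comp a₁ (add_zero n') =
      ((c.comp x (zero_add n)).comp a₃ (add_zero n)).comp e' hn := by
  rw [Ext.comp_assoc_of_third_deg_zero, Ext.comp_assoc_of_third_deg_zero, h]
  rw [Ext.comp_assoc_of_third_deg_zero c x a₃, Ext.comp_assoc c _ e' (zero_add n) hn (by omega)]
  rw [Ext.comp_assoc_of_second_deg_zero]

/-- compatibility with connecting classes -/
theorem HpullThen_extClass (u : X ⟶ Y) [PreservesFiniteLimits (EtCoh.pull u)] {S : ShortComplex (EtCoh.Ab Y)}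
    (hS : S.ShortExact) {S' : ShortComplex (EtCoh.Ab X)} (hS' : S'.ShortExact)
    (a₁ : (EtCoh.pull u).obj S.X₁ ⟶ S'.X₁) (a₂ : (EtCoh.pull u).obj S.X₂ ⟶ S'.X₂)
    (a₃ : (EtCoh.pull u).obj S.X₃ ⟶ S'.X₃) (c₁ : a₁ ≫ S'.f = (EtCoh.pull u).map S.f ≫ a₂)
    (c₂ : a₂ ≫ S'.g = (EtCoh.pull u).map S.g ≫ a₃) {n n' : ℕ} (hn : n + 1 = n') (ξ : EtCoh.H Y S.X₃ n) :
    EtLim.HpullThen u S.X₁ a₁ n' (Ext.comp ξ hS.extClass hn) =
      Ext.comp (EtLim.HpullThen u S.X₃ a₃ n ξ) hS'.extClass hn := by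
  have h : (hS.map_of_exact (EtCoh.pull u)).extClass.comp (Ext.mk₀ a₁) (add_zero 1) =
      (Ext.mk₀ a₃).comp hS'.extClass (zero_add 1) :=
    ShortComplex.ShortExact.extClass_naturality (hS.map_of_exact (EtCoh.pull u)) hS'
      { τ₁ := a₁, τ₂ := a₂, τ₃ := a₃, comm₁₂ := c₁, comm₂₃ := c₂ }
  show Ext.comp (EtCore.Hpull u S.X₁ n' (Ext.comp ξ hS.extClass hn)) (Ext.mk₀ a₁) (add_zero n') =
    Ext.comp (Ext.comp (EtCore.Hpull u S.X₃ n ξ) (Ext.mk₀ a₃) (add_zero n)) hS'.extClass hn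
  rw [EtMVLib.Hpull_apply, EtMVLib.Hpull_apply, Ext.mapExactFunctor_comp, Ext.mapExactFunctor_extClass]
  exact ext_chase _ _ _ _ _ _ h hn

/-- composition -/
theorem HpullThen_comp (v : X ⟶ Y) (u : Y ⟶ Z) (w : X ⟶ Z) (hw : v ≫ u = w)
    [PreservesFiniteLimits (EtCoh.pull v)] [PreservesFiniteLimits (EtCoh.pull u)]
    [PreservesFiniteLimits (EtCoh.pull w)] {F : EtCoh.Ab Z} {G : EtCoh.Ab Y} {M : EtCoh.Ab X}
    (α : (EtCoh.pull u).obj F ⟶ G) (β : (EtCoh.pull v).obj G ⟶ M) (γ : (EtCoh.pull w).obj F ⟶ M)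
    (h : (θPull v u w hw).hom.app F ≫ γ = (EtCoh.pull v).map α ≫ β) (n : ℕ) (ξ : EtCoh.H Z F n) :
    EtLim.HpullThen v G β n (EtLim.HpullThen u F α n ξ) = EtLim.HpullThen w F γ n ξ := by
  rw [HpullThen_apply, HpullThen_apply, HpullThen_apply, Hpull_comp_mk₀, Ext.comp_assoc_of_third_deg_zero,
    Ext.mk₀_comp_mk₀, ← h, EtFound.Hpull_comp v u w hw, Ext.comp_assoc_of_third_deg_zero, Ext.mk₀_comp_mk₀]

end Groth.Agent.EtLimit
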