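import Groth.Agent.EtLimit.ColimCase

/-! the frozen transition isomorphisms versus the ones of the library -/

set_option autoImplicit false
universe u

open CategoryTheory CategoryTheory.Limits AlgebraicGeometry Opposite

namespace Groth.Agent.EtLimit

open Groth.Agent.EtFound

set_option backward.isDefEq.respectTransparency.types false

variable {X Y Z : Scheme.{u}}

theorem θPull_hom_comp (v : X ⟶ Y) (u : Y ⟶ Z) (w : X ⟶ Z) (hw : v ≫ u = w) (hw' : w = v ≫ u) {F : EtCoh.Ab Z}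
    {M : EtCoh.Ab X} (g : (EtCoh.pull w).obj F ⟶ M) (r : (EtCoh.pull v).obj ((EtCoh.pull u).obj F) ⟶ M)
    (h : g = (EtCore.pullCongr hw' ≪≫ EtCore.pullComp v u).hom.app F ≫ r) :
    (θPull v u w hw).hom.app F ≫ g = r := by
  subst hw
  subst h
  simp [θPull, EtCore.pullCongr]

theorem pull_eq_iff (u : X ⟶ Y) [PreservesFiniteLimits (EtCoh.pull u)] (F : EtCoh.Ab Y) {M : EtCoh.Ab X}
    (α : (EtCoh.pull u).obj F ⟶ M) (n : ℕ) (ξ : EtCoh.H Y F n) (η : EtCoh.H X M n) :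
    EtLim.HpullThen u F α n ξ = η ↔ hThen u F α n ξ = η :=
  Iff.rfl

theorem pull_eq_zero_iff (u : X ⟶ Y) [PreservesFiniteLimits (EtCoh.pull u)] (F : EtCoh.Ab Y) {M : EtCoh.Ab X}
    (α : (EtCoh.pull u).obj F ⟶ M) (n : ℕ) (ξ : EtCoh.H Y F n) :
    EtLim.HpullThen u F α n ξ = 0 ↔ hThen u F α n ξ = 0 :=
  Iff.rfl

theorem colim_gen (p : X ⟶ Y) (u : Y ⟶ Z) (q : X ⟶ Z) (hw : p ≫ u = q) (hw' : q = p ≫ u) {F : EtCoh.Ab Z}
    {G : EtCoh.Ab Y} {N M : EtCoh.Ab X} (ψi : (EtCoh.pull q).obj F ⟶ N) (g : N ⟶ M)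
    (φ : (EtCoh.pull u).obj F ⟶ G) (ψj : (EtCoh.pull p).obj G ⟶ M)
    (e : ψi ≫ g = (EtCore.pullCongr hw' ≪≫ EtCore.pullComp p u).hom.app F ≫ (EtCoh.pull p).map φ ≫ ψj) :
    (θPull p u q hw).hom.app F ≫ ψi ≫ g = (EtCoh.pull p).map φ ≫ ψj :=
  θPull_hom_comp p u q hw hw' _ _ e

section system

variable {ι : Type u} [Preorder ι] (Xs : ιᵒᵖ ⥤ Scheme.{u}) (F : ∀ i : ι, EtCoh.Ab (Xs.obj (op i)))
  (φ : ∀ ⦃i j : ι⦄ (h : i ≤ j), (EtCoh.pull (Xs.map (homOfLE h).op)).obj (F i) ⟶ F j)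
  (hφ : ∀ ⦃i j k : ι⦄ (hij : i ≤ j) (hjk : j ≤ k),
    φ (hij.trans hjk) = (EtLim.pullTrans Xs hij hjk).hom.app (F i) ≫
      (EtCoh.pull (Xs.map (homOfLE hjk).op)).map (φ hij) ≫ φ hjk)

omit [Preorder ι] in
theorem congr_iso_app {C D : Type*} [Category* C] [Category* D] {P Q : C ⥤ D} {a b : P ≅ Q} (h : a = b) (x : C)
    {M : D} (r : Q.obj x ⟶ M) : a.hom.app x ≫ r = b.hom.app x ≫ r := by
  rw [h]

theorem pullTrans_eq {i j k : ι} (hij : i ≤ j) (hjk : j ≤ k) :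
    EtLim.pullTrans Xs hij hjk =
      EtCore.pullCongr (tr_comp Xs hij hjk).symm ≪≫ EtCore.pullComp (tr Xs hjk) (tr Xs hij) := by
  delta EtLim.pullTrans
  rfl

theorem pullTransCone_eq (c : Cone Xs) {i j : ι} (hij : i ≤ j) :
    EtLim.pullTransCone Xs c hij =
      EtCore.pullCongr (cone_w c hij).symm ≪≫ EtCore.pullComp (c.π.app (op j)) (tr Xs hij) := by
  delta EtLim.pullTransCone
  rfl

/-- the transitions -/
noncomputable def mkφ {i j : ι} (h : i ≤ j) : (EtCoh.pull (tr Xs h)).obj (F i) ⟶ F j := φ h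

include hφ in
theorem mk_cocycle {i j k : ι} (hij : i ≤ j) (hjk : j ≤ k) :
    (θPull (tr Xs hjk) (tr Xs hij) (tr Xs (hij.trans hjk)) (tr_comp Xs hij hjk)).hom.app (F i) ≫
        mkφ Xs F φ (hij.trans hjk) = (EtCoh.pull (tr Xs hjk)).map (mkφ Xs F φ hij) ≫ mkφ Xs F φ hjk :=
  θPull_hom_comp _ _ _ (tr_comp Xs hij hjk) (tr_comp Xs hij hjk).symm _ _
    ((hφ hij hjk).trans (congr_iso_app (pullTrans_eq Xs hij hjk) _ _))

/-- a system from the frozen data -/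
noncomputable def mkSys : Sys Xs := ⟨F, @mkφ _ _ Xs F φ, @mk_cocycle _ _ Xs F φ hφ⟩

variable {c : Cone Xs} {G : ι ⥤ EtCoh.Ab c.pt}
  {ψ : ∀ i : ι, (EtCoh.pull (c.π.app (op i))).obj (F i) ≅ G.obj i}

theorem mk_colim (hψ : ∀ ⦃i j : ι⦄ (hij : i ≤ j), (ψ i).hom ≫ G.map (homOfLE hij) =
      (EtLim.pullTransCone Xs c hij).hom.app (F i) ≫ (EtCoh.pull (c.π.app (op j))).map (φ hij) ≫ (ψ j).hom)
    {i j : ι} (h : i ≤ j) :
    (ψ i).hom ≫ G.map (homOfLE h) =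
      (EtCore.pullCongr (cone_w c h).symm ≪≫ EtCore.pullComp (c.π.app (op j)) (tr Xs h)).hom.app (F i) ≫
        (EtCoh.pull (c.π.app (op j))).map (φ h) ≫ (ψ j).hom :=
  (hψ h).trans (congr_iso_app (pullTransCone_eq Xs c h) _ _)

theorem mk_colim2 {i j : ι} (h : i ≤ j) (e :
    (ψ i).hom ≫ G.map (homOfLE h) =
      (EtCore.pullCongr (cone_w c h).symm ≪≫ EtCore.pullComp (c.π.app (op j)) (tr Xs h)).hom.app (F i) ≫
        (EtCoh.pull (c.π.app (op j))).map (φ h) ≫ (ψ j).hom) :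
    (θPull (c.π.app (op j)) (tr Xs h) (c.π.app (op i)) (cone_w c h)).hom.app (F i) ≫
        (ψ i).hom ≫ G.map (homOfLE h) =
      (EtCoh.pull (c.π.app (op j))).map (φ h) ≫ (ψ j).hom :=
  colim_gen (c.π.app (op j)) (tr Xs h) (c.π.app (op i)) (cone_w c h) (cone_w c h).symm (ψ i).hom
    (G.map (homOfLE h)) (φ h) (ψ j).hom e

theorem mkSys_sysColim (hψ : ∀ ⦃i j : ι⦄ (hij : i ≤ j), (ψ i).hom ≫ G.map (homOfLE hij) =
      (EtLim.pullTransCone Xs c hij).hom.app (F i) ≫ (EtCoh.pull (c.π.app (op j))).map (φ hij) ≫ (ψ j).hom) :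
    SysColim (mkSys Xs F φ hφ) G ψ :=
  fun {_ _} h => mk_colim2 Xs F φ h (mk_colim Xs F φ hψ h)

end system

end Groth.Agent.EtLimit
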