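import Groth.Agent.EtLimit.Sys

/-! diagram chases for systems -/

set_option autoImplicit false
set_option linter.style.haveILetI false
universe u

open CategoryTheory CategoryTheory.Limits AlgebraicGeometry Opposite CategoryTheory.Abelian

namespace Groth.Agent.EtLimit

set_option backward.isDefEq.respectTransparency.types false

variable {ι : Type u} [Preorder ι] [IsDirected ι (· ≤ ·)] {Xs : ιᵒᵖ ⥤ Scheme.{u}}
  [∀ ⦃a b : ιᵒᵖ⦄ (h : a ⟶ b), PreservesFiniteLimits (EtCoh.pull (Xs.map h))]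

namespace Sys

/-- a short exact sequence of systems -/
structure SES (A B C : Sys Xs) where
  f : Hom A B
  g : Hom B C
  w : ∀ i, f.app i ≫ g.app i = 0
  exact : ∀ i, (ShortComplex.mk (f.app i) (g.app i) (w i)).ShortExact

variable {A B C : Sys Xs}

/-- push a class along a morphism of systems -/
noncomputable abbrev Hom.onH (f : Hom A B) {i : ι} {n : ℕ} (ξ : EtCoh.H (Xs.obj (op i)) (A.obj i) n) :
    EtCoh.H (Xs.obj (op i)) (B.obj i) n :=
  hmap (f.app i) n ξ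

/-- a morphism is bijective on the colimit of the cohomology groups -/
def Hom.ColimBij (f : Hom A B) : Prop :=
  ∀ n : ℕ,
    (∀ (j : ι) (η : EtCoh.H (Xs.obj (op j)) (B.obj j) n),
      ∃ (k : ι) (h : j ≤ k) (ξ : EtCoh.H (Xs.obj (op k)) (A.obj k) n), f.onH ξ = B.Tr h n η) ∧
    (∀ (j : ι) (ξ : EtCoh.H (Xs.obj (op j)) (A.obj j) n), f.onH ξ = 0 →
      ∃ (k : ι) (h : j ≤ k), A.Tr h n ξ = 0)

namespace SES

variable (S : SES A B C)

/-- the connecting map -/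
noncomputable def δ {i : ι} {n n' : ℕ} (hn : n + 1 = n') (ζ : EtCoh.H (Xs.obj (op i)) (C.obj i) n) :
    EtCoh.H (Xs.obj (op i)) (A.obj i) n' :=
  hδ (S.exact i) hn ζ

theorem δ_zero {i : ι} {n n' : ℕ} (hn : n + 1 = n') : S.δ (i := i) hn 0 = 0 :=
  map_zero (hδ (S.exact i) hn)

theorem δ_Tr {i j : ι} (h : i ≤ j) {n n' : ℕ} (hn : n + 1 = n') (ζ : EtCoh.H (Xs.obj (op i)) (C.obj i) n) :
    A.Tr h n' (S.δ hn ζ) = S.δ hn (C.Tr h n ζ) :=
  HpullThen_hδ (tr Xs h) (S.exact i) (S.exact j) (A.φ h) (B.φ h) (C.φ h)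
    (S.f.natural h).symm (S.g.natural h).symm hn ζ

variable (hqc : ∀ a, CompactSpace ↥(Xs.obj a)) (hqs : ∀ a, QuasiSeparatedSpace ↥(Xs.obj a))
include hqc hqs

theorem colimBij_g (hA : A.Dead) : S.g.ColimBij := by
  intro n
  refine ⟨fun j η => ?_, fun j ξ hξ => ?_⟩
  · obtain ⟨k, h, hk⟩ := hA.kill hqc hqs j (n + 1) (S.δ rfl η)
    rw [S.δ_Tr h rfl η] at hk
    obtain ⟨ξ, hξ⟩ := exists_hmap_of_hδ_eq_zero (S.exact k) rfl (C.Tr h n η) hk
    exact ⟨k, h, ξ, hξ⟩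
  · obtain ⟨a, rfl⟩ := exists_hmap_of_hmap_eq_zero (S.exact j) n ξ hξ
    obtain ⟨k, h, hk⟩ := hA.kill hqc hqs j n a
    refine ⟨k, h, (S.f.Tr h n a).trans ?_⟩
    rw [hk, map_zero]

theorem colimBij_f (hC : C.Dead) : S.f.ColimBij := by
  intro n
  refine ⟨fun j η => ?_, fun j ξ hξ => ?_⟩
  · obtain ⟨k, h, hk⟩ := hC.kill hqc hqs j n (S.g.onH η)
    rw [S.g.Tr h n η] at hk
    obtain ⟨ξ, hξ⟩ := exists_hmap_of_hmap_eq_zero (S.exact k) n (B.Tr h n η) hk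
    exact ⟨k, h, ξ, hξ⟩
  · cases n with
    | zero =>
      haveI : Mono (S.f.app j) := (S.exact j).mono_f
      have : ξ = 0 := hmap_zero_injective (S.f.app j) (hξ.trans (map_zero _).symm)
      exact ⟨j, le_rfl, by rw [this, map_zero]⟩
    | succ m =>
      obtain ⟨c, rfl⟩ := exists_hδ_of_hmap_eq_zero (S.exact j) (n := m) rfl ξ hξ
      obtain ⟨k, h, hk⟩ := hC.kill hqc hqs j m c
      refine ⟨k, h, (S.δ_Tr h rfl c).trans ?_⟩
      rw [hk, S.δ_zero rfl]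

end SES

theorem Hom.ColimBij.comp {f : Hom A B} {g : Hom B C} (hf : f.ColimBij) (hg : g.ColimBij) (fg : Hom A C)
    (hfg : ∀ i, f.app i ≫ g.app i = fg.app i) : fg.ColimBij := by
  have e : ∀ (i : ι) (n : ℕ) (ξ : EtCoh.H (Xs.obj (op i)) (A.obj i) n), fg.onH ξ = g.onH (f.onH ξ) := fun i n ξ => by
    rw [Hom.onH, Hom.onH, Hom.onH, hmap_comp, hfg]
  intro n
  refine ⟨fun j η => ?_, fun j ξ hξ => ?_⟩
  · obtain ⟨k, h, η', hη'⟩ := (hg n).1 j η
    obtain ⟨l, h', ξ, hξ⟩ := (hf n).1 k η'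
    refine ⟨l, h.trans h', ξ, ?_⟩
    rw [e, hξ]
    exact (g.Tr h' n η').symm.trans ((congrArg _ hη').trans (C.Tr_trans h h' n η))
  · rw [e] at hξ
    obtain ⟨k, h, hk⟩ := (hg n).2 j _ hξ
    rw [f.Tr h n ξ] at hk
    obtain ⟨l, h', hl⟩ := (hf n).2 k _ hk
    exact ⟨l, h.trans h', (A.Tr_trans h h' n ξ).symm.trans hl⟩

end Sys

end Groth.Agent.EtLimit
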