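import Groth.Agent.EtLimit.PushBij

/-! comparison of a system of sheaves with a sheaf on the limit -/

set_option autoImplicit false
set_option linter.style.haveILetI false
universe u

open CategoryTheory CategoryTheory.Limits AlgebraicGeometry Opposite

namespace Groth.Agent.EtLimit

open Groth.Agent.EtFound

set_option backward.isDefEq.respectTransparency.types false

theorem app_injective_of_mono {X : Scheme.{u}} {F G : EtCoh.Ab X} (a : F ⟶ G) [Mono a] (W : X.Etale) :
    Function.Injective (a.hom.app (op W)) := by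
  haveI : Mono a.hom := inferInstanceAs (Mono ((sheafToPresheaf _ _).map a))
  exact (AddCommGrpCat.mono_iff_injective _).1 (NatTrans.mono_iff_mono_app a.hom |>.1 inferInstance (op W))

theorem exists_affine_lift_of_epi {X : Scheme.{u}} {F G : EtCoh.Ab X} (g : F ⟶ G) [Epi g] {U : X.Etale}
    (q : G.obj.obj (op U)) (x : U.left) :
    ∃ (V : X.Etale) (m : V ⟶ U) (v : V.left) (p : F.obj.obj (op V)),
      IsAffine V.left ∧ m.left.base v = x ∧ g.hom.app (op V) p = G.obj.map m.op q := by
  obtain ⟨V, m, v, p, hv, hp⟩ := exists_lift_of_epi g q x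
  obtain ⟨O, hO, hvO, -⟩ := exists_isAffineOpen_mem_and_subset (U := (⊤ : V.left.Opens)) (x := v)
    (TopologicalSpace.Opens.mem_top v)
  haveI : AlgebraicGeometry.Etale V.hom := V.prop
  let V' : X.Etale := Scheme.Etale.mk (O.ι ≫ V.hom)
  let n : V' ⟶ V := MorphismProperty.Over.homMk O.ι rfl trivial
  refine ⟨V', n ≫ m, ⟨v, hvO⟩, F.obj.map n.op p, hO, (Scheme.Hom.comp_apply _ _ _).trans hv, ?_⟩
  refine (ConcreteCategory.congr_hom (g.hom.naturality n.op) p).trans ?_
  refine (ConcreteCategory.comp_apply _ _ p).trans ((congrArg _ hp).trans ?_)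
  refine (ConcreteCategory.comp_apply _ _ q).symm.trans ?_
  exact (ConcreteCategory.congr_hom (G.obj.map_comp m.op n.op) q).symm

variable {ι : Type u} [Preorder ι] {Xs : ιᵒᵖ ⥤ Scheme.{u}} (c : Cone Xs)

/-- maps to a sheaf on the limit, compatible with the transitions -/
def Compatible (A : Sys Xs) (M : EtCoh.Ab c.pt)
    (α : ∀ i : ι, (EtCoh.pull (c.π.app (op i))).obj (A.obj i) ⟶ M) : Prop :=
  ∀ {i j : ι} (h : i ≤ j),
    (θPull (c.π.app (op j)) (tr Xs h) (c.π.app (op i)) (cone_w c h)).hom.app (A.obj i) ≫ α i =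
      (EtCoh.pull (c.π.app (op j))).map (A.φ h) ≫ α j

variable {c} {A : Sys Xs} {M : EtCoh.Ab c.pt} {α : ∀ i : ι, (EtCoh.pull (c.π.app (op i))).obj (A.obj i) ⟶ M}

variable (α) in
/-- the adjoint maps -/
noncomputable def adjApp (i : ι) : A.obj i ⟶ pushObj c M i :=
  (EtCoh.pullPushAdj (c.π.app (op i))).homEquiv _ _ (α i)

theorem adjApp_natural (hα : Compatible c A M α) {i j : ι} (h : i ≤ j) :
    (EtCoh.pull (tr Xs h)).map (adjApp α i) ≫ pushφ c M h = A.φ h ≫ adjApp α j := by
  have e := homEquiv_of_cocycle (c.π.app (op j)) (tr Xs h) (c.π.app (op i)) (cone_w c h) (A.φ h) (α j) (α i) (hα h)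
  apply ((EtCoh.pullPushAdj (tr Xs h)).homEquiv _ _).injective
  rw [Adjunction.homEquiv_naturality_left, Adjunction.homEquiv_naturality_right, pushφ]
  erw [homEquiv_phiPush]
  refine (congrArg (· ≫ tauPush (c.π.app (op j)) (tr Xs h) (c.π.app (op i)) (cone_w c h) M) e).trans ?_
  simp [tauPush, adjApp]
  rfl

/-- the adjoint morphism of systems -/
noncomputable def adjHom (hα : Compatible c A M α) : Sys.Hom A (pushSys c M) :=
  ⟨adjApp α, @adjApp_natural _ _ _ c A M α hα⟩

variable (a : Sys.Hom A (pushSys c M))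

/-- the map from the coimages -/
noncomputable def imApp (i : ι) : Sys.cokObj (Sys.kerι a) i ⟶ pushObj c M i :=
  cokernel.desc (Sys.kerIncl a i) (a.app i) (kernel.condition (a.app i))

theorem cokProj_imApp (i : ι) : Sys.cokProj (Sys.kerι a) i ≫ imApp a i = a.app i :=
  cokernel.π_desc _ _ _

theorem imApp_natural {i j : ι} (h : i ≤ j) :
    (EtCoh.pull (tr Xs h)).map (imApp a i) ≫ pushφ c M h = Sys.cokerφ (Sys.kerι a) h ≫ imApp a j := by
  haveI : Epi ((EtCoh.pull (tr Xs h)).map (Sys.cokProj (Sys.kerι a) i)) := inferInstance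
  rw [← cancel_epi ((EtCoh.pull (tr Xs h)).map (Sys.cokProj (Sys.kerι a) i))]
  refine (Category.assoc _ _ _).symm.trans ?_
  refine (congrArg (· ≫ _) (((EtCoh.pull (tr Xs h)).map_comp _ _).symm.trans
    (congrArg (EtCoh.pull (tr Xs h)).map (cokProj_imApp a i)))).trans ?_
  refine (a.natural h).trans ?_
  refine Eq.trans ?_ (Category.assoc _ _ _)
  refine Eq.trans ?_ (congrArg (· ≫ imApp a j) (Sys.π_cokerφ (Sys.kerι a) h)).symm
  exact ((Category.assoc _ _ _).trans (congrArg (A.φ h ≫ ·) (cokProj_imApp a j))).symm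

/-- the coimage comparison -/
noncomputable def imHom : Sys.Hom (Sys.coker (Sys.kerι a)) (pushSys c M) :=
  ⟨imApp a, @imApp_natural _ _ _ c A M a⟩

theorem mono_imApp (i : ι) : Mono (imApp a i) :=
  inferInstanceAs (Mono (Abelian.factorThruCoimage (a.app i)))

theorem kerSES_exact (i : ι) :
    (ShortComplex.mk ((Sys.kerι a).app i) ((Sys.cokerπ (Sys.kerι a)).app i)
      (cokernel.condition (Sys.kerIncl a i))).ShortExact where
  exact := ShortComplex.exact_of_g_is_cokernel _ (cokernelIsCokernel (Sys.kerIncl a i))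
  mono_f := inferInstanceAs (Mono (Sys.kerIncl a i))
  epi_g := inferInstanceAs (Epi (cokernel.π (Sys.kerIncl a i)))

/-- kernel sequence -/
noncomputable def kerSES : Sys.SES (Sys.ker a) A (Sys.coker (Sys.kerι a)) :=
  ⟨Sys.kerι a, Sys.cokerπ (Sys.kerι a), fun i => cokernel.condition (Sys.kerIncl a i), kerSES_exact a⟩

theorem imSES_exact (i : ι) :
    (ShortComplex.mk ((imHom a).app i) ((Sys.cokerπ (imHom a)).app i)
      (cokernel.condition (imApp a i))).ShortExact where
  exact := ShortComplex.exact_of_g_is_cokernel _ (cokernelIsCokernel (imApp a i))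
  mono_f := mono_imApp a i
  epi_g := inferInstanceAs (Epi (cokernel.π (imApp a i)))

/-- image sequence -/
noncomputable def imSES : Sys.SES (Sys.coker (Sys.kerι a)) (pushSys c M) (Sys.coker (imHom a)) :=
  ⟨imHom a, Sys.cokerπ (imHom a), fun i => cokernel.condition (imApp a i), imSES_exact a⟩

/-- sections killed by the comparison die near every point of the limit -/
def NearInj : Prop :=
  ∀ (j : ι) (W : (Xs.obj (op j)).Etale) (_ : IsAffine W.left) (s : (A.obj j).obj.obj (op W))
    (_ : (a.app j).hom.app (op W) s = 0) (y : ((EtCoh.bc (c.π.app (op j))).obj W).left),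
    ∃ (k : ι) (h : j ≤ k) (W' : (Xs.obj (op k)).Etale) (m : W' ⟶ (EtCoh.bc (tr Xs h)).obj W) (v : W'.left),
      m.left.base v = (prTo c h W).base y ∧ (A.obj k).obj.map m.op ((A.τ h).hom.app (op W) s) = 0

/-- sections on the limit come from the system near every point -/
def NearSurj : Prop :=
  ∀ (j : ι) (W : (Xs.obj (op j)).Etale) (_ : IsAffine W.left) (s : (pushObj c M j).obj.obj (op W))
    (y : ((EtCoh.bc (c.π.app (op j))).obj W).left),
    ∃ (k : ι) (h : j ≤ k) (W' : (Xs.obj (op k)).Etale) (m : W' ⟶ (EtCoh.bc (tr Xs h)).obj W) (v : W'.left)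
      (p : (A.obj k).obj.obj (op W')),
      m.left.base v = (prTo c h W).base y ∧
        (a.app k).hom.app (op W') p = (pushObj c M k).obj.map m.op (((pushSys c M).τ h).hom.app (op W) s)

section dead

variable [IsDirected ι (· ≤ ·)] (haff : ∀ ⦃a b : ιᵒᵖ⦄ (h : a ⟶ b), IsAffineHom (Xs.map h)) (hc : IsLimit c)
include haff hc

theorem dead_ker (ha : NearInj a) : (Sys.ker a).Dead := by
  refine Sys.dead_of_near haff c hc _ fun j W hW s y => ?_
  have h0 : (a.app j).hom.app (op W) ((Sys.kerIncl a j).hom.app (op W) s) = 0 :=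
    (ConcreteCategory.comp_apply _ _ s).symm.trans
      (ConcreteCategory.congr_hom (congrArg (fun t => t.hom.app (op W)) (kernel.condition (a.app j))) s)
  obtain ⟨k, h, W', m, v, hv, hm⟩ := ha j W hW _ h0 y
  refine ⟨k, h, W', m, v, hv, ?_⟩
  apply app_injective_of_mono (Sys.kerIncl a k) W'
  refine Eq.trans ?_ (map_zero ((Sys.kerIncl a k).hom.app (op W')).hom).symm
  refine (ConcreteCategory.congr_hom ((Sys.kerIncl a k).hom.naturality m.op) _).trans ?_
  refine (ConcreteCategory.comp_apply _ _ _).trans ((congrArg _ ?_).trans hm)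
  exact (ConcreteCategory.congr_hom (congrArg (fun t => t.hom.app (op W)) ((Sys.kerι a).τ_natural h)) s).symm

theorem dead_coker_imHom (ha : NearSurj a) : (Sys.coker (imHom a)).Dead := by
  refine Sys.dead_of_near haff c hc _ fun j W _ s y => ?_
  let d := imHom a
  let πj := c.π.app (op j)
  haveI : Epi ((Sys.cokerπ d).app j) := Sys.epi_cokProj d j
  obtain ⟨W₁, m₁, w₁, q, hW₁, hw₁, hq⟩ :=
    exists_affine_lift_of_epi ((Sys.cokerπ d).app j) s ((pullback.fst W.hom πj).base y)
  obtain ⟨y₁, hy₁, -⟩ := Scheme.exists_preimage_of_isPullback (EtCoh.isPullback_bc_map πj m₁) y w₁ hw₁.symm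
  obtain ⟨k, h, W', m, w, p, hw, hp⟩ := ha j W₁ hW₁ q y₁
  let n₁ := (EtCoh.bc (tr Xs h)).map m₁
  refine ⟨k, h, W', m ≫ n₁, w, ?_, ?_⟩
  · refine (Scheme.Hom.comp_apply _ _ w).trans ((congrArg n₁.left.base hw).trans ?_)
    have e : prTo c h W₁ ≫ n₁.left = ((EtCoh.bc πj).map m₁).left ≫ prTo c h W := prTo_natural c h m₁
    refine (Scheme.Hom.comp_apply _ _ y₁).symm.trans ((congrArg (fun k => k.base y₁) e).trans ?_)
    exact (Scheme.Hom.comp_apply _ _ y₁).trans (congrArg (prTo c h W).base hy₁)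
  · let E := Sys.coker d
    let Q := pushSys c M
    have h1 : (E.obj k).obj.map n₁.op ((E.τ h).hom.app (op W) s) =
        (Sys.cokProj d k).hom.app (op ((EtCoh.bc (tr Xs h)).obj W₁)) ((Q.τ h).hom.app (op W₁) q) := by
      refine (ConcreteCategory.congr_hom ((E.τ h).hom.naturality m₁.op) s).symm.trans ?_
      refine (ConcreteCategory.comp_apply _ _ _).trans ((congrArg _ hq.symm).trans ?_)
      exact ConcreteCategory.congr_hom (congrArg (fun t => t.hom.app (op W₁)) ((Sys.cokerπ d).τ_natural h)) q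
    rw [op_comp, Functor.map_comp]
    refine (ConcreteCategory.comp_apply _ _ _).trans ((congrArg _ h1).trans ?_)
    refine (ConcreteCategory.congr_hom ((Sys.cokProj d k).hom.naturality m.op) _).symm.trans ?_
    refine (ConcreteCategory.comp_apply _ _ _).trans ((congrArg _ hp.symm).trans ?_)
    have h3 : a.app k ≫ Sys.cokProj d k = 0 := by
      exact (congrArg (· ≫ Sys.cokProj d k) (cokProj_imApp a k)).symm.trans ((Category.assoc _ _ _).trans
        ((congrArg (_ ≫ ·) (cokernel.condition (imApp a k))).trans comp_zero))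
    exact (ConcreteCategory.comp_apply _ _ p).symm.trans
      (ConcreteCategory.congr_hom (congrArg (fun t => t.hom.app (op W')) h3) p)

variable [∀ a, PreservesFiniteLimits (EtCoh.pull (c.π.app a))]
  [∀ ⦃a b : ιᵒᵖ⦄ (h : a ⟶ b), PreservesFiniteLimits (EtCoh.pull (Xs.map h))] [Nonempty ι]
  (hqc : ∀ a, CompactSpace ↥(Xs.obj a)) (hqs : ∀ a, QuasiSeparatedSpace ↥(Xs.obj a))
include hqc hqs

theorem colimBij_of_near (h₁ : NearInj a) (h₂ : NearSurj a) : a.ColimBij :=
  Sys.Hom.ColimBij.comp ((kerSES a).colimBij_g hqc hqs (dead_ker a haff hc h₁))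
    ((imSES a).colimBij_f hqc hqs (dead_coker_imHom a haff hc h₂)) a (cokProj_imApp a)

/-- the comparison theorem -/
theorem comparison (hα : Compatible c A M α) (h₁ : NearInj (adjHom hα)) (h₂ : NearSurj (adjHom hα)) (n : ℕ) :
    (∀ ξ : EtCoh.H c.pt M n, ∃ (j : ι) (x : EtCoh.H (Xs.obj (op j)) (A.obj j) n),
      hThen (c.π.app (op j)) (A.obj j) (α j) n x = ξ) ∧
    (∀ (j : ι) (x : EtCoh.H (Xs.obj (op j)) (A.obj j) n), hThen (c.π.app (op j)) (A.obj j) (α j) n x = 0 →
      ∃ (k : ι) (h : j ≤ k), A.Tr h n x = 0) := by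
  have e : ∀ (j : ι) (x : EtCoh.H (Xs.obj (op j)) (A.obj j) n),
      hOf c M j n (hmap ((adjHom hα).app j) n x) = hThen (c.π.app (op j)) (A.obj j) (α j) n x := by
    intro j x
    refine (HpullThen_hmap (c.π.app (op j)) (α j) ((EtCoh.pullPushAdj (c.π.app (op j))).counit.app M)
      (adjApp α j) (𝟙 M) (((EtCoh.pullPushAdj (c.π.app (op j))).homEquiv_counit _ _ _).symm.trans
        ((Equiv.symm_apply_apply _ _).trans (Category.comp_id _).symm)) n x).trans ?_
    exact ConcreteCategory.congr_hom ((EtCoh.HF c.pt n).map_id M) _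
  have hb := colimBij_of_near (adjHom hα) haff hc hqc hqs h₁ h₂ n
  have hp := hOf_bij c haff hc hqc hqs n M
  refine ⟨fun ξ => ?_, fun j x hx => ?_⟩
  · obtain ⟨j, z, hz⟩ := hp.1 ξ
    obtain ⟨k, h, x, hx⟩ := hb.1 j z
    refine ⟨k, x, (e k x).symm.trans ?_⟩
    exact (congrArg (hOf c M k n) hx).trans ((hOf_Tr c M h n z).trans hz)
  · obtain ⟨k, h, hk⟩ := hp.2 j _ ((e j x).trans hx)
    rw [(adjHom hα).Tr h n x] at hk
    obtain ⟨l, h', hl⟩ := hb.2 k _ hk
    exact ⟨l, h.trans h', (A.Tr_trans h h' n x).symm.trans hl⟩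

end dead

end Groth.Agent.EtLimit
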