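import Groth.Agent.EtLimit.StrictSys
import Groth.Agent.EtFound.PullStalk
import Groth.Prelude.Def_EtBase

/-! the base change of a presentation along a qcqs morphism -/

set_option autoImplicit false
set_option linter.style.haveILetI false
universe u

open CategoryTheory CategoryTheory.Limits AlgebraicGeometry Opposite

namespace Groth.Agent.EtLimit

variable {X S T : Scheme.{u}} (f : X ⟶ S) {π : T ⟶ S} (P : EtPres π)

/-- the stage `V_a ×_S X` -/
noncomputable def stObj (a : P.ιᵒᵖ) : Scheme.{u} := ((EtCoh.bc f).obj (P.V.obj a)).left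

/-- transition -/
noncomputable def stMap {a b : P.ιᵒᵖ} (m : a ⟶ b) : stObj f P a ⟶ stObj f P b :=
  ((EtCoh.bc f).map (P.V.map m)).left

/-- the stages -/
noncomputable def stDiag : P.ιᵒᵖ ⥤ Scheme.{u} where
  obj := stObj f P
  map m := stMap f P m
  map_id a := by
    unfold stMap
    rw [P.V.map_id, (EtCoh.bc f).map_id]
    rfl
  map_comp m n := by
    unfold stMap
    rw [P.V.map_comp, (EtCoh.bc f).map_comp]
    rfl

/-- the projection to `X` -/
noncomputable def stHom (a : P.ιᵒᵖ) : stObj f P a ⟶ X := ((EtCoh.bc f).obj (P.V.obj a)).hom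

/-- the projection to `V_a` -/
noncomputable def stFst (a : P.ιᵒᵖ) : stObj f P a ⟶ (P.V.obj a).left := pullback.fst (P.V.obj a).hom f

theorem stHom_eq (a : P.ιᵒᵖ) : stHom f P a = pullback.snd (P.V.obj a).hom f := rfl

theorem st_condition (a : P.ιᵒᵖ) : stFst f P a ≫ (P.V.obj a).hom = stHom f P a ≫ f :=
  pullback.condition

theorem stMap_hom {a b : P.ιᵒᵖ} (m : a ⟶ b) : stMap f P m ≫ stHom f P b = stHom f P a :=
  MorphismProperty.Over.w ((EtCoh.bc f).map (P.V.map m))

theorem stMap_fst {a b : P.ιᵒᵖ} (m : a ⟶ b) : stMap f P m ≫ stFst f P b = stFst f P a ≫ (P.V.map m).left :=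
  (EtCoh.isPullback_bc_map f (P.V.map m)).w

theorem st_hom_ext {W : Scheme.{u}} {a : P.ιᵒᵖ} {x y : W ⟶ stObj f P a} (h1 : x ≫ stFst f P a = y ≫ stFst f P a)
    (h2 : x ≫ stHom f P a = y ≫ stHom f P a) : x = y :=
  pullback.hom_ext h1 h2

theorem stLeg_aux (a : P.ιᵒᵖ) :
    (pullback.snd f π ≫ P.leg a) ≫ (P.V.obj a).hom = pullback.fst f π ≫ f := by
  rw [Category.assoc, P.leg_hom]
  exact pullback.condition.symm

/-- the leg from the limit -/
noncomputable def stLeg (a : P.ιᵒᵖ) : pullback f π ⟶ stObj f P a :=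
  pullback.lift (pullback.snd f π ≫ P.leg a) (pullback.fst f π) (stLeg_aux f P a)

theorem stLeg_fst (a : P.ιᵒᵖ) : stLeg f P a ≫ stFst f P a = pullback.snd f π ≫ P.leg a :=
  pullback.lift_fst _ _ _

theorem stLeg_hom (a : P.ιᵒᵖ) : stLeg f P a ≫ stHom f P a = pullback.fst f π :=
  pullback.lift_snd _ _ _

theorem stLeg_map {a b : P.ιᵒᵖ} (m : a ⟶ b) : stLeg f P a ≫ stMap f P m = stLeg f P b := by
  refine st_hom_ext f P ?_ ?_
  · rw [Category.assoc, stMap_fst, ← Category.assoc, stLeg_fst, stLeg_fst, Category.assoc, P.leg_map m]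
  · rw [Category.assoc, stMap_hom, stLeg_hom, stLeg_hom]

/-- the cone -/
noncomputable def stCone : Cone (stDiag f P) :=
  Cone.mk (pullback f π)
    { app := stLeg f P, naturality := fun _ _ m => (Category.id_comp _).trans (stLeg_map f P m).symm }

theorem stCone_app (a : P.ιᵒᵖ) : (stCone f P).π.app a = stLeg f P a := rfl

theorem st_sameHom {W : Scheme.{u}} (x : ∀ a, W ⟶ stObj f P a)
    (hx : ∀ {a b : P.ιᵒᵖ} (m : a ⟶ b), x a ≫ stMap f P m = x b) (a b : P.ιᵒᵖ) :
    x a ≫ stHom f P a = x b ≫ stHom f P b := by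
  haveI := P.directed
  obtain ⟨k, hk, hk'⟩ := directed_of (· ≤ ·) a.unop b.unop
  have e : ∀ (c : P.ιᵒᵖ) (m : op k ⟶ c), x c ≫ stHom f P c = x (op k) ≫ stHom f P (op k) := fun c m => by
    rw [← hx m, Category.assoc, stMap_hom]
  exact (e a (homOfLE hk).op).trans (e b (homOfLE hk').op).symm

theorem existsUnique_stLift {W : Scheme.{u}} (x : ∀ a, W ⟶ stObj f P a)
    (hx : ∀ {a b : P.ιᵒᵖ} (m : a ⟶ b), x a ≫ stMap f P m = x b) :
    ∃! r : W ⟶ pullback f π, ∀ a, r ≫ stLeg f P a = x a := by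
  obtain ⟨hP⟩ := P.isLimit
  obtain ⟨i₀⟩ := P.nonempty
  have hy : ∀ {a b : P.ιᵒᵖ} (m : a ⟶ b), (x a ≫ stFst f P a) ≫ (P.V.map m).left = x b ≫ stFst f P b :=
    fun {a b} m => by rw [Category.assoc, ← stMap_fst, ← Category.assoc, hx m]
  let t : W ⟶ T := hP.lift (etLegs P.V (fun a => x a ≫ stFst f P a) hy)
  have ht : ∀ a, t ≫ P.leg a = x a ≫ stFst f P a := fun a =>
    hP.fac (etLegs P.V (fun a => x a ≫ stFst f P a) hy) a
  have hw : (x (op i₀) ≫ stHom f P (op i₀)) ≫ f = t ≫ π := by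
    rw [← congrArg (t ≫ ·) (P.leg_hom (op i₀)), ← Category.assoc, ht, Category.assoc, Category.assoc, st_condition]
  refine ⟨pullback.lift (x (op i₀) ≫ stHom f P (op i₀)) t hw, fun a => st_hom_ext f P ?_ ?_, fun r hr => ?_⟩
  · rw [Category.assoc, stLeg_fst, pullback.lift_snd_assoc, ht]
  · rw [Category.assoc, stLeg_hom, pullback.lift_fst, st_sameHom f P x hx]
  · apply pullback.hom_ext
    · rw [pullback.lift_fst, ← hr (op i₀), Category.assoc, stLeg_hom]
    · rw [pullback.lift_snd]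
      refine hP.hom_ext fun a => ?_
      refine Eq.trans ?_ (ht a).symm
      change (r ≫ pullback.snd f π) ≫ P.leg a = _
      rw [← hr a, Category.assoc, Category.assoc, stLeg_fst]

theorem stCone_w (s : Cone (stDiag f P)) {a b : P.ιᵒᵖ} (m : a ⟶ b) :
    (s.π.app a : s.pt ⟶ stObj f P a) ≫ stMap f P m = s.π.app b :=
  s.w m

theorem nonempty_isLimit_stCone : Nonempty (IsLimit (stCone f P)) :=
  ⟨IsLimit.ofExistsUnique fun s => existsUnique_stLift f P (fun a => s.π.app a) (stCone_w f P s)⟩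

theorem stDiag_affine ⦃a b : P.ιᵒᵖ⦄ (m : a ⟶ b) : IsAffineHom ((stDiag f P).map m) := by
  haveI := P.affine a
  haveI := P.affine b
  exact MorphismProperty.of_isPullback (P := @IsAffineHom) (EtCoh.isPullback_bc_map f (P.V.map m)).flip
    (inferInstance : IsAffineHom (P.V.map m).left)

set_option backward.isDefEq.respectTransparency.types false in
theorem stDiag_compact [QuasiCompact f] (a : P.ιᵒᵖ) : CompactSpace ↥((stDiag f P).obj a) := by
  haveI := P.affine a
  haveI : QuasiCompact (stFst f P a) := MorphismProperty.pullback_fst _ _ ‹QuasiCompact f›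
  exact @QuasiCompact.compactSpace_of_compactSpace _ _ (stFst f P a) ‹_› (inferInstance : CompactSpace (P.V.obj a).left)

set_option backward.isDefEq.respectTransparency.types false in
theorem stDiag_quasiSeparated [QuasiSeparated f] (a : P.ιᵒᵖ) : QuasiSeparatedSpace ↥((stDiag f P).obj a) := by
  haveI := P.affine a
  haveI : QuasiSeparated (stFst f P a) := MorphismProperty.pullback_fst _ _ ‹QuasiSeparated f›
  exact @quasiSeparatedSpace_of_quasiSeparated _ _ (stFst f P a) (inferInstance : QuasiSeparatedSpace (P.V.obj a).left) ‹_›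

end Groth.Agent.EtLimit
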