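import Groth.Agent.EtLimit.Global

/-! global functions and units commute with affine limits -/

set_option autoImplicit false
universe u

open CategoryTheory CategoryTheory.Limits AlgebraicGeometry Opposite

namespace Groth.Agent.EtLimit

open Groth.Agent.EtFound

set_option backward.isDefEq.respectTransparency.types false

theorem limitColimit_ΓAdd : LimitColimit EtCoh.ΓAdd.{u} where
  inj D c hc _ _ _ i s hs := by
    obtain ⟨j, f, hj⟩ := exists_appTop_map_eq_zero_of_isLimit D c hc (i := i) s.down (congrArg ULift.down hs)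
    exact ⟨j, f, ULift.ext _ _ hj⟩
  surj D c hc _ _ _ σ := by
    obtain ⟨i, t, ht⟩ := exists_appTop_π_eq_of_isLimit D c hc σ.down
    exact ⟨i, ULift.up t, ULift.ext _ _ ht.symm⟩

/-- the underlying function of a unit section -/
noncomputable def unitVal {X : Scheme.{u}} (s : EtCoh.ΓUnits.obj (op X)) : Γ(X, ⊤) :=
  Units.val (Additive.toMul (ULift.down s) : Γ(X, ⊤)ˣ)

theorem unitVal_map {X Y : Scheme.{u}} (f : X ⟶ Y) (s : EtCoh.ΓUnits.obj (op Y)) :
    unitVal (EtCoh.ΓUnits.map f.op s) = f.appTop (unitVal s) := rfl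

theorem unitVal_zero (X : Scheme.{u}) : unitVal (0 : EtCoh.ΓUnits.obj (op X)) = 1 := rfl

theorem unitVal_ext {X : Scheme.{u}} {s t : EtCoh.ΓUnits.obj (op X)} (h : unitVal s = unitVal t) : s = t :=
  ULift.ext _ _ (Additive.toMul.injective (Units.ext h))

theorem limitColimit_ΓUnits : LimitColimit EtCoh.ΓUnits.{u} where
  inj D c hc _ _ _ i s hs := by
    have h : (c.π.app i).appTop (unitVal s - 1) = 0 := by
      rw [map_sub, map_one, ← unitVal_map, hs, unitVal_zero, sub_self]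
    obtain ⟨j, f, hj⟩ := exists_appTop_map_eq_zero_of_isLimit D c hc (i := i) _ h
    refine ⟨j, f, unitVal_ext ?_⟩
    rw [unitVal_map, unitVal_zero]
    rw [map_sub, map_one, sub_eq_zero] at hj
    exact hj
  surj D c hc _ _ _ σ := by
    let v : Γ(c.pt, ⊤)ˣ := Additive.toMul (ULift.down σ)
    obtain ⟨i, a, ha⟩ := exists_appTop_π_eq_of_isLimit D c hc (v : Γ(c.pt, ⊤))
    obtain ⟨i', b, hb⟩ := exists_appTop_π_eq_of_isLimit D c hc (↑v⁻¹ : Γ(c.pt, ⊤))
    obtain ⟨k, g, g', -⟩ := IsCofilteredOrEmpty.cone_objs i i'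
    have e : ∀ {l : _} (m : k ⟶ l) (z : Γ(D.obj l, ⊤)),
        (c.π.app k).appTop ((D.map m).appTop z) = (c.π.app l).appTop z := fun {l} m z => by
      rw [← ConcreteCategory.comp_apply, ← Scheme.Hom.comp_appTop, c.w]
    have h : (c.π.app k).appTop ((D.map g).appTop a * (D.map g').appTop b - 1) = 0 := by
      rw [map_sub, map_mul, e, e, ← ha, ← hb, map_one, Units.mul_inv, sub_self]
    obtain ⟨l, f, hl⟩ := exists_appTop_map_eq_zero_of_isLimit D c hc (i := k) _ h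
    rw [map_sub, map_mul, map_one, sub_eq_zero] at hl
    refine ⟨l, ULift.up (Additive.ofMul (Units.mk _ _ hl ((mul_comm _ _).trans hl))), unitVal_ext ?_⟩
    rw [unitVal_map]
    change (c.π.app l).appTop ((D.map f).appTop ((D.map g).appTop a)) = _
    have e' : (c.π.app l).appTop ((D.map f).appTop ((D.map g).appTop a)) = (c.π.app k).appTop ((D.map g).appTop a) := by
      rw [← ConcreteCategory.comp_apply (D.map f).appTop, ← Scheme.Hom.comp_appTop, c.w]
    exact e'.trans ((e g a).trans ha.symm)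

variable {X Y : Scheme.{u}} (u : X ⟶ Y) [PreservesFiniteLimits (EtCoh.pull u)]

theorem HofPush_hmap {F : EtCoh.Ab Y} {M : EtCoh.Ab X} (a : F ⟶ (EtCoh.push u).obj M) (n : ℕ) (ξ : EtCoh.H Y F n) :
    EtLim.HofPush u M n (hmap a n ξ) = hThen u F (((EtCoh.pullPushAdj u).homEquiv _ _).symm a) n ξ := by
  refine (HpullThen_hmap u (((EtCoh.pullPushAdj u).homEquiv _ _).symm a) ((EtCoh.pullPushAdj u).counit.app M) a
    (𝟙 M) (by rw [Adjunction.homEquiv_counit, Category.comp_id]) n ξ).trans ?_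
  exact ConcreteCategory.congr_hom ((EtCoh.HF X n).map_id M) _

/-- the frozen pullback of units -/
theorem HGmPull_apply (n : ℕ) (ξ : EtCoh.H Y (EtCoh.Gm Y) n) :
    EtLim.HGmPull u n ξ = hThen u (EtCoh.Gm Y) (globPull EtCoh.ΓUnits EtCoh.isSheaf_ΓUnits u) n ξ :=
  HofPush_hmap u (EtLim.GmPush u) n ξ

/-- the frozen pullback of functions -/
theorem HGaPull_apply (n : ℕ) (ξ : EtCoh.H Y (EtCoh.Ga Y) n) :
    EtLim.HGaPull u n ξ = hThen u (EtCoh.Ga Y) (globPull EtCoh.ΓAdd EtCoh.isSheaf_ΓAdd u) n ξ :=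
  HofPush_hmap u (EtLim.GaPush u) n ξ

theorem HGmPull_eq_zero_iff (n : ℕ) (ξ : EtCoh.H Y (EtCoh.Gm Y) n) :
    EtLim.HGmPull u n ξ = 0 ↔ hThen u (EtCoh.Gm Y) (globPull EtCoh.ΓUnits EtCoh.isSheaf_ΓUnits u) n ξ = 0 :=
  ⟨(HGmPull_apply u n ξ).symm.trans, (HGmPull_apply u n ξ).trans⟩

theorem HGaPull_eq_zero_iff (n : ℕ) (ξ : EtCoh.H Y (EtCoh.Ga Y) n) :
    EtLim.HGaPull u n ξ = 0 ↔ hThen u (EtCoh.Ga Y) (globPull EtCoh.ΓAdd EtCoh.isSheaf_ΓAdd u) n ξ = 0 :=
  ⟨(HGaPull_apply u n ξ).symm.trans, (HGaPull_apply u n ξ).trans⟩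

end Groth.Agent.EtLimit
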