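import Groth.Agent.EtLimit.Refine

/-! constructions of systems: direct images from the limit, kernels, cokernels -/

set_option autoImplicit false
set_option linter.style.haveILetI false
universe u

open CategoryTheory CategoryTheory.Limits AlgebraicGeometry Opposite

namespace Groth.Agent.EtLimit

open Groth.Agent.EtFound

set_option backward.isDefEq.respectTransparency.types false

section theta

variable {X Y Z : Scheme.{u}} (v : X ⟶ Y) (u : Y ⟶ Z) (w : X ⟶ Z) (hw : v ≫ u = w)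

theorem θPull_naturality {F F' : EtCoh.Ab Z} (a : F ⟶ F') :
    (EtCoh.pull v).map ((EtCoh.pull u).map a) ≫ (θPull v u w hw).hom.app F' =
      (θPull v u w hw).hom.app F ≫ (EtCoh.pull w).map a :=
  (θPull v u w hw).hom.naturality a

end theta

section abstract

variable {C : Type*} [Category* C]

theorem cocycle_epi {B₂ C₂ Bw Cw Bk Ck Bj Cj : C} (p : B₂ ⟶ C₂) [Epi p] {θB : B₂ ⟶ Bw} {θC : C₂ ⟶ Cw}
    {πw : Bw ⟶ Cw} (n : p ≫ θC = θB ≫ πw) {βw : Bw ⟶ Bk} {γw : Cw ⟶ Ck} {πk : Bk ⟶ Ck}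
    (h1 : πw ≫ γw = βw ≫ πk) {β' : B₂ ⟶ Bj} {γ' : C₂ ⟶ Cj} {πj : Bj ⟶ Cj} (h2 : p ≫ γ' = β' ≫ πj)
    {β : Bj ⟶ Bk} {γ : Cj ⟶ Ck} (h3 : πj ≫ γ = β ≫ πk) (hB : θB ≫ βw = β' ≫ β) : θC ≫ γw = γ' ≫ γ := by
  rw [← cancel_epi p, reassoc_of% n, h1, reassoc_of% hB, reassoc_of% h2, h3]

theorem cocycle_mono {K₂ A₂ Kw Aw Kk Ak Kj Aj : C} (ik : Kk ⟶ Ak) [Mono ik] {i₂ : K₂ ⟶ A₂} {θK : K₂ ⟶ Kw}
    {θA : A₂ ⟶ Aw} {iw : Kw ⟶ Aw} (n : i₂ ≫ θA = θK ≫ iw) {αw : Aw ⟶ Ak} {κw : Kw ⟶ Kk}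
    (h1 : κw ≫ ik = iw ≫ αw) {α' : A₂ ⟶ Aj} {κ' : K₂ ⟶ Kj} {ij : Kj ⟶ Aj} (h2 : κ' ≫ ij = i₂ ≫ α')
    {α : Aj ⟶ Ak} {κ : Kj ⟶ Kk} (h3 : κ ≫ ik = ij ≫ α) (hA : θA ≫ αw = α' ≫ α) : θK ≫ κw = κ' ≫ κ := by
  rw [← cancel_mono ik, Category.assoc, Category.assoc, h1, ← reassoc_of% n, hA, h3, reassoc_of% h2]

end abstract

variable {ι : Type u} [Preorder ι] {Xs : ιᵒᵖ ⥤ Scheme.{u}}

namespace Sys

section cokernel

variable {A B : Sys Xs} (f : Hom A B)

theorem coker_φ_aux {i j : ι} (h : i ≤ j) :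
    f.app i ≫ B.τ h ≫ (EtCoh.push (tr Xs h)).map (cokernel.π (f.app j)) = 0 := by
  have h1 : f.app i ≫ B.τ h = A.τ h ≫ (EtCoh.push (tr Xs h)).map (f.app j) := by
    rw [τ, τ, ← Adjunction.homEquiv_naturality_left, f.natural h, Adjunction.homEquiv_naturality_right]
  rw [reassoc_of% h1, ← Functor.map_comp, cokernel.condition, Functor.map_zero, comp_zero]

/-- the cokernels -/
noncomputable def cokObj (i : ι) : EtCoh.Ab (Xs.obj (op i)) := cokernel (f.app i)

/-- the projection to the cokernels -/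
noncomputable def cokProj (i : ι) : B.obj i ⟶ cokObj f i := cokernel.π (f.app i)

instance epi_cokProj (i : ι) : Epi (cokProj f i) := inferInstanceAs (Epi (cokernel.π (f.app i)))

/-- the transitions of the cokernels -/
noncomputable def cokerφ {i j : ι} (h : i ≤ j) :
    (EtCoh.pull (tr Xs h)).obj (cokObj f i) ⟶ cokObj f j :=
  ((EtCoh.pullPushAdj (tr Xs h)).homEquiv _ _).symm
    (cokernel.desc (f.app i) (B.τ h ≫ (EtCoh.push (tr Xs h)).map (cokernel.π (f.app j))) (coker_φ_aux f h))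

theorem π_cokerφ {i j : ι} (h : i ≤ j) :
    (EtCoh.pull (tr Xs h)).map (cokProj f i) ≫ cokerφ f h = B.φ h ≫ cokProj f j := by
  apply ((EtCoh.pullPushAdj (tr Xs h)).homEquiv _ _).injective
  rw [Adjunction.homEquiv_naturality_left, Adjunction.homEquiv_naturality_right, cokerφ, Equiv.apply_symm_apply]
  exact cokernel.π_desc _ _ _

theorem cokerφ_cocycle {i j k : ι} (hij : i ≤ j) (hjk : j ≤ k) :
    (θPull (tr Xs hjk) (tr Xs hij) (tr Xs (hij.trans hjk)) (tr_comp Xs hij hjk)).hom.app (cokObj f i) ≫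
        cokerφ f (hij.trans hjk) = (EtCoh.pull (tr Xs hjk)).map (cokerφ f hij) ≫ cokerφ f hjk := by
  haveI : Epi ((EtCoh.pull (tr Xs hij)).map (cokProj f i)) := inferInstance
  haveI : Epi ((EtCoh.pull (tr Xs hjk)).map ((EtCoh.pull (tr Xs hij)).map (cokProj f i))) := inferInstance
  exact cocycle_epi ((EtCoh.pull (tr Xs hjk)).map ((EtCoh.pull (tr Xs hij)).map (cokProj f i)))
      (θPull_naturality _ _ _ _ (cokProj f i)) (π_cokerφ f (hij.trans hjk))
      (by rw [← Functor.map_comp, π_cokerφ, Functor.map_comp]) (π_cokerφ f hjk) (B.cocycle hij hjk)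

/-- the cokernel system -/
noncomputable def coker : Sys Xs := ⟨cokObj f, @cokerφ _ _ _ _ _ f, @cokerφ_cocycle _ _ _ _ _ f⟩

/-- the projection to the cokernel system -/
noncomputable def cokerπ : Hom B (coker f) := ⟨cokProj f, @π_cokerφ _ _ _ _ _ f⟩

end cokernel

section kernel

variable {A B : Sys Xs} (f : Hom A B)

/-- the kernels -/
noncomputable def kerObj (i : ι) : EtCoh.Ab (Xs.obj (op i)) := kernel (f.app i)

/-- the inclusion of the kernels -/
noncomputable def kerIncl (i : ι) : kerObj f i ⟶ A.obj i := kernel.ι (f.app i)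

instance mono_kerIncl (i : ι) : Mono (kerIncl f i) := inferInstanceAs (Mono (kernel.ι (f.app i)))

theorem ker_φ_aux {i j : ι} (h : i ≤ j) :
    ((EtCoh.pull (tr Xs h)).map (kerIncl f i) ≫ A.φ h) ≫ f.app j = 0 := by
  rw [Category.assoc, ← f.natural h, ← Category.assoc, ← Functor.map_comp,
    show kerIncl f i ≫ f.app i = 0 from kernel.condition (f.app i), Functor.map_zero, zero_comp]

/-- the transitions of the kernels -/
noncomputable def kerφ {i j : ι} (h : i ≤ j) : (EtCoh.pull (tr Xs h)).obj (kerObj f i) ⟶ kerObj f j :=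
  kernel.lift _ ((EtCoh.pull (tr Xs h)).map (kerIncl f i) ≫ A.φ h) (ker_φ_aux f h)

theorem kerφ_ι {i j : ι} (h : i ≤ j) :
    kerφ f h ≫ kerIncl f j = (EtCoh.pull (tr Xs h)).map (kerIncl f i) ≫ A.φ h :=
  kernel.lift_ι _ _ _

theorem kerι_natural {i j : ι} (h : i ≤ j) :
    (EtCoh.pull (tr Xs h)).map (kerIncl f i) ≫ A.φ h = kerφ f h ≫ kerIncl f j :=
  (kerφ_ι f h).symm

theorem kerφ_cocycle {i j k : ι} (hij : i ≤ j) (hjk : j ≤ k) :
    (θPull (tr Xs hjk) (tr Xs hij) (tr Xs (hij.trans hjk)) (tr_comp Xs hij hjk)).hom.app (kerObj f i) ≫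
        kerφ f (hij.trans hjk) = (EtCoh.pull (tr Xs hjk)).map (kerφ f hij) ≫ kerφ f hjk :=
  cocycle_mono (kerIncl f k) (θPull_naturality _ _ _ _ (kerIncl f i))
      (kerφ_ι f (hij.trans hjk)) (by rw [← Functor.map_comp, kerφ_ι, Functor.map_comp]) (kerφ_ι f hjk)
      (A.cocycle hij hjk)

/-- the kernel system -/
noncomputable def ker : Sys Xs := ⟨kerObj f, @kerφ _ _ _ _ _ f, @kerφ_cocycle _ _ _ _ _ f⟩

/-- the inclusion of the kernel system -/
noncomputable def kerι : Hom (ker f) A := ⟨kerIncl f, @kerι_natural _ _ _ _ _ f⟩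

end kernel

end Sys

section push

variable (c : Cone Xs)

theorem cone_w {i j : ι} (h : i ≤ j) : c.π.app (op j) ≫ tr Xs h = c.π.app (op i) := c.w (homOfLE h).op

/-- the direct images -/
noncomputable def pushObj (M : EtCoh.Ab c.pt) (i : ι) : EtCoh.Ab (Xs.obj (op i)) :=
  (EtCoh.push (c.π.app (op i))).obj M

/-- their transitions -/
noncomputable def pushφ (M : EtCoh.Ab c.pt) {i j : ι} (h : i ≤ j) :
    (EtCoh.pull (tr Xs h)).obj (pushObj c M i) ⟶ pushObj c M j :=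
  phiPush (c.π.app (op j)) (tr Xs h) (c.π.app (op i)) (cone_w c h) M

theorem pushφ_cocycle (M : EtCoh.Ab c.pt) {i j k : ι} (hij : i ≤ j) (hjk : j ≤ k) :
    (θPull (tr Xs hjk) (tr Xs hij) (tr Xs (hij.trans hjk)) (tr_comp Xs hij hjk)).hom.app (pushObj c M i) ≫
        pushφ c M (hij.trans hjk) = (EtCoh.pull (tr Xs hjk)).map (pushφ c M hij) ≫ pushφ c M hjk :=
  phiPush_cocycle (c.π.app (op k)) (tr Xs hjk) (tr Xs hij) _ (tr_comp Xs hij hjk) (c.π.app (op j))
      (c.π.app (op i)) (cone_w c hjk) (cone_w c hij) (cone_w c (hij.trans hjk)) M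

/-- direct images from the limit -/
noncomputable def pushSys (M : EtCoh.Ab c.pt) : Sys Xs := ⟨pushObj c M, @pushφ _ _ _ c M, @pushφ_cocycle _ _ _ c M⟩

/-- functoriality of the direct images -/
noncomputable def pushApp {M N : EtCoh.Ab c.pt} (a : M ⟶ N) (i : ι) : pushObj c M i ⟶ pushObj c N i :=
  (EtCoh.push (c.π.app (op i))).map a

theorem pushApp_natural {M N : EtCoh.Ab c.pt} (a : M ⟶ N) {i j : ι} (h : i ≤ j) :
    (EtCoh.pull (tr Xs h)).map (pushApp c a i) ≫ pushφ c N h = pushφ c M h ≫ pushApp c a j := by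
  apply ((EtCoh.pullPushAdj (tr Xs h)).homEquiv _ _).injective
  rw [Adjunction.homEquiv_naturality_left, Adjunction.homEquiv_naturality_right, pushφ, pushφ]
  erw [homEquiv_phiPush, homEquiv_phiPush]
  have n1 := (EtCoh.pushCongr (cone_w c h)).inv.naturality a
  have n2 := (EtCoh.pushComp (tr Xs h) (c.π.app (op j))).inv.naturality a
  simp only [Functor.comp_map] at n2
  simp only [tauPush, Category.assoc, pushApp]
  erw [reassoc_of% n1, n2]
  rfl

/-- functoriality of `pushSys` -/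
noncomputable def pushHom {M N : EtCoh.Ab c.pt} (a : M ⟶ N) : Sys.Hom (pushSys c M) (pushSys c N) :=
  ⟨pushApp c a, @pushApp_natural _ _ _ c M N a⟩

theorem τ_pushSys (M : EtCoh.Ab c.pt) {i j : ι} (h : i ≤ j) :
    (pushSys c M).τ h = tauPush (c.π.app (op j)) (tr Xs h) (c.π.app (op i)) (cone_w c h) M :=
  homEquiv_phiPush (c.π.app (op j)) (tr Xs h) (c.π.app (op i)) (cone_w c h) M

end push

end Groth.Agent.EtLimit
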