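import Mathlib

/-! étale neighbourhoods on a limit scheme come from the stages -/

set_option autoImplicit false
set_option linter.style.haveILetI false
universe u

open CategoryTheory CategoryTheory.Limits AlgebraicGeometry Opposite
open scoped TensorProduct

namespace Groth.Agent.EtLimit

/-- maps from a limit to a scheme locally of finite presentation over `Spec ℤ` come from a stage -/
theorem exists_factor_fp {I : Type u} [SmallCategory I] [IsCofiltered I] (D : I ⥤ Scheme.{u}) (c : Cone D)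
    (hc : IsLimit c) [∀ {i j} (f : i ⟶ j), IsAffineHom (D.map f)] [∀ i, CompactSpace (D.obj i)]
    [∀ i, QuasiSeparatedSpace (D.obj i)] (R : Type u) [CommRing R] [Algebra (ULift.{u} ℤ) R]
    [Algebra.FinitePresentation (ULift.{u} ℤ) R] (a : c.pt ⟶ Spec (CommRingCat.of R)) :
    ∃ (i : I) (g : D.obj i ⟶ Spec (CommRingCat.of R)), c.π.app i ≫ g = a := by
  let S : Scheme.{u} := Spec (CommRingCat.of (ULift.{u} ℤ))
  let f : Spec (CommRingCat.of R) ⟶ S := Spec.map (CommRingCat.ofHom (algebraMap (ULift.{u} ℤ) R))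
  have : LocallyOfFinitePresentation f := by
    rw [HasRingHomProperty.Spec_iff (P := @LocallyOfFinitePresentation)]
    exact RingHom.finitePresentation_algebraMap.2 inferInstance
  let t : D ⟶ (Functor.const I).obj S :=
    { app := fun i => specULiftZIsTerminal.from _
      naturality := fun _ _ _ => specULiftZIsTerminal.hom_ext _ _ }
  obtain ⟨i, g, hg, -⟩ := Scheme.exists_π_app_comp_eq_of_locallyOfFinitePresentation D t f c hc a
    (NatTrans.ext (funext fun _ => specULiftZIsTerminal.hom_ext _ _))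
  exact ⟨i, g, hg⟩

set_option backward.isDefEq.respectTransparency false in
/-- étale neighbourhoods of points of a limit come from stages -/
theorem exists_stage_nhd {I : Type u} [SmallCategory I] [IsCofiltered I] (D : I ⥤ Scheme.{u}) (c : Cone D)
    (hc : IsLimit c) [∀ {i j} (f : i ⟶ j), IsAffineHom (D.map f)]
    {V : Scheme.{u}} (f : V ⟶ c.pt) [Etale f] (v : V) :
    ∃ (j : I) (W : Scheme.{u}) (w : W ⟶ D.obj j) (h : pullback w (c.π.app j) ⟶ V),
      IsAffine W ∧ Etale w ∧ h ≫ f = pullback.snd w (c.π.app j) ∧ IsOpenImmersion h ∧ v ∈ Set.range h.base := by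
  obtain ⟨_, ⟨O, ⟨i, U, hU, rfl⟩, rfl⟩, hxO, -⟩ :=
    (isBasis_preimage_isAffineOpen D c hc).exists_subset_of_mem_open (Set.mem_univ (f.base v)) isOpen_univ
  let D' := opensDiagram D i U
  let c' := opensCone D c i U
  have hc' : IsLimit c' := isLimitOpensCone D c hc i U
  have : ∀ j, IsAffine (D'.obj j) := fun j => hU.preimage _
  have : IsAffine c'.pt := Scheme.isAffine_of_isLimit _ hc'
  let E : (c.π.app i ⁻¹ᵁ U).toScheme ≅ Spec Γ(c.pt, c.π.app i ⁻¹ᵁ U) :=
    (IsAffineOpen.isoSpec (show IsAffineOpen (c.π.app i ⁻¹ᵁ U) from inferInstanceAs (IsAffine c'.pt)))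
  let T : CommRingCat.{u} := Γ(c.pt, c.π.app i ⁻¹ᵁ U)
  let q : Spec T ⟶ c.pt := E.inv ≫ (c.π.app i ⁻¹ᵁ U).ι
  obtain ⟨t, ht⟩ : ∃ t, q.base t = f.base v := by
    refine ⟨E.hom.base ⟨f.base v, hxO⟩, ?_⟩
    rw [← Scheme.Hom.comp_apply]
    simp [q]
  obtain ⟨p, hp, -⟩ := Scheme.Pullback.exists_preimage_pullback (f := f) (g := q) v t ht.symm
  obtain ⟨C, o, ho, hp0, -⟩ := Scheme.exists_affine_mem_range_and_range_subset
    (x := p) (U := (⊤ : (pullback f q).Opens)) (by simp)
  obtain ⟨φ, hφ⟩ := Spec.map_surjective (o ≫ pullback.snd f q)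
  algebraize [φ.hom]
  have : Algebra.Etale T C := by
    have h : Etale (Spec.map φ) := by rw [hφ]; infer_instance
    exact RingHom.etale_algebraMap.1 ((HasRingHomProperty.Spec_iff (P := @Etale)).mp h)
  letI : Algebra (ULift.{u} ℤ) T := ((Int.castRingHom T).comp ULift.ringEquiv.toRingHom).toAlgebra
  obtain ⟨A₀, C₀, _, _, hfg, _, ⟨e⟩⟩ := Algebra.Etale.exists_subalgebra_fg (R := ULift.{u} ℤ) (A := T) (B := C)
  have : Algebra.FiniteType (ULift.{u} ℤ) A₀ := (Subalgebra.fg_iff_finiteType A₀).mp hfg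
  have : IsNoetherianRing (ULift.{u} ℤ) := isNoetherianRing_of_ringEquiv ℤ ULift.ringEquiv.symm
  have : Algebra.FinitePresentation (ULift.{u} ℤ) A₀ := (Algebra.FinitePresentation.of_finiteType).mp ‹_›
  obtain ⟨k, g, hg⟩ := exists_factor_fp D' c' hc' A₀
    (E.hom ≫ Spec.map (CommRingCat.ofHom (algebraMap A₀ T)))
  let b : Spec (CommRingCat.of C₀) ⟶ Spec (CommRingCat.of A₀) :=
    Spec.map (CommRingCat.ofHom (algebraMap A₀ C₀))
  have : Etale b := by
    rw [HasRingHomProperty.Spec_iff (P := @Etale)]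
    exact RingHom.etale_algebraMap.2 inferInstance
  let U' : (D.obj k.left).Opens := D.map k.hom ⁻¹ᵁ U
  have : IsAffine U'.toScheme := hU.preimage _
  let g' : U'.toScheme ⟶ Spec (CommRingCat.of A₀) := g
  let W : Scheme.{u} := pullback g' b
  let w : W ⟶ D.obj k.left := pullback.fst g' b ≫ U'.ι
  -- the fibre over the limit
  let L : Scheme.{u} := Spec C
  let π : L ⟶ Spec T := Spec.map (CommRingCat.ofHom (algebraMap T C))
  let m : L ⟶ Spec (CommRingCat.of C₀) := Spec.map (CommRingCat.ofHom ((e.symm.toRingEquiv.toRingHom).comp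
    (Algebra.TensorProduct.includeRight (R := A₀) (A := T) (B := C₀)).toRingHom))
  let ε : L ≅ Spec (CommRingCat.of (T ⊗[A₀] C₀)) :=
    Scheme.Spec.mapIso (e.symm.toRingEquiv.toCommRingCatIso).op
  have sq2 : IsPullback π m (Spec.map (CommRingCat.ofHom (algebraMap A₀ T))) b := by
    refine (IsPullback.of_hasPullback (Spec.map (CommRingCat.ofHom (algebraMap A₀ T))) b).of_iso
      ((pullbackSpecIso A₀ T C₀) ≪≫ ε.symm) (Iso.refl _) (Iso.refl _) (Iso.refl _) ?_ ?_ (by simp) (by simp)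
    · have e1 : ε.hom ≫ Spec.map (CommRingCat.ofHom (algebraMap T (T ⊗[A₀] C₀))) = π := by
        change Spec.map _ ≫ Spec.map _ = _
        rw [← Spec.map_comp]
        refine congrArg Spec.map ?_
        ext r
        exact e.symm.commutes r
      rw [← e1]
      change _ ≫ 𝟙 _ = ((pullbackSpecIso A₀ T C₀).hom ≫ ε.inv) ≫ ε.hom ≫ _
      rw [Category.comp_id, Category.assoc, Iso.inv_hom_id_assoc]
      exact (pullbackSpecIso_hom_fst' _ _ _).symm
    · have e2 : ε.hom ≫ Spec.map (CommRingCat.ofHom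
          (Algebra.TensorProduct.includeRight (R := A₀) (A := T) (B := C₀)).toRingHom) = m := by
        change Spec.map _ ≫ Spec.map _ = _
        rw [← Spec.map_comp]
        rfl
      rw [← e2]
      change _ ≫ 𝟙 _ = ((pullbackSpecIso A₀ T C₀).hom ≫ ε.inv) ≫ ε.hom ≫ _
      rw [Category.comp_id, Category.assoc, Iso.inv_hom_id_assoc]
      exact (pullbackSpecIso_hom_snd _ _ _).symm
  let cU : (c.π.app i ⁻¹ᵁ U).toScheme ⟶ U'.toScheme := c'.π.app k
  have hcU : cU ≫ U'.ι = (c.π.app i ⁻¹ᵁ U).ι ≫ c.π.app k.left := Scheme.Hom.resLE_comp_ι _ _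
  let a : Spec T ⟶ U'.toScheme := E.inv ≫ cU
  have ha : a ≫ g' = Spec.map (CommRingCat.ofHom (algebraMap A₀ T)) := by
    have hg' : cU ≫ g' = E.hom ≫ Spec.map (CommRingCat.ofHom (algebraMap A₀ T)) := hg
    simp only [a, Category.assoc, hg', Iso.inv_hom_id_assoc]
  let l : L ⟶ W := pullback.lift (π ≫ a) m (by rw [Category.assoc, ha, sq2.w])
  have hl1 : l ≫ pullback.fst g' b = π ≫ a := pullback.lift_fst _ _ _
  have hl2 : l ≫ pullback.snd g' b = m := pullback.lift_snd _ _ _
  have sqA : IsPullback l π (pullback.fst g' b) a :=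
    IsPullback.of_right (by rw [hl2, ha]; exact sq2.flip) hl1 (IsPullback.of_hasPullback g' b).flip
  have sqB : IsPullback a q U'.ι (c.π.app k.left) := by
    have h0 : IsPullback cU (c.π.app i ⁻¹ᵁ U).ι U'.ι (c.π.app k.left) := by
      refine IsOpenImmersion.isPullback _ _ _ _ hcU.symm ?_
      simp only [U', Scheme.Opens.opensRange_ι, ← Scheme.Hom.comp_preimage, c.w k.hom]
    exact h0.of_iso E (Iso.refl _) (Iso.refl _) (Iso.refl _) (by simp [a]) (by simp [q]) (by simp) (by simp)
  have sqW : IsPullback l (π ≫ q) w (c.π.app k.left) := sqA.paste_vert sqB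
  refine ⟨k.left, W, w, sqW.isoPullback.inv ≫ o ≫ pullback.fst f q, inferInstance, inferInstance, ?_,
    inferInstance, ?_⟩
  · simp only [Category.assoc, pullback.condition]
    rw [← Category.assoc o, ← hφ]
    exact sqW.isoPullback_inv_snd
  · obtain ⟨c0, hc0⟩ := hp0
    obtain ⟨p', hp'⟩ := sqW.isoPullback.inv.surjective c0
    refine ⟨p', ?_⟩
    rw [Scheme.Hom.comp_apply, hp', Scheme.Hom.comp_apply, hc0, hp]

end Groth.Agent.EtLimit
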