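import Groth.Agent.EtLimit.Chase
import Groth.Agent.EtLimit.StageNhd
import Groth.Agent.EtFound.Basic
import Groth.Agent.MorLib.BaseChangeLim
import Groth.Agent.EtFound.Germ

/-! a system dies if its sections die near every point of the limit -/

set_option autoImplicit false
set_option linter.style.haveILetI false
universe u

open CategoryTheory CategoryTheory.Limits AlgebraicGeometry Opposite

namespace Groth.Agent.EtLimit

open Groth.Agent.EtFound

set_option backward.isDefEq.respectTransparency.types false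

section sections

variable {X : Scheme.{u}} (F : EtCoh.Ab X)

/-- sections vanishing on a covering family vanish -/
theorem sect_eq_zero_of_cover {U : X.Etale} (s : F.obj.obj (op U))
    (h : ∀ x : U.left, ∃ (V : X.Etale) (g : V ⟶ U) (v : V.left), g.left.base v = x ∧ F.obj.map g.op s = 0) :
    s = 0 := by
  let R := Presheaf.equalizerSieve (X := op U) (F := F.obj) s 0
  have hR : R ∈ X.smallEtaleTopology U := (mem_topology_iff R).2 fun x => by
    obtain ⟨V, g, v, hv, hg⟩ := h x
    exact ⟨V, g, v, hg.trans (map_zero _).symm, hv⟩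
  exact ((((isSheaf_iff_isSheaf_of_type _ _).1
    ((sheafCompose X.smallEtaleTopology (forget AddCommGrpCat.{u + 1})).obj F).property).isSeparated) R hR).ext
      fun V g hg => hg

theorem exists_lift_of_epi {F G : EtCoh.Ab X} (g : F ⟶ G) [Epi g] {U : X.Etale} (q : G.obj.obj (op U)) (x : U.left) :
    ∃ (V : X.Etale) (m : V ⟶ U) (v : V.left) (p : F.obj.obj (op V)),
      m.left.base v = x ∧ g.hom.app (op V) p = G.obj.map m.op q := by
  haveI : Sheaf.IsLocallySurjective g := (Sheaf.isLocallySurjective_iff_epi' _ g).2 inferInstance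
  obtain ⟨V, m, v, ⟨p, hp⟩, hv⟩ := (mem_topology_iff _).1 (Presheaf.imageSieve_mem X.smallEtaleTopology g.hom q) x
  exact ⟨V, m, v, p, hv, hp⟩

end sections

theorem compactSpace_pullback {X Y T : Scheme.{u}} (f : T ⟶ X) (p : Y ⟶ X) [IsAffineHom p] [CompactSpace T] :
    CompactSpace ↥(pullback f p) := by
  haveI : IsAffineHom (pullback.fst f p) := MorphismProperty.pullback_fst _ _ ‹_›
  exact QuasiCompact.compactSpace_of_compactSpace (pullback.fst f p)

variable {ι : Type u} [Preorder ι] [IsDirected ι (· ≤ ·)] {Xs : ιᵒᵖ ⥤ Scheme.{u}}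

omit [IsDirected ι (· ≤ ·)] in
theorem Sys.τ_zero_of_le (A : Sys Xs) {i j k : ι} (hij : i ≤ j) (hjk : j ≤ k) (W : (Xs.obj (op i)).Etale)
    (s : (A.obj i).obj.obj (op W)) (hs : (A.τ hij).hom.app (op W) s = 0) :
    (A.τ (hij.trans hjk)).hom.app (op W) s = 0 := by
  rw [A.τ_trans hij hjk]
  refine (ConcreteCategory.comp_apply _ _ s).trans ?_
  exact (congrArg _ hs).trans (map_zero _)

variable (haff : ∀ ⦃a b : ιᵒᵖ⦄ (h : a ⟶ b), IsAffineHom (Xs.map h)) (c : Cone Xs) (hc : IsLimit c)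

/-- the projection `W ×_{X_j} X ⟶ W ×_{X_j} X_k` -/
noncomputable def prTo {j k : ι} (h : j ≤ k) (W : (Xs.obj (op j)).Etale) :
    ((EtCoh.bc (c.π.app (op j))).obj W).left ⟶ ((EtCoh.bc (tr Xs h)).obj W).left :=
  pullback.lift (pullback.fst W.hom (c.π.app (op j))) (pullback.snd W.hom (c.π.app (op j)) ≫ c.π.app (op k)) (by
    refine pullback.condition.trans ?_
    refine Eq.trans ?_ (Category.assoc _ _ _).symm
    exact congrArg (_ ≫ ·) (c.w (homOfLE h).op).symm)

omit [IsDirected ι (· ≤ ·)] in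
/-- naturality of the projections -/
theorem prTo_natural {j k : ι} (h : j ≤ k) {V W : (Xs.obj (op j)).Etale} (g : V ⟶ W) :
    prTo c h V ≫ ((EtCoh.bc (tr Xs h)).map g).left =
      ((EtCoh.bc (c.π.app (op j))).map g).left ≫ prTo c h W := by
  let πj := c.π.app (op j)
  let n₁ := (EtCoh.bc (tr Xs h)).map g
  refine pullback.hom_ext ?_ ?_
  · refine (Category.assoc _ _ _).trans ((congrArg (prTo c h V ≫ ·) (EtCoh.isPullback_bc_map _ g).w).trans ?_)
    refine (Category.assoc _ _ _).symm.trans ((congrArg (· ≫ g.left) (pullback.lift_fst _ _ _)).trans ?_)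
    refine (EtCoh.isPullback_bc_map πj g).w.symm.trans ?_
    exact ((Category.assoc _ _ _).trans (congrArg (((EtCoh.bc πj).map g).left ≫ ·) (pullback.lift_fst _ _ _))).symm
  · refine (Category.assoc _ _ _).trans ((congrArg (prTo c h V ≫ ·) (MorphismProperty.Over.w n₁)).trans ?_)
    refine (pullback.lift_snd _ _ _).trans ?_
    refine Eq.trans ?_ ((Category.assoc _ _ _).trans
      (congrArg (((EtCoh.bc πj).map g).left ≫ ·) (pullback.lift_snd _ _ _))).symm
    refine Eq.trans ?_ (Category.assoc _ _ _)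
    exact congrArg (· ≫ c.π.app (op k)) (MorphismProperty.Over.w ((EtCoh.bc πj).map g)).symm

include haff hc in
/-- a system dies if its sections die near every point of the limit -/
theorem Sys.dead_of_near (A : Sys Xs)
    (H : ∀ (j : ι) (W : (Xs.obj (op j)).Etale) (_ : IsAffine W.left) (s : (A.obj j).obj.obj (op W))
      (y : ((EtCoh.bc (c.π.app (op j))).obj W).left),
      ∃ (k : ι) (h : j ≤ k) (W' : (Xs.obj (op k)).Etale) (m : W' ⟶ (EtCoh.bc (tr Xs h)).obj W) (v : W'.left),
        m.left.base v = (prTo c h W).base y ∧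
          (A.obj k).obj.map m.op ((A.τ h).hom.app (op W) s) = 0) : A.Dead := by
  classical
  intro j W hW s
  haveI : IsAffine W.left := hW
  haveI : Nonempty ι := ⟨j⟩
  haveI : IsFiltered ι := isFiltered_of_directed_le_nonempty ι
  haveI : ∀ {a b : ιᵒᵖ} (f : a ⟶ b), IsAffineHom (Xs.map f) := fun f => haff f
  choose k hk W' m v hv hm using H j W hW s
  let U : ∀ y, ((EtCoh.bc (tr Xs (hk y))).obj W).left.Opens := fun y =>
    ⟨Set.range (m y).left.base, by
      haveI := etale_left (m y)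
      exact (Scheme.Hom.isOpenMap (m y).left).isOpen_range⟩
  let Winf := ((EtCoh.bc (c.π.app (op j))).obj W).left
  let f : W.left ⟶ Xs.obj (op j) := W.hom
  haveI : CompactSpace ↥W.left := inferInstance
  haveI : CompactSpace ↥Winf := by
    haveI : IsAffineHom (c.π.app (op j)) := isAffineHom_π_app Xs c hc (op j)
    exact compactSpace_pullback f (c.π.app (op j))
  obtain ⟨t, ht⟩ := isCompact_univ.elim_finite_subcover (fun y => (prTo c (hk y) W ⁻¹ᵁ U y : Set Winf))
    (fun y => (prTo c (hk y) W ⁻¹ᵁ U y).2) fun y _ => Set.mem_iUnion.2 ⟨y, ⟨v y, hv y⟩⟩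
  obtain ⟨k0, hk0⟩ := (Finset.image k t ∪ {j}).exists_le
  have hjk0 : j ≤ k0 := hk0 j (Finset.mem_union_right _ (Finset.mem_singleton_self j))
  have hyk0 : ∀ y ∈ t, k y ≤ k0 := fun y hy => hk0 _ (Finset.mem_union_left _ (Finset.mem_image_of_mem k hy))
  -- the base changes of `W` form a system with limit `Winf`
  have hX : IsPullback (pullback.fst f (c.π.app (op j))) (pullback.snd f (c.π.app (op j))) f
      (c.π.app (op j)) := IsPullback.of_hasPullback _ _
  let E := MorLib.BC.diag Xs f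
  let C := MorLib.BC.cone Xs f hX
  have hC : IsLimit C := MorLib.BC.isLimitCone Xs f hX hc
  let o : ∀ {a : ι}, j ≤ a → Over (op j) := fun h => CategoryTheory.Over.mk (homOfLE h).op
  let og : ∀ {a b : ι} (h : j ≤ a) (h' : a ≤ b), o (h.trans h') ⟶ o h := fun h h' =>
    CategoryTheory.Over.homMk (homOfLE h').op rfl
  haveI : ∀ x : Over (op j), CompactSpace ↥(E.obj x) := fun x => MorLib.BC.compactSpace_obj Xs f x
  let O : (E.obj (o hjk0)).Opens := ⨆ y : t, E.map (og (hk y.1) (hyk0 y.1 y.2)) ⁻¹ᵁ U y.1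
  have hO : C.π.app (o hjk0) ⁻¹ᵁ O = ⊤ := by
    refine top_le_iff.1 fun z _ => ?_
    obtain ⟨y, hy, hz⟩ := Set.mem_iUnion₂.1 (ht (Set.mem_univ z))
    refine TopologicalSpace.Opens.mem_iSup.2 ⟨⟨y, hy⟩, ?_⟩
    change (E.map (og (hk y) (hyk0 y hy))).base ((C.π.app (o hjk0)).base z) ∈ U y
    rw [← Scheme.Hom.comp_apply, C.w]
    exact hz
  obtain ⟨x, g, hg⟩ := exists_map_eq_top E C hC O hO
  let l : ι := x.left.unop
  have hjl : j ≤ l := leOfHom x.hom.unop
  have hkl : k0 ≤ l := leOfHom g.left.unop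
  refine ⟨l, hjl, ?_⟩
  refine sect_eq_zero_of_cover (A.obj l) (U := (EtCoh.bc (tr Xs hjl)).obj W) _ fun z => ?_
  have hz : ∀ z' : E.obj x, (E.map g).base z' ∈ O := fun z' => hg.ge (Set.mem_univ z')
  obtain ⟨⟨y, hy⟩, hzy⟩ := TopologicalSpace.Opens.mem_iSup.1 (hz z)
  have hyl : k y ≤ l := (hyk0 y hy).trans hkl
  obtain ⟨v', hv'⟩ : (E.map (g ≫ og (hk y) (hyk0 y hy))).base z ∈ Set.range (m y).left.base := by
    rw [E.map_comp, Scheme.Hom.comp_apply]
    exact hzy
  -- compare the two iterated base changes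
  let Q := (EtCoh.bc (tr Xs (hk y))).obj W
  let a : (EtCoh.bc (tr Xs hyl)).obj Q ⟶ (EtCoh.bc (tr Xs hjl)).obj W :=
    tauMap (tr Xs hyl) (tr Xs (hk y)) (tr Xs hjl) (tr_comp Xs (hk y) hyl) W
  let P := (EtCoh.bc (tr Xs hyl)).map (m y) ≫ a
  have hps : E.map (g ≫ og (hk y) (hyk0 y hy)) ≫ pullback.snd W.hom (tr Xs (hk y)) =
      pullback.snd W.hom (tr Xs hjl) ≫ tr Xs hyl := MorLib.BC.map_snd Xs f _
  have hpf : E.map (g ≫ og (hk y) (hyk0 y hy)) ≫ pullback.fst W.hom (tr Xs (hk y)) =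
      pullback.fst W.hom (tr Xs hjl) := MorLib.BC.map_fst Xs f _
  let e : ((EtCoh.bc (tr Xs hjl)).obj W).left ⟶ ((EtCoh.bc (tr Xs hyl)).obj Q).left :=
    pullback.lift (E.map (g ≫ og (hk y) (hyk0 y hy)))
      (pullback.snd W.hom (tr Xs hjl)) hps
  have hea : e ≫ a.left = 𝟙 _ := by
    refine pullback.hom_ext ?_ ?_
    · refine (Category.assoc _ _ _).trans ((congrArg (e ≫ ·) (tauMap_fst _ _ _ _ W)).trans ?_)
      refine (Category.assoc _ _ _).symm.trans ((congrArg (· ≫ _) (pullback.lift_fst _ _ _)).trans ?_)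
      exact hpf.trans (Category.id_comp _).symm
    · refine (Category.assoc _ _ _).trans ((congrArg (e ≫ ·) (MorphismProperty.Over.w a)).trans ?_)
      exact (pullback.lift_snd _ _ _).trans (Category.id_comp _).symm
  obtain ⟨p, -, hp⟩ : ∃ p : ((EtCoh.bc (tr Xs hyl)).obj (W' y)).left, p = p ∧
      ((EtCoh.bc (tr Xs hyl)).map (m y)).left.base p = e.base z := by
    obtain ⟨p, hp, -⟩ := Scheme.exists_preimage_of_isPullback (EtCoh.isPullback_bc_map (tr Xs hyl) (m y))
      (e.base z) v' ((Scheme.Hom.comp_apply _ _ z).symm.trans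
        ((congrArg (fun (k : ((EtCoh.bc (tr Xs hjl)).obj W).left ⟶ Q.left) => k.base z) (pullback.lift_fst _ _ hps)).trans hv'.symm))
    exact ⟨p, rfl, hp⟩
  refine ⟨_, P, p, ?_, ?_⟩
  · refine (Scheme.Hom.comp_apply _ _ p).trans ((congrArg a.left.base hp).trans ?_)
    exact (Scheme.Hom.comp_apply _ _ z).symm.trans (congrArg (fun (k : ((EtCoh.bc (tr Xs hjl)).obj W).left ⟶ ((EtCoh.bc (tr Xs hjl)).obj W).left) => k.base z) hea)
  · have hs : (A.τ hjl).hom.app (op W) s =
        ((EtCoh.pushComp (tr Xs (hk y)) (tr Xs hyl)).hom.app (A.obj l) ≫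
          (EtCoh.pushCongr (tr_comp Xs (hk y) hyl)).hom.app (A.obj l)).hom.app (op W)
          ((A.τ hyl).hom.app (op Q) ((A.τ (hk y)).hom.app (op W) s)) := by
      rw [A.τ_trans (hk y) hyl]
      rfl
    have hback : (A.obj l).obj.map a.op ((A.τ hjl).hom.app (op W) s) =
        (A.τ hyl).hom.app (op Q) ((A.τ (hk y)).hom.app (op W) s) := by
      rw [hs, ← tauPush_app]
      refine (ConcreteCategory.comp_apply _ _ _).symm.trans ?_
      have e1 : ((EtCoh.pushComp (tr Xs (hk y)) (tr Xs hyl)).hom.app (A.obj l) ≫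
          (EtCoh.pushCongr (tr_comp Xs (hk y) hyl)).hom.app (A.obj l)) ≫
            tauPush (tr Xs hyl) (tr Xs (hk y)) (tr Xs hjl) (tr_comp Xs (hk y) hyl) (A.obj l) = 𝟙 _ := by
        simp [tauPush]
      exact (ConcreteCategory.congr_hom (congrArg (fun k => k.hom.app (op W)) e1) _).trans rfl
    change (A.obj l).obj.map (((EtCoh.bc (tr Xs hyl)).map (m y)) ≫ a).op _ = 0
    rw [op_comp, Functor.map_comp]
    refine (ConcreteCategory.comp_apply _ _ _).trans ((congrArg _ hback).trans ?_)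
    refine (ConcreteCategory.congr_hom ((A.τ hyl).hom.naturality (m y).op) _).symm.trans ?_
    exact (ConcreteCategory.comp_apply _ _ _).trans ((congrArg _ (hm y)).trans (map_zero _))

end Groth.Agent.EtLimit
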