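import Groth.Agent.EtLimit.Make

/-! cohomology of a limit is the colimit of the cohomology of the direct images to the stages -/

set_option autoImplicit false
set_option linter.style.haveILetI false
universe u

open CategoryTheory CategoryTheory.Limits AlgebraicGeometry Opposite

namespace Groth.Agent.EtLimit

open Groth.Agent.EtFound

set_option backward.isDefEq.respectTransparency.types false

section h0

variable {X Y : Scheme.{u}}

theorem hThen_zero_bijective (u : X ⟶ Y) [PreservesFiniteLimits (EtCoh.pull u)] (M : EtCoh.Ab X) :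
    Function.Bijective (hThen u ((EtCoh.push u).obj M) ((EtCoh.pullPushAdj u).counit.app M) 0) := by
  let e₁ := Abelian.Ext.homEquiv₀.{u + 1} (X := EtCoh.const Y ℤ) (Y := (EtCoh.push u).obj M)
  let e₂ := Abelian.Ext.homEquiv₀.{u + 1} (X := EtCoh.const X ℤ) (Y := M)
  let t := (((EtCoh.pullPushAdj u).homEquiv (EtCoh.const Y ℤ) M).symm).trans
    ((EtCore.pullConst u ℤ).homFromEquiv (Z := M))
  refine (Function.Bijective.of_comp_iff' e₂.bijective _).1 ?_
  refine (Function.Bijective.of_comp_iff _ e₁.symm.bijective).1 ?_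
  refine cast (congrArg Function.Bijective (funext fun ψ => ?_)) t.bijective
  apply e₂.symm.injective
  show _ = e₂.symm (e₂ (EtLim.HpullThen u _ _ 0 (Abelian.Ext.mk₀ ψ)))
  rw [Equiv.symm_apply_apply, HpullThen_apply, EtMVLib.Hpull_apply, Abelian.Ext.mapExactFunctor_mk₀,
    Abelian.Ext.mk₀_comp_mk₀, Abelian.Ext.mk₀_comp_mk₀, Category.assoc]
  show Abelian.Ext.mk₀ _ = _
  simp only [t, Equiv.trans_apply, Adjunction.homEquiv_counit, Iso.homFromEquiv_apply]

theorem injective_push (u : X ⟶ Y) [PreservesFiniteLimits (EtCoh.pull u)] (I : EtCoh.Ab X) [Injective I] :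
    Injective ((EtCoh.push u).obj I) :=
  Injective.injective_of_adjoint (EtCoh.pullPushAdj u) I

theorem hmap_eq_zero_of_injective {F I : EtCoh.Ab X} [Injective I] (a : F ⟶ I) (n : ℕ) (ξ : EtCoh.H X F (n + 1)) :
    hmap a (n + 1) ξ = 0 :=
  Abelian.Ext.eq_zero_of_injective _

end h0

variable {ι : Type u} [Preorder ι] {Xs : ιᵒᵖ ⥤ Scheme.{u}}

theorem Sys.Hom.τ_natural {A B : Sys Xs} (f : Sys.Hom A B) {i j : ι} (h : i ≤ j) :
    f.app i ≫ B.τ h = A.τ h ≫ (EtCoh.push (tr Xs h)).map (f.app j) := by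
  rw [Sys.τ, Sys.τ, ← Adjunction.homEquiv_naturality_left, f.natural h, Adjunction.homEquiv_naturality_right]

variable (c : Cone Xs) [∀ a, PreservesFiniteLimits (EtCoh.pull (c.π.app a))]

/-- the comparison map from a stage -/
noncomputable def hOf (M : EtCoh.Ab c.pt) (i : ι) (n : ℕ) :
    EtCoh.H (Xs.obj (op i)) ((pushSys c M).obj i) n →+ EtCoh.H c.pt M n :=
  hThen (c.π.app (op i)) ((pushSys c M).obj i) ((EtCoh.pullPushAdj (c.π.app (op i))).counit.app M) n

theorem hOf_hmap {M N : EtCoh.Ab c.pt} (a : M ⟶ N) (i : ι) (n : ℕ)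
    (ξ : EtCoh.H (Xs.obj (op i)) ((pushSys c M).obj i) n) :
    hOf c N i n (hmap ((pushHom c a).app i) n ξ) = hmap a n (hOf c M i n ξ) :=
  HpullThen_hmap _ _ _ _ _ ((EtCoh.pullPushAdj (c.π.app (op i))).counit.naturality a) n ξ

variable [∀ ⦃a b : ιᵒᵖ⦄ (h : a ⟶ b), PreservesFiniteLimits (EtCoh.pull (Xs.map h))]

theorem hOf_Tr (M : EtCoh.Ab c.pt) {i j : ι} (h : i ≤ j) (n : ℕ)
    (ξ : EtCoh.H (Xs.obj (op i)) ((pushSys c M).obj i) n) :
    hOf c M j n ((pushSys c M).Tr h n ξ) = hOf c M i n ξ :=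
  hThen_comp (c.π.app (op j)) (tr Xs h) (c.π.app (op i)) (cone_w c h) _ _ _
    (phiPush_counit (c.π.app (op j)) (tr Xs h) (c.π.app (op i)) (cone_w c h) M) n ξ

section induction

variable {S : ShortComplex (EtCoh.Ab c.pt)}

theorem pushApp_zero (i : ι) : pushApp c S.f i ≫ pushApp c S.g i = 0 := by
  exact ((EtCoh.push (c.π.app (op i))).map_comp S.f S.g).symm.trans
    ((congrArg (EtCoh.push (c.π.app (op i))).map S.zero).trans (Functor.map_zero _ _ _))

variable (S)

/-- images of the direct images -/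
noncomputable abbrev Dsys : Sys Xs := Sys.coker (pushHom c S.f)

/-- the map of the images to the direct images -/
noncomputable def dApp (i : ι) : Sys.cokObj (pushHom c S.f) i ⟶ pushObj c S.X₃ i :=
  cokernel.desc (pushApp c S.f i) (pushApp c S.g i) (pushApp_zero c i)

theorem cokProj_dApp (i : ι) : Sys.cokProj (pushHom c S.f) i ≫ dApp c S i = pushApp c S.g i :=
  cokernel.π_desc _ _ _

theorem dApp_natural {i j : ι} (h : i ≤ j) :
    (EtCoh.pull (tr Xs h)).map (dApp c S i) ≫ pushφ c S.X₃ h = Sys.cokerφ (pushHom c S.f) h ≫ dApp c S j := by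
  haveI : Epi ((EtCoh.pull (tr Xs h)).map (Sys.cokProj (pushHom c S.f) i)) := inferInstance
  rw [← cancel_epi ((EtCoh.pull (tr Xs h)).map (Sys.cokProj (pushHom c S.f) i))]
  refine (Category.assoc _ _ _).symm.trans ?_
  refine (congrArg (· ≫ _) (((EtCoh.pull (tr Xs h)).map_comp _ _).symm.trans
    (congrArg (EtCoh.pull (tr Xs h)).map (cokProj_dApp c S i)))).trans ?_
  refine (pushApp_natural c S.g h).trans ?_
  refine Eq.trans ?_ (Category.assoc _ _ _)
  refine Eq.trans ?_ (congrArg (· ≫ dApp c S j) (Sys.π_cokerφ (pushHom c S.f) h)).symm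
  exact ((Category.assoc _ _ _).trans (congrArg (pushφ c S.X₂ h ≫ ·) (cokProj_dApp c S j))).symm

/-- the comparison -/
noncomputable def dHom : Sys.Hom (Dsys c S) (pushSys c S.X₃) := ⟨dApp c S, @dApp_natural _ _ _ c _ _ S⟩

variable {S}

theorem mono_pushApp [Mono S.f] (i : ι) : Mono (pushApp c S.f i) := by
  haveI : (EtCoh.push (c.π.app (op i))).PreservesMonomorphisms :=
    Functor.preservesMonomorphisms_of_adjunction (EtCoh.pullPushAdj _)
  exact inferInstanceAs (Mono ((EtCoh.push (c.π.app (op i))).map S.f))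

theorem ses₁_exact (hS : S.ShortExact) (i : ι) :
    (ShortComplex.mk ((pushHom c S.f).app i) ((Sys.cokerπ (pushHom c S.f)).app i)
      (cokernel.condition (pushApp c S.f i))).ShortExact where
  exact := ShortComplex.exact_of_g_is_cokernel _ (cokernelIsCokernel (pushApp c S.f i))
  mono_f := by
    haveI := hS.mono_f
    exact mono_pushApp c i
  epi_g := inferInstanceAs (Epi (cokernel.π (pushApp c S.f i)))

/-- first sequence -/
noncomputable def ses₁ (hS : S.ShortExact) :
    Sys.SES (pushSys c S.X₁) (pushSys c S.X₂) (Dsys c S) :=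
  ⟨pushHom c S.f, Sys.cokerπ (pushHom c S.f), fun i => cokernel.condition (pushApp c S.f i), ses₁_exact c hS⟩

theorem mono_dApp (hS : S.ShortExact) (i : ι) : Mono (dApp c S i) := by
  haveI : PreservesLimitsOfSize.{0, 0} (EtCoh.push (c.π.app (op i))) :=
    (EtCoh.pullPushAdj (c.π.app (op i))).rightAdjoint_preservesLimits
  haveI := hS.mono_f
  have h := hS.exact.map_of_mono_of_preservesKernel (EtCoh.push (c.π.app (op i))) inferInstance inferInstance
  exact h.mono_cokernelDesc

theorem ses₂_exact (hS : S.ShortExact) (i : ι) :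
    (ShortComplex.mk ((dHom c S).app i) ((Sys.cokerπ (dHom c S)).app i)
      (cokernel.condition (dApp c S i))).ShortExact where
  exact := ShortComplex.exact_of_g_is_cokernel _ (cokernelIsCokernel (dApp c S i))
  mono_f := mono_dApp c hS i
  epi_g := inferInstanceAs (Epi (cokernel.π (dApp c S i)))

/-- second sequence -/
noncomputable def ses₂ (hS : S.ShortExact) :
    Sys.SES (Dsys c S) (pushSys c S.X₃) (Sys.coker (dHom c S)) :=
  ⟨dHom c S, Sys.cokerπ (dHom c S), fun i => cokernel.condition (dApp c S i), ses₂_exact c hS⟩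

variable [IsDirected ι (· ≤ ·)] (haff : ∀ ⦃a b : ιᵒᵖ⦄ (h : a ⟶ b), IsAffineHom (Xs.map h)) (hc : IsLimit c)
include haff hc

theorem dead_coker_dHom (hS : S.ShortExact) : (Sys.coker (dHom c S)).Dead := by
  haveI := hS.epi_g
  refine Sys.dead_of_near haff c hc _ fun j W _ s y => ?_
  let d := dHom c S
  let πj := c.π.app (op j)
  haveI : Epi ((Sys.cokerπ d).app j) := Sys.epi_cokProj d j
  obtain ⟨W₁, m₁, w₁, q, hw₁, hq⟩ := exists_lift_of_epi ((Sys.cokerπ d).app j) s ((pullback.fst W.hom πj).base y)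
  obtain ⟨y₁, hy₁, -⟩ := Scheme.exists_preimage_of_isPullback (EtCoh.isPullback_bc_map πj m₁) y w₁ hw₁.symm
  obtain ⟨V, m₀, v, p, hv, hp⟩ := exists_lift_of_epi S.g (U := (EtCoh.bc πj).obj W₁) q y₁
  obtain ⟨k, h, W', m, w, H, -, hw, hH⟩ := exists_stage_refine haff c hc W₁ m₀ v
  let n₁ := (EtCoh.bc (tr Xs h)).map m₁
  let πk := c.π.app (op k)
  let a₁ := tauMap πk (tr Xs h) πj (cone_w c h) W₁
  refine ⟨k, h, W', m ≫ n₁, w, ?_, ?_⟩
  · refine (Scheme.Hom.comp_apply _ _ w).trans ((congrArg n₁.left.base hw).trans ?_)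
    rw [hv]
    have e : prTo c h W₁ ≫ n₁.left = ((EtCoh.bc πj).map m₁).left ≫ prTo c h W := by
      refine pullback.hom_ext ?_ ?_
      · refine (Category.assoc _ _ _).trans ((congrArg (prTo c h W₁ ≫ ·) (EtCoh.isPullback_bc_map _ m₁).w).trans ?_)
        refine (Category.assoc _ _ _).symm.trans ((congrArg (· ≫ m₁.left) (pullback.lift_fst _ _ _)).trans ?_)
        refine (EtCoh.isPullback_bc_map πj m₁).w.symm.trans ?_
        exact ((Category.assoc _ _ _).trans (congrArg (((EtCoh.bc πj).map m₁).left ≫ ·) (pullback.lift_fst _ _ _))).symm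
      · refine (Category.assoc _ _ _).trans ((congrArg (prTo c h W₁ ≫ ·) (MorphismProperty.Over.w n₁)).trans ?_)
        refine (pullback.lift_snd _ _ _).trans ?_
        refine Eq.trans ?_ ((Category.assoc _ _ _).trans
          (congrArg (((EtCoh.bc πj).map m₁).left ≫ ·) (pullback.lift_snd _ _ _))).symm
        refine Eq.trans ?_ (Category.assoc _ _ _)
        exact congrArg (· ≫ c.π.app (op k)) (MorphismProperty.Over.w ((EtCoh.bc πj).map m₁)).symm
    refine (Scheme.Hom.comp_apply _ _ y₁).symm.trans ((congrArg (fun k => k.base y₁) e).trans ?_)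
    exact (Scheme.Hom.comp_apply _ _ y₁).trans (congrArg (prTo c h W).base hy₁)
  · let E := Sys.coker d
    let Q := pushSys c S.X₃
    let i' : S.X₂.obj.obj (op ((EtCoh.bc πk).obj W')) := S.X₂.obj.map H.op p
    have h1 : (E.obj k).obj.map n₁.op ((E.τ h).hom.app (op W) s) =
        (Sys.cokProj d k).hom.app (op ((EtCoh.bc (tr Xs h)).obj W₁)) ((Q.τ h).hom.app (op W₁) q) := by
      refine (ConcreteCategory.congr_hom ((E.τ h).hom.naturality m₁.op) s).symm.trans ?_
      refine (ConcreteCategory.comp_apply _ _ _).trans ((congrArg _ hq.symm).trans ?_)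
      exact ConcreteCategory.congr_hom (congrArg (fun t => t.hom.app (op W₁)) ((Sys.cokerπ d).τ_natural h)) q
    have h2 : (Q.obj k).obj.map m.op ((Q.τ h).hom.app (op W₁) q) =
        (pushApp c S.g k).hom.app (op W') i' := by
      have e1 : (Q.τ h).hom.app (op W₁) q = S.X₃.obj.map a₁.op q := by
        rw [τ_pushSys, tauPush_app]
        rfl
      rw [e1]
      refine Eq.trans ?_ (ConcreteCategory.congr_hom (S.g.hom.naturality H.op) p).symm
      refine Eq.trans ?_ ((ConcreteCategory.comp_apply _ _ p).trans (congrArg _ hp)).symm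
      change S.X₃.obj.map ((EtCoh.bc πk).map m).op (S.X₃.obj.map a₁.op q) = S.X₃.obj.map H.op (S.X₃.obj.map m₀.op q)
      rw [← ConcreteCategory.comp_apply, ← ConcreteCategory.comp_apply, ← Functor.map_comp, ← Functor.map_comp,
        ← op_comp, ← op_comp, hH]
    rw [op_comp, Functor.map_comp]
    refine (ConcreteCategory.comp_apply _ _ _).trans ((congrArg _ h1).trans ?_)
    refine (ConcreteCategory.congr_hom ((Sys.cokProj d k).hom.naturality m.op) _).symm.trans ?_
    refine (ConcreteCategory.comp_apply _ _ _).trans ((congrArg _ h2).trans ?_)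
    have h3 : pushApp c S.g k ≫ Sys.cokProj d k = 0 := by
      exact (congrArg (· ≫ Sys.cokProj d k) (cokProj_dApp c S k)).symm.trans ((Category.assoc _ _ _).trans
        ((congrArg (_ ≫ ·) (cokernel.condition (dApp c S k))).trans comp_zero))
    exact (ConcreteCategory.comp_apply _ _ i').symm.trans
      (ConcreteCategory.congr_hom (congrArg (fun t => t.hom.app (op W')) h3) i')

end induction

variable [IsDirected ι (· ≤ ·)] [Nonempty ι] (haff : ∀ ⦃a b : ιᵒᵖ⦄ (h : a ⟶ b), IsAffineHom (Xs.map h))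
  (hc : IsLimit c) (hqc : ∀ a, CompactSpace ↥(Xs.obj a)) (hqs : ∀ a, QuasiSeparatedSpace ↥(Xs.obj a))

theorem hOf_δ {S : ShortComplex (EtCoh.Ab c.pt)} (hS : S.ShortExact) (k n : ℕ) (i : ι) (hk : n + 1 = k)
    (d : EtCoh.H (Xs.obj (op i)) ((Dsys c S).obj i) n) :
    hOf c S.X₁ i k ((ses₁ c hS).δ hk d) = hδ hS hk (hOf c S.X₃ i n (hmap ((dHom c S).app i) n d)) := by
  let P := c.π.app (op i)
  let a₃ : (EtCoh.pull P).obj (Sys.cokObj (pushHom c S.f) i) ⟶ S.X₃ :=
    (EtCoh.pull P).map (dApp c S i) ≫ (EtCoh.pullPushAdj P).counit.app S.X₃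
  have e : hThen P ((Dsys c S).obj i) a₃ n d = hOf c S.X₃ i n (hmap ((dHom c S).app i) n d) := by
    refine (DFunLike.congr_fun (?_ : hThen P ((Dsys c S).obj i) a₃ n =
      (hOf c S.X₃ i n).comp (hmap ((dHom c S).app i) n)) d)
    refine AddMonoidHom.ext fun x => ?_
    refine Eq.trans ?_ (HpullThen_hmap P a₃ ((EtCoh.pullPushAdj P).counit.app S.X₃) (dApp c S i) (𝟙 _)
      (Category.comp_id _).symm n x).symm
    exact (ConcreteCategory.congr_hom ((EtCoh.HF c.pt n).map_id S.X₃) _).symm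
  rw [← e]
  refine HpullThen_hδ P (ses₁_exact c hS i) hS _ ((EtCoh.pullPushAdj P).counit.app S.X₂) a₃
    ((EtCoh.pullPushAdj P).counit.naturality S.f).symm ?_ hk d
  refine Eq.trans ((EtCoh.pullPushAdj P).counit.naturality S.g).symm ?_
  refine Eq.trans ?_ (Category.assoc _ _ _)
  exact congrArg (· ≫ (EtCoh.pullPushAdj P).counit.app S.X₃)
    ((congrArg (EtCoh.pull P).map (cokProj_dApp c S i)).symm.trans ((EtCoh.pull P).map_comp _ _))

include haff hc hqc hqs

/-- cohomology of the limit is the colimit of the cohomology of the direct images -/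
theorem hOf_bij (n : ℕ) : ∀ M : EtCoh.Ab c.pt,
    (∀ ξ : EtCoh.H c.pt M n, ∃ (j : ι) (x : EtCoh.H (Xs.obj (op j)) ((pushSys c M).obj j) n),
      hOf c M j n x = ξ) ∧
    (∀ (j : ι) (x : EtCoh.H (Xs.obj (op j)) ((pushSys c M).obj j) n), hOf c M j n x = 0 →
      ∃ (k : ι) (h : j ≤ k), (pushSys c M).Tr h n x = 0) := by
  induction n with
  | zero =>
    intro M
    refine ⟨fun ξ => ⟨Classical.arbitrary ι, (hThen_zero_bijective _ M).2 ξ⟩, fun j x hx => ⟨j, le_rfl, ?_⟩⟩
    have : x = 0 := (hThen_zero_bijective _ M).1 (hx.trans (map_zero (hOf c M j 0)).symm)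
    rw [this, map_zero]
  | succ n ih =>
    intro M
    let S : ShortComplex (EtCoh.Ab c.pt) :=
      ShortComplex.mk (Injective.ι M) (cokernel.π (Injective.ι M)) (cokernel.condition _)
    have hS : S.ShortExact :=
      { exact := ShortComplex.exact_of_g_is_cokernel _ (cokernelIsCokernel _)
        mono_f := inferInstanceAs (Mono (Injective.ι M))
        epi_g := inferInstanceAs (Epi (cokernel.π (Injective.ι M))) }
    haveI hI : Injective S.X₂ := inferInstanceAs (Injective (Injective.under M))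
    let S₁ := ses₁ c hS
    have hd := (ses₂ c hS).colimBij_f hqc hqs (dead_coker_dHom c haff hc hS)
    refine ⟨fun ξ => ?_, fun j x hx => ?_⟩
    · obtain ⟨q, hq⟩ := exists_hδ_of_hmap_eq_zero hS (n := n) rfl ξ (hmap_eq_zero_of_injective S.f n ξ)
      obtain ⟨j, qj, hqj⟩ := (ih S.X₃).1 q
      obtain ⟨k, h, d, hdk⟩ := (hd n).1 j qj
      refine ⟨k, S₁.δ rfl d, (hOf_δ c hS _ n k rfl d).trans ?_⟩
      rw [show hmap ((dHom c S).app k) n d = (pushSys c S.X₃).Tr h n qj from hdk, hOf_Tr, hqj]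
      exact hq
    · haveI : Injective ((pushSys c S.X₂).obj j) := injective_push (c.π.app (op j)) S.X₂
      obtain ⟨d, hdx⟩ := exists_hδ_of_hmap_eq_zero (S₁.exact j) (n := n) rfl x
        (hmap_eq_zero_of_injective (S₁.f.app j) n x)
      have hx' : hδ hS rfl (hOf c S.X₃ j n (hmap ((dHom c S).app j) n d)) = 0 := by
        rw [← hOf_δ c hS _ n j rfl d]
        exact (congrArg (hOf c M j (n + 1)) hdx).trans hx
      obtain ⟨i, hi⟩ := exists_hmap_of_hδ_eq_zero hS rfl _ hx'
      obtain ⟨l, il, hil⟩ := (ih S.X₂).1 i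
      obtain ⟨m, hjm, hlm⟩ := directed_of (· ≤ ·) j l
      let dm := (Dsys c S).Tr hjm n d
      let em := S₁.g.onH ((pushSys c S.X₂).Tr hlm n il)
      have hge : hmap ((dHom c S).app m) n em = hmap ((pushHom c S.g).app m) n ((pushSys c S.X₂).Tr hlm n il) := by
        refine (hmap_comp _ _ n _).trans ?_
        exact congrArg (fun a => hmap a n ((pushSys c S.X₂).Tr hlm n il)) (cokProj_dApp c S m)
      have hz : hOf c S.X₃ m n (hmap ((dHom c S).app m) n (dm - em)) = 0 := by
        rw [map_sub, map_sub, hge, hOf_hmap, hOf_Tr, hil, hi, ← (dHom c S).Tr hjm n d, hOf_Tr, sub_self]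
      obtain ⟨k, hmk, hk⟩ := (ih S.X₃).2 m _ hz
      rw [(dHom c S).Tr hmk n (dm - em)] at hk
      obtain ⟨k', hkk', hk'⟩ := (hd n).2 k _ hk
      refine ⟨k', hjm.trans (hmk.trans hkk'), ?_⟩
      have e1 : (Dsys c S).Tr (hjm.trans (hmk.trans hkk')) n d =
          (Dsys c S).Tr (hmk.trans hkk') n (dm - em) + (Dsys c S).Tr (hmk.trans hkk') n em := by
        rw [← map_add, sub_add_cancel, Sys.Tr_trans]
      have e2 : (Dsys c S).Tr (hmk.trans hkk') n (dm - em) = 0 := by
        rw [← Sys.Tr_trans _ hmk hkk', hk']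
      have e3 : S₁.δ rfl ((Dsys c S).Tr (hmk.trans hkk') n em) = (0 : EtCoh.H (Xs.obj (op k')) ((pushSys c M).obj k') (n + 1)) := by
        rw [← S₁.δ_Tr (hmk.trans hkk') rfl em]
        have : S₁.δ (i := m) rfl em = 0 :=
          hδ_hmap_g (S₁.exact m) rfl _
        rw [this, map_zero]
      refine (congrArg ((pushSys c M).Tr _ (n + 1)) hdx.symm).trans ?_
      refine (S₁.δ_Tr _ rfl d).trans ?_
      rw [e1, e2, zero_add]
      exact e3

end Groth.Agent.EtLimit
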