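import Groth.Agent.EtLimit.Near

/-! étale refinements of objects over the limit come from stages -/

set_option autoImplicit false
set_option linter.style.haveILetI false
universe u

open CategoryTheory CategoryTheory.Limits AlgebraicGeometry Opposite

namespace Groth.Agent.EtLimit

open Groth.Agent.EtFound

set_option backward.isDefEq.respectTransparency.types false

variable {ι : Type u} [Preorder ι] [IsDirected ι (· ≤ ·)] {Xs : ιᵒᵖ ⥤ Scheme.{u}}
  (haff : ∀ ⦃a b : ιᵒᵖ⦄ (h : a ⟶ b), IsAffineHom (Xs.map h)) (c : Cone Xs) (hc : IsLimit c)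

include haff hc in
/-- refinements of `W ×_{X_j} X` are dominated by refinements coming from stages -/
theorem exists_stage_refine {j : ι} (W : (Xs.obj (op j)).Etale) {V : c.pt.Etale}
    (m₀ : V ⟶ (EtCoh.bc (c.π.app (op j))).obj W) (v : V.left) :
    ∃ (k : ι) (h : j ≤ k) (W' : (Xs.obj (op k)).Etale) (m : W' ⟶ (EtCoh.bc (tr Xs h)).obj W) (w : W'.left)
      (H : (EtCoh.bc (c.π.app (op k))).obj W' ⟶ V),
      IsAffine W'.left ∧ m.left.base w = (prTo c h W).base (m₀.left.base v) ∧
        H ≫ m₀ = (EtCoh.bc (c.π.app (op k))).map m ≫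
          tauMap (c.π.app (op k)) (tr Xs h) (c.π.app (op j)) (c.w (homOfLE h).op) W := by
  haveI : Nonempty ι := ⟨j⟩
  haveI : IsFiltered ι := isFiltered_of_directed_le_nonempty ι
  haveI : ∀ {a b : ιᵒᵖ} (f : a ⟶ b), IsAffineHom (Xs.map f) := fun f => haff f
  let f : W.left ⟶ Xs.obj (op j) := W.hom
  have hX : IsPullback (pullback.fst f (c.π.app (op j))) (pullback.snd f (c.π.app (op j))) f
      (c.π.app (op j)) := IsPullback.of_hasPullback _ _
  let E := MorLib.BC.diag Xs f
  let C := MorLib.BC.cone Xs f hX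
  have hC : IsLimit C := MorLib.BC.isLimitCone Xs f hX hc
  let g : V.left ⟶ C.pt := m₀.left
  haveI : AlgebraicGeometry.Etale g := etale_left m₀
  obtain ⟨x, T, w, hh, hT, hw, hhg, -, ⟨t, ht⟩⟩ := exists_stage_nhd E C hC g v
  let k : ι := x.left.unop
  have hjk : j ≤ k := leOfHom x.hom.unop
  let Q := (EtCoh.bc (tr Xs hjk)).obj W
  let q : T ⟶ Q.left := w
  haveI : AlgebraicGeometry.Etale q := hw
  haveI : AlgebraicGeometry.Etale Q.hom := Q.prop
  let W' : (Xs.obj (op k)).Etale := Scheme.Etale.mk (q ≫ Q.hom)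
  let m : W' ⟶ Q := MorphismProperty.Over.homMk q rfl trivial
  let πk := c.π.app (op k)
  let B := (EtCoh.bc πk).obj W'
  -- the point
  have hproj : C.π.app x = prTo c hjk W := rfl
  -- the comparison
  have hpr2 : prTo c hjk W ≫ pullback.snd W.hom (tr Xs hjk) = pullback.snd W.hom (c.π.app (op j)) ≫ πk :=
    pullback.lift_snd _ _ _
  have hpr1 : prTo c hjk W ≫ pullback.fst W.hom (tr Xs hjk) = pullback.fst W.hom (c.π.app (op j)) :=
    pullback.lift_fst _ _ _
  let a := tauMap πk (tr Xs hjk) (c.π.app (op j)) (c.w (homOfLE hjk).op) W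
  let n := (EtCoh.bc πk).map m
  have hna : (n ≫ a).left ≫ prTo c hjk W = pullback.fst W'.hom πk ≫ q := by
    refine pullback.hom_ext ?_ ?_
    · refine (Category.assoc _ _ _).trans ((congrArg ((n ≫ a).left ≫ ·) hpr1).trans ?_)
      refine (Category.assoc _ _ _).trans ((congrArg (n.left ≫ ·) (tauMap_fst _ _ _ _ W)).trans ?_)
      refine Eq.trans (Category.assoc _ _ _).symm ?_
      exact congrArg (· ≫ pullback.fst W.hom (tr Xs hjk)) (EtCoh.isPullback_bc_map πk m).w
    · refine (Category.assoc _ _ _).trans ((congrArg ((n ≫ a).left ≫ ·) hpr2).trans ?_)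
      refine (Category.assoc _ _ _).symm.trans ((congrArg (· ≫ πk) (MorphismProperty.Over.w (n ≫ a))).trans ?_)
      exact pullback.condition.symm.trans (Category.assoc _ _ _).symm
  let e : B.left ⟶ pullback w (C.π.app x) := pullback.lift (pullback.fst W'.hom πk) (n ≫ a).left hna.symm
  have hH : (e ≫ hh) ≫ m₀.left = (n ≫ a).left :=
    (Category.assoc _ _ _).trans ((congrArg (e ≫ ·) hhg).trans (pullback.lift_snd _ _ hna.symm))
  have hHX : (e ≫ hh) ≫ V.hom = B.hom := by
    rw [← MorphismProperty.Over.w m₀, ← Category.assoc, hH]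
    exact MorphismProperty.Over.w (n ≫ a)
  refine ⟨k, hjk, W', m, (pullback.fst w (C.π.app x)).base t,
    MorphismProperty.Over.homMk (e ≫ hh) hHX trivial, hT, ?_, MorphismProperty.Over.Hom.ext hH⟩
  have h1 : (prTo c hjk W).base (m₀.left.base v) =
      (C.π.app x).base ((pullback.snd w (C.π.app x)).base t) := by
    refine congrArg (C.π.app x).base ?_
    rw [← ht]
    exact (Scheme.Hom.comp_apply _ _ t).symm.trans
      (congrArg (fun (z : pullback w (C.π.app x) ⟶ C.pt) => z.base t) hhg)
  refine Eq.trans ?_ h1.symm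
  exact (Scheme.Hom.comp_apply _ _ t).symm.trans
    ((congrArg (fun (z : pullback w (C.π.app x) ⟶ E.obj x) => z.base t) pullback.condition).trans
      (Scheme.Hom.comp_apply _ _ t))

end Groth.Agent.EtLimit
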