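import Groth.Agent.EtLimit.ColimCase

/-! restriction to the stages above a given one; systems generated by one sheaf -/

set_option autoImplicit false
set_option linter.style.haveILetI false
universe u

open CategoryTheory CategoryTheory.Limits AlgebraicGeometry Opposite

namespace Groth.Agent.EtLimit

open Groth.Agent.EtFound

set_option backward.isDefEq.respectTransparency.types false

section assoc

variable {S X Y Z : Scheme.{u}}

/-- the unit through a composition -/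
theorem unit_θPull (v : X ⟶ Y) (u : Y ⟶ Z) (w : X ⟶ Z) (hw : v ≫ u = w) (F : EtCoh.Ab Z) :
    (EtCoh.pullPushAdj u).homEquiv _ _ ((EtCoh.pullPushAdj v).homEquiv _ _ ((θPull v u w hw).hom.app F)) =
      (EtCoh.pullPushAdj w).unit.app F ≫ tauPush v u w hw ((EtCoh.pull w).obj F) := by
  have h := homEquiv_of_cocycle v u w hw (𝟙 ((EtCoh.pull u).obj F)) ((θPull v u w hw).hom.app F)
    (𝟙 ((EtCoh.pull w).obj F)) (by simp)
  rw [Adjunction.homEquiv_id, Adjunction.homEquiv_id] at h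
  rw [h, Adjunction.homEquiv_unit]
  simp [tauPush]

theorem θPull_assoc (p : S ⟶ X) (v : X ⟶ Y) (u : Y ⟶ Z) (w : X ⟶ Z) (q : S ⟶ Y) (r : S ⟶ Z) (hw : v ≫ u = w)
    (hq : p ≫ v = q) (hr : q ≫ u = r) (hr' : p ≫ w = r) (F : EtCoh.Ab Z) :
    (θPull p v q hq).hom.app ((EtCoh.pull u).obj F) ≫ (θPull q u r hr).hom.app F =
      (EtCoh.pull p).map ((θPull v u w hw).hom.app F) ≫ (θPull p w r hr').hom.app F := by
  refine cocycle_of_homEquiv p v q hq _ _ _ ?_
  apply ((EtCoh.pullPushAdj u).homEquiv _ _).injective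
  let M := (EtCoh.pull r).obj F
  let b := (EtCoh.pullPushAdj p).homEquiv _ _ ((θPull p w r hr').hom.app F)
  have hb : (EtCoh.pullPushAdj w).unit.app F ≫ (EtCoh.push w).map b =
      (EtCoh.pullPushAdj r).unit.app F ≫ tauPush p w r hr' M := by
    rw [← unit_θPull p w r hr' F, Adjunction.homEquiv_unit]
  rw [unit_θPull q u r hr F, Adjunction.homEquiv_naturality_right, unit_θPull v u w hw F, Category.assoc]
  have n1 := (EtCoh.pushCongr hw).inv.naturality b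
  have n2 := (EtCoh.pushComp u v).inv.naturality b
  simp only [Functor.comp_map] at n2
  simp only [tauPush, Functor.map_comp, Category.assoc]
  erw [← reassoc_of% n2]
  erw [← reassoc_of% n1]
  erw [reassoc_of% hb]
  rw [tauPush_comp p v u w hw q r hq hr hr' M]
  simp [tauPush, M, ← Functor.map_comp]

end assoc

section wrapper

/-- components of an isomorphism out of a composite functor -/
def appOf {A B C : Type*} [Category* A] [Category* B] [Category* C] {P : A ⥤ B} {Q : B ⥤ C} {R : A ⥤ C}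
    (θ : P ⋙ Q ≅ R) (F : A) : Q.obj (P.obj F) ⟶ R.obj F :=
  θ.hom.app F

theorem appOf_assoc {A B C D : Type*} [Category* A] [Category* B] [Category* C] [Category* D] {U : A ⥤ B}
    {V : B ⥤ C} {P : C ⥤ D} {W : A ⥤ C} {Q : B ⥤ D} {R : A ⥤ D} (a : V ⋙ P ≅ Q) (b : U ⋙ Q ≅ R)
    (x : U ⋙ V ≅ W) (y : W ⋙ P ≅ R) (F : A)
    (h : a.hom.app (U.obj F) ≫ b.hom.app F = P.map (x.hom.app F) ≫ y.hom.app F) :
    a.hom.app (U.obj F) ≫ appOf b F = P.map (appOf x F) ≫ appOf y F :=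
  h

variable {S X Y Z : Scheme.{u}}

theorem θPull_assoc' (p : S ⟶ X) (v : X ⟶ Y) (u : Y ⟶ Z) (w : X ⟶ Z) (q : S ⟶ Y) (r : S ⟶ Z) (hw : v ≫ u = w)
    (hq : p ≫ v = q) (hr : q ≫ u = r) (hr' : p ≫ w = r) (F : EtCoh.Ab Z) :
    (θPull p v q hq).hom.app ((EtCoh.pull u).obj F) ≫ appOf (θPull q u r hr) F =
      (EtCoh.pull p).map (appOf (θPull v u w hw) F) ≫ appOf (θPull p w r hr') F :=
  appOf_assoc _ _ _ _ F (θPull_assoc p v u w q r hw hq hr hr' F)

end wrapper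

section generated

variable {ι : Type u} [Preorder ι] (Ys : ιᵒᵖ ⥤ Scheme.{u}) {Z : Scheme.{u}}
  (e : ∀ i : ι, Ys.obj (op i) ⟶ Z) (he : ∀ {i j : ι} (h : i ≤ j), tr Ys h ≫ e i = e j) (F₀ : EtCoh.Ab Z)

/-- their transitions -/
noncomputable def genφ {i j : ι} (h : i ≤ j) : (EtCoh.pull (tr Ys h)).obj (((EtCoh.pull (e i)).obj F₀)) ⟶ (EtCoh.pull (e j)).obj F₀ :=
  appOf (θPull (tr Ys h) (e i) (e j) (he h)) F₀

theorem genφ_cocycle {i j k : ι} (hij : i ≤ j) (hjk : j ≤ k) :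
    (θPull (tr Ys hjk) (tr Ys hij) (tr Ys (hij.trans hjk)) (tr_comp Ys hij hjk)).hom.app (((EtCoh.pull (e i)).obj F₀)) ≫
        genφ Ys e he F₀ (hij.trans hjk) =
      (EtCoh.pull (tr Ys hjk)).map (genφ Ys e he F₀ hij) ≫ genφ Ys e he F₀ hjk :=
  θPull_assoc' (tr Ys hjk) (tr Ys hij) (e i) (e j) (tr Ys (hij.trans hjk)) (e k) (he hij) (tr_comp Ys hij hjk)
    (he (hij.trans hjk)) (he hjk) F₀

/-- the system generated by a sheaf on a common base -/
noncomputable def genSys : Sys Ys := ⟨fun i => (EtCoh.pull (e i)).obj F₀, @genφ _ _ Ys Z e @he F₀, @genφ_cocycle _ _ Ys Z e @he F₀⟩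

variable (c : Cone Ys) (e₀ : c.pt ⟶ Z) (he₀ : ∀ i : ι, c.π.app (op i) ≫ e i = e₀)

/-- the inverse images of the stages are constant -/
noncomputable def genψ (i : ι) :
    (EtCoh.pull (c.π.app (op i))).obj (((EtCoh.pull (e i)).obj F₀)) ≅
      ((Functor.const ι).obj ((EtCoh.pull e₀).obj F₀)).obj i :=
  (θPull (c.π.app (op i)) (e i) e₀ (he₀ i)).app F₀

theorem genψ_hom (i : ι) :
    (genψ Ys e F₀ c e₀ he₀ i).hom = appOf (θPull (c.π.app (op i)) (e i) e₀ (he₀ i)) F₀ := rfl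

theorem sysColim_const {A : Sys Ys} {M : EtCoh.Ab c.pt}
    {ψ : ∀ i : ι, (EtCoh.pull (c.π.app (op i))).obj (A.obj i) ≅ ((Functor.const ι).obj M).obj i}
    (h : ∀ {i j : ι} (h : i ≤ j),
      (θPull (c.π.app (op j)) (tr Ys h) (c.π.app (op i)) (cone_w c h)).hom.app (A.obj i) ≫ (ψ i).hom =
        (EtCoh.pull (c.π.app (op j))).map (A.φ h) ≫ (ψ j).hom) :
    SysColim A ((Functor.const ι).obj M) ψ :=
  fun {_ _} hij => (congrArg (_ ≫ ·) (Category.comp_id _)).trans (h hij)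

theorem genψ_compat {i j : ι} (h : i ≤ j) :
    (θPull (c.π.app (op j)) (tr Ys h) (c.π.app (op i)) (cone_w c h)).hom.app (((EtCoh.pull (e i)).obj F₀)) ≫
        (genψ Ys e F₀ c e₀ he₀ i).hom =
      (EtCoh.pull (c.π.app (op j))).map (genφ Ys e he F₀ h) ≫ (genψ Ys e F₀ c e₀ he₀ j).hom := by
  rw [genψ_hom, genψ_hom]
  exact θPull_assoc' (c.π.app (op j)) (tr Ys h) (e i) (e j) (c.π.app (op i)) e₀ (he h) (cone_w c h) (he₀ i) (he₀ j) F₀

theorem genSys_compat {i j : ι} (h : i ≤ j) :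
    (θPull (c.π.app (op j)) (tr Ys h) (c.π.app (op i)) (cone_w c h)).hom.app ((genSys Ys e @he F₀).obj i) ≫
        (genψ Ys e F₀ c e₀ he₀ i).hom =
      (EtCoh.pull (c.π.app (op j))).map ((genSys Ys e @he F₀).φ h) ≫ (genψ Ys e F₀ c e₀ he₀ j).hom := by
  dsimp only [genSys]
  exact genψ_compat Ys e @he F₀ c e₀ he₀ h

theorem genSys_sysColim :
    SysColim (genSys Ys e @he F₀) ((Functor.const ι).obj ((EtCoh.pull e₀).obj F₀)) (genψ Ys e F₀ c e₀ he₀) :=
  sysColim_const Ys c fun {_ _} h => genSys_compat Ys e @he F₀ c e₀ he₀ h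

end generated

variable {ι : Type u} [Preorder ι]

/-- the stages above `i₀` -/
abbrev Up (i₀ : ι) : Type u := {i : ι // i₀ ≤ i}

/-- the inclusion of the stages above `i₀` -/
def upIncl (i₀ : ι) : Up i₀ ⥤ ι where
  obj i := i.1
  map g := homOfLE (leOfHom g)

instance up_nonempty (i₀ : ι) : Nonempty (Up i₀) := ⟨⟨i₀, le_rfl⟩⟩

variable [IsDirected ι (· ≤ ·)]

instance up_directed (i₀ : ι) : IsDirected (Up i₀) (· ≤ ·) := ⟨fun a b => by
  obtain ⟨c, hac, hbc⟩ := directed_of (· ≤ ·) a.1 b.1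
  exact ⟨⟨c, a.2.trans hac⟩, hac, hbc⟩⟩

instance up_final (i₀ : ι) : (upIncl i₀).Final := by
  haveI : IsFiltered (Up i₀) := isFiltered_of_directed_le_nonempty _
  refine Functor.final_of_exists_of_isFiltered _ (fun d => ?_) fun {_ c} s s' => ⟨c, 𝟙 c, Subsingleton.elim _ _⟩
  obtain ⟨c, hdc, h0c⟩ := directed_of (· ≤ ·) d i₀
  exact ⟨⟨c, h0c⟩, ⟨homOfLE hdc⟩⟩

variable (Xs : ιᵒᵖ ⥤ Scheme.{u}) (i₀ : ι)

/-- the restricted diagram -/
abbrev upDiag : (Up i₀)ᵒᵖ ⥤ Scheme.{u} := (upIncl i₀).op ⋙ Xs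

/-- the restricted limit -/
noncomputable def upIsLimit (c : Cone Xs) (hc : IsLimit c) : IsLimit (c.whisker (upIncl i₀).op) :=
  (Functor.Initial.isLimitWhiskerEquiv (upIncl i₀).op c).symm hc

end Groth.Agent.EtLimit
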