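import Groth.Agent.EtLimit.SectFormula
import Groth.Agent.EtLimit.FibreSys
import Groth.Agent.EtFound.PullStalk

/-! stalks of direct images and sections over the fibre product with a strict localization -/

set_option autoImplicit false
set_option linter.style.haveILetI false
universe u

open CategoryTheory CategoryTheory.Limits AlgebraicGeometry Opposite

namespace Groth.Agent.EtLimit

open Groth.Agent.EtFound

set_option backward.isDefEq.respectTransparency.types false

variable {X S T : Scheme.{u}} (f : X ⟶ S) (π : T ⟶ S) {Ω : Type u} [Field Ω] [IsSepClosed Ω]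
  (z : Spec (CommRingCat.of Ω) ⟶ T)

/-- every étale neighbourhood of the geometric point receives `T` uniquely -/
def LiftsUniquely : Prop :=
  ∀ (V : S.Etale) (v : Spec (CommRingCat.of Ω) ⟶ V.left), v ≫ V.hom = z ≫ π →
    ∃! ρ : T ⟶ V.left, ρ ≫ V.hom = π ∧ z ≫ ρ = v

variable {π z} (hz : LiftsUniquely π z)

/-- the map of a neighbourhood -/
noncomputable def nbMap (V : S.Etale) (v : (Scheme.pointSmallEtale (z ≫ π)).fiber.obj V) : T ⟶ V.left :=
  (hz V v.left (CategoryTheory.Over.w v)).choose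

theorem nbMap_hom (V : S.Etale) (v : (Scheme.pointSmallEtale (z ≫ π)).fiber.obj V) :
    nbMap hz V v ≫ V.hom = π :=
  (hz V v.left (CategoryTheory.Over.w v)).choose_spec.1.1

theorem nbMap_point (V : S.Etale) (v : (Scheme.pointSmallEtale (z ≫ π)).fiber.obj V) :
    z ≫ nbMap hz V v = v.left :=
  (hz V v.left (CategoryTheory.Over.w v)).choose_spec.1.2

theorem nbMap_unique (V : S.Etale) (v : (Scheme.pointSmallEtale (z ≫ π)).fiber.obj V) (ρ : T ⟶ V.left)
    (h1 : ρ ≫ V.hom = π) (h2 : z ≫ ρ = v.left) : ρ = nbMap hz V v :=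
  (hz V v.left (CategoryTheory.Over.w v)).choose_spec.2 ρ ⟨h1, h2⟩

theorem nbLift_aux (V : S.Etale) (ρ : T ⟶ V.left) (hρ : ρ ≫ V.hom = π) :
    (pullback.snd f π ≫ ρ) ≫ V.hom = pullback.fst f π ≫ f := by
  rw [Category.assoc, hρ]
  exact pullback.condition.symm

/-- the induced point of `V ×_S X` -/
noncomputable def nbLift (V : S.Etale) (ρ : T ⟶ V.left) (hρ : ρ ≫ V.hom = π) :
    pullback f π ⟶ ((EtCoh.bc f).obj V).left :=
  pullback.lift (pullback.snd f π ≫ ρ) (pullback.fst f π) (nbLift_aux f V ρ hρ)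

theorem nbLift_hom (V : S.Etale) (ρ : T ⟶ V.left) (hρ : ρ ≫ V.hom = π) :
    nbLift f V ρ hρ ≫ ((EtCoh.bc f).obj V).hom = pullback.fst f π :=
  pullback.lift_snd _ _ _

theorem nbLift_map {V V' : S.Etale} (g : V' ⟶ V) (ρ : T ⟶ V'.left) (hρ : ρ ≫ V'.hom = π)
    (ρ' : T ⟶ V.left) (hρ' : ρ' ≫ V.hom = π) (h : ρ' = ρ ≫ g.left) :
    nbLift f V ρ' hρ' = nbLift f V' ρ hρ ≫ ((EtCoh.bc f).map g).left := by
  apply pullback.hom_ext
  · refine (pullback.lift_fst _ _ _).trans ?_
    refine Eq.trans ?_ (Category.assoc _ _ _).symm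
    refine Eq.trans ?_ (congrArg _ (EtCoh.isPullback_bc_map f g).w).symm
    refine Eq.trans ?_ (Category.assoc _ _ _)
    refine (congrArg (pullback.snd f π ≫ ·) h).trans ((Category.assoc _ _ _).symm.trans ?_)
    exact (congrArg (· ≫ g.left) (pullback.lift_fst _ _ _)).symm
  · refine (pullback.lift_snd _ _ _).trans ?_
    refine Eq.trans ?_ (Category.assoc _ _ _).symm
    refine Eq.trans ?_ (congrArg _ (MorphismProperty.Over.w ((EtCoh.bc f).map g))).symm
    exact (pullback.lift_snd _ _ _).symm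

theorem nbMap_map {V V' : S.Etale} (g : V' ⟶ V) (v : (Scheme.pointSmallEtale (z ≫ π)).fiber.obj V') :
    nbMap hz V ((Scheme.pointSmallEtale (z ≫ π)).fiber.map g v) = nbMap hz V' v ≫ g.left := by
  refine (nbMap_unique hz V _ _ ?_ ?_).symm
  · exact (Category.assoc _ _ _).trans ((congrArg _ (MorphismProperty.Over.w g)).trans (nbMap_hom hz V' v))
  · exact (Category.assoc _ _ _).symm.trans ((congrArg (· ≫ g.left) (nbMap_point hz V' v)).trans rfl)

/-- the component at a neighbourhood -/
noncomputable def nbSec (F : EtCoh.Ab X) (V : S.Etale) (v : (Scheme.pointSmallEtale (z ≫ π)).fiber.obj V) :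
    ((EtCoh.push f).obj F).obj.obj (op V) ⟶ (EtCore.gsec (pullback f π)).obj ((EtCoh.pull (pullback.fst f π)).obj F) :=
  atPt (pullback.fst f π) ((EtCoh.bc f).obj V) (nbLift f V (nbMap hz V v) (nbMap_hom hz V v)) (nbLift_hom f V _ _) F

theorem nbSec_w (F : EtCoh.Ab X) ⦃V' V : S.Etale⦄ (g : V' ⟶ V)
    (v : (Scheme.pointSmallEtale (z ≫ π)).fiber.obj V') :
    ((EtCoh.push f).obj F).obj.map g.op ≫ nbSec f hz F V' v =
      nbSec f hz F V ((Scheme.pointSmallEtale (z ≫ π)).fiber.map g v) :=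
  atPt_map (pullback.fst f π) ((EtCoh.bc f).map g) _ (nbLift_hom f V' _ _) _
    (nbLift_map f g _ (nbMap_hom hz V' v) _ (nbMap_hom hz V _) (nbMap_map hz g v)) (nbLift_hom f V _ _) F

/-- the stalk of the direct image maps to sections over the fibre product -/
noncomputable def stalkPushApp (F : EtCoh.Ab X) :
    (EtCoh.stalk (z ≫ π)).obj ((EtCoh.push f).obj F) ⟶
      (EtCore.gsec (pullback f π)).obj ((EtCoh.pull (pullback.fst f π)).obj F) :=
  (Scheme.pointSmallEtale (z ≫ π)).presheafFiberDesc (P := ((EtCoh.push f).obj F).obj) (nbSec f hz F) (nbSec_w f hz F)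

theorem stalkPushApp_germ (F : EtCoh.Ab X) (V : S.Etale) (v : (Scheme.pointSmallEtale (z ≫ π)).fiber.obj V)
    (s : F.obj.obj (op ((EtCoh.bc f).obj V))) :
    stalkPushApp f hz F ((Scheme.pointSmallEtale (z ≫ π)).toPresheafFiber V v ((EtCoh.push f).obj F).obj s) =
      secAt (pullback.fst f π) ((EtCoh.bc f).obj V) (nbLift f V (nbMap hz V v) (nbMap_hom hz V v))
        (nbLift_hom f V _ _) F s :=
  ConcreteCategory.congr_hom ((Scheme.pointSmallEtale (z ≫ π)).toPresheafFiber_presheafFiberDesc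
    (P := ((EtCoh.push f).obj F).obj) (nbSec f hz F) (nbSec_w f hz F) V v) s

/-- the natural transformation -/
noncomputable def stalkPushNat :
    EtCoh.push f ⋙ EtCoh.stalk (z ≫ π) ⟶ EtCoh.pull (pullback.fst f π) ⋙ EtCore.gsec (pullback f π) where
  app := stalkPushApp f hz
  naturality F G a := by
    refine (Scheme.pointSmallEtale (z ≫ π)).presheafFiber_hom_ext fun V v => ?_
    refine (Category.assoc _ _ _).symm.trans ?_
    refine (congrArg (· ≫ stalkPushApp f hz G)
      ((Scheme.pointSmallEtale (z ≫ π)).toPresheafFiber_naturality ((EtCoh.push f).map a).hom V v)).trans ?_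
    refine (Category.assoc _ _ _).trans ?_
    refine (congrArg (_ ≫ ·) ((Scheme.pointSmallEtale (z ≫ π)).toPresheafFiber_presheafFiberDesc
      (P := ((EtCoh.push f).obj G).obj) (nbSec f hz G) (nbSec_w f hz G) V v)).trans ?_
    refine Eq.trans ?_ (Category.assoc _ _ _)
    refine Eq.trans ?_ (congrArg (· ≫ _) ((Scheme.pointSmallEtale (z ≫ π)).toPresheafFiber_presheafFiberDesc
      (P := ((EtCoh.push f).obj F).obj) (nbSec f hz F) (nbSec_w f hz F) V v)).symm
    exact atPt_naturality (pullback.fst f π) ((EtCoh.bc f).obj V) _ _ a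

section bijective

variable (P : EtPres π)

theorem isIso_stId (a : P.ιᵒᵖ) : IsIso (𝟙 (stObj f P a)) := inferInstance

theorem etale_stHom (a : P.ιᵒᵖ) : AlgebraicGeometry.Etale (stHom f P a) := ((EtCoh.bc f).obj (P.V.obj a)).prop

/-- the point of a stage -/
noncomputable def stPoint (a : P.ιᵒᵖ) : (Scheme.pointSmallEtale (z ≫ π)).fiber.obj (P.V.obj a) :=
  CategoryTheory.Over.homMk (z ≫ P.leg a) ((Category.assoc _ _ _).trans (congrArg (z ≫ ·) (P.leg_hom a)))

theorem nbMap_stPoint (a : P.ιᵒᵖ) : nbMap hz (P.V.obj a) (stPoint P a) = P.leg a :=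
  (nbMap_unique hz _ _ _ (P.leg_hom a) rfl).symm

variable [QuasiCompact f] [QuasiSeparated f]

include P

theorem stalkPushApp_surjective (F : EtCoh.Ab X) : Function.Surjective (stalkPushApp f hz F) := fun σ => by
  haveI : ∀ a, PreservesFiniteLimits (EtCoh.pull ((stCone f P).π.app a)) := fun a => pull_preservesFiniteLimits _
  haveI : ∀ ⦃a b : P.ιᵒᵖ⦄ (h : a ⟶ b), PreservesFiniteLimits (EtCoh.pull ((stDiag f P).map h)) :=
    fun a b h => pull_preservesFiniteLimits _
  obtain ⟨hc⟩ := nonempty_isLimit_stCone f P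
  obtain ⟨ξ, hξ⟩ := (hSec_bijective (pullObj (pullback.fst f π) F)).2 σ
  obtain ⟨j, x, hx⟩ := (genSys_comparison' (stDiag f P) (stDiag_affine f P) (stCone f P) hc (stDiag_compact f P)
    (stDiag_quasiSeparated f P) (fun i => stHom f P (op i)) (fun {_ _} h => stMap_hom f P _) F (pullback.fst f π)
    (fun i => stLeg_hom f P (op i)) 0).1 ξ
  haveI := etale_stHom f P (op j)
  haveI : @IsIso Scheme _ (stObj f P (op j)) ((EtCoh.bc f).obj (P.V.obj (op j))).left (𝟙 (stObj f P (op j))) :=
    isIso_stId f P (op j)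
  obtain ⟨s, hs⟩ := (secAt_bijective (stHom f P (op j)) ((EtCoh.bc f).obj (P.V.obj (op j))) (𝟙 (stObj f P (op j)))
    (Category.id_comp _) F).2 (hSec _ x)
  refine ⟨(Scheme.pointSmallEtale (z ≫ π)).toPresheafFiber (P.V.obj (op j)) (stPoint P (op j))
    ((EtCoh.push f).obj F).obj s, ?_⟩
  refine (stalkPushApp_germ f hz F (P.V.obj (op j)) (stPoint P (op j)) s).trans ?_
  refine (hSec_hVia ((stCone f P).π.app (op j)) (stHom f P (op j)) (pullback.fst f π) (stLeg_hom f P (op j)) F
    ((EtCoh.bc f).obj (P.V.obj (op j))) (𝟙 (stObj f P (op j))) (Category.id_comp _) s x hs.symm _ ?_ _).symm.trans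
    ((congrArg (hSec _) hx).trans hξ)
  refine Eq.trans ?_ (Category.comp_id _).symm
  unfold nbLift
  simp only [nbMap_stPoint]
  rfl

theorem stalkPushApp_injective (F : EtCoh.Ab X) : Function.Injective (stalkPushApp f hz F) := by
  refine (injective_iff_map_eq_zero (stalkPushApp f hz F).hom).2 fun p hp => ?_
  haveI : ∀ a, PreservesFiniteLimits (EtCoh.pull ((stCone f P).π.app a)) := fun a => pull_preservesFiniteLimits _
  haveI : ∀ ⦃a b : P.ιᵒᵖ⦄ (h : a ⟶ b), PreservesFiniteLimits (EtCoh.pull ((stDiag f P).map h)) :=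
    fun a b h => pull_preservesFiniteLimits _
  haveI : IsFiltered P.ι := isFiltered_of_directed_le_nonempty _
  haveI : ∀ {i j : P.ιᵒᵖ} (m : i ⟶ j), IsAffineHom ((P.V ⋙ Scheme.Etale.forget S ⋙ Over.forget S).map m) :=
    fun {i j} m => by
      haveI := P.affine i
      haveI := P.affine j
      exact (inferInstance : IsAffineHom (P.V.map m).left)
  haveI : ∀ i, CompactSpace ↥((P.V ⋙ Scheme.Etale.forget S ⋙ Over.forget S).obj i) := fun i => by
    haveI := P.affine i
    exact (inferInstance : CompactSpace (P.V.obj i).left)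
  haveI : ∀ i, QuasiSeparatedSpace ↥((P.V ⋙ Scheme.Etale.forget S ⋙ Over.forget S).obj i) := fun i => by
    haveI := P.affine i
    exact (inferInstance : QuasiSeparatedSpace (P.V.obj i).left)
  obtain ⟨V, v, s, rfl⟩ := (Scheme.pointSmallEtale (z ≫ π)).toPresheafFiber_jointly_surjective p
  haveI : AlgebraicGeometry.Etale V.hom := V.prop
  obtain ⟨hP⟩ := P.isLimit
  let t : (P.V ⋙ Scheme.Etale.forget S ⋙ Over.forget S) ⟶ (Functor.const P.ιᵒᵖ).obj S :=
    { app := fun a => (P.V.obj a).hom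
      naturality := fun a b m => (MorphismProperty.Over.w (P.V.map m)).trans (Category.comp_id _).symm }
  obtain ⟨i, g, hg, hg'⟩ := Scheme.exists_π_app_comp_eq_of_locallyOfFinitePresentation
    (P.V ⋙ Scheme.Etale.forget S ⋙ Over.forget S) t V.hom (etLegs P.V P.leg P.leg_map) hP (nbMap hz V v)
    (NatTrans.ext (funext fun a => (P.leg_hom a).trans (nbMap_hom hz V v).symm))
  obtain ⟨i⟩ := i
  let g' : P.V.obj (op i) ⟶ V := MorphismProperty.Over.homMk g hg' trivial
  have hg1 : (nbMap hz V v : T ⟶ V.left) = P.leg (op i) ≫ g'.left := hg.symm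
  have hv : (Scheme.pointSmallEtale (z ≫ π)).fiber.map g' (stPoint P (op i)) = v := by
    apply CategoryTheory.Over.OverMorphism.ext
    refine Eq.trans ?_ (nbMap_point hz V v)
    exact (Category.assoc _ _ _).trans (congrArg (z ≫ ·) hg1.symm)
  let s' := F.obj.map ((EtCoh.bc f).map g').op s
  haveI := etale_stHom f P (op i)
  haveI : @IsIso Scheme _ (stObj f P (op i)) ((EtCoh.bc f).obj (P.V.obj (op i))).left (𝟙 (stObj f P (op i))) :=
    isIso_stId f P (op i)
  obtain ⟨x, hx⟩ := (hSec_bijective (pullObj (stHom f P (op i)) F)).2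
    (secAt (stHom f P (op i)) ((EtCoh.bc f).obj (P.V.obj (op i))) (𝟙 (stObj f P (op i))) (Category.id_comp _) F s')
  have h0 : hVia ((stCone f P).π.app (op i)) (stHom f P (op i)) (pullback.fst f π) (stLeg_hom f P (op i)) F 0 x = 0 := by
    refine (hSec_bijective _).1 ?_
    refine (hSec_hVia ((stCone f P).π.app (op i)) (stHom f P (op i)) (pullback.fst f π) (stLeg_hom f P (op i)) F
      ((EtCoh.bc f).obj (P.V.obj (op i))) (𝟙 (stObj f P (op i))) (Category.id_comp _) s' x hx
      (stLeg f P (op i)) (Category.comp_id _).symm (stLeg_hom f P (op i))).trans ?_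
    refine (secAt_map (pullback.fst f π) ((EtCoh.bc f).map g') (stLeg f P (op i)) (stLeg_hom f P (op i))
      (nbLift f V (nbMap hz V v) (nbMap_hom hz V v)) (nbLift_map f g' _ (P.leg_hom (op i)) _ _ hg1)
      (nbLift_hom f V _ _) F s).trans ?_
    exact ((stalkPushApp_germ f hz F V v s).symm.trans hp).trans (hSec_zero _).symm
  obtain ⟨hc⟩ := nonempty_isLimit_stCone f P
  obtain ⟨k, hk, hd⟩ := (genSys_comparison' (stDiag f P) (stDiag_affine f P) (stCone f P) hc (stDiag_compact f P)
    (stDiag_quasiSeparated f P) (fun i => stHom f P (op i)) (fun {_ _} h => stMap_hom f P _) F (pullback.fst f π)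
    (fun i => stLeg_hom f P (op i)) 0).2 i x h0
  have e1 : stMap f P (homOfLE hk).op ≫ ((EtCoh.bc f).obj (P.V.obj (op i))).hom = stHom f P (op k) :=
    stMap_hom f P _
  haveI : PreservesFiniteLimits (EtCoh.pull (stMap f P (homOfLE hk).op)) := pull_preservesFiniteLimits _
  have h1 : secAt (stHom f P (op k)) ((EtCoh.bc f).obj (P.V.obj (op i))) (stMap f P (homOfLE hk).op) e1 F s' = 0 :=
    secAt_eq_zero_of_diesAt (stMap f P (homOfLE hk).op) (stHom f P (op i)) (stHom f P (op k)) (stMap_hom f P _) F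
      ((EtCoh.bc f).obj (P.V.obj (op i))) (𝟙 (stObj f P (op i))) (Category.id_comp _) s' x hx hd
      (stMap f P (homOfLE hk).op) (Category.comp_id _).symm e1
  haveI := etale_stHom f P (op k)
  haveI : @IsIso Scheme _ (stObj f P (op k)) ((EtCoh.bc f).obj (P.V.obj (op k))).left (𝟙 (stObj f P (op k))) :=
    isIso_stId f P (op k)
  have h2 : F.obj.map ((EtCoh.bc f).map (P.V.map (homOfLE hk).op)).op s' = 0 := by
    refine (secAt_bijective (stHom f P (op k)) ((EtCoh.bc f).obj (P.V.obj (op k))) (𝟙 (stObj f P (op k)))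
      (Category.id_comp _) F).1 ?_
    refine Eq.trans ?_ (secAt_zero _ _ _ _ _).symm
    exact (secAt_map (stHom f P (op k)) ((EtCoh.bc f).map (P.V.map (homOfLE hk).op)) (𝟙 (stObj f P (op k)))
      (Category.id_comp _) (stMap f P (homOfLE hk).op) (Category.id_comp _).symm e1 F s').trans h1
  have hk' : (Scheme.pointSmallEtale (z ≫ π)).fiber.map (P.V.map (homOfLE hk).op) (stPoint P (op k)) = stPoint P (op i) := by
    apply CategoryTheory.Over.OverMorphism.ext
    exact (Category.assoc _ _ _).trans (congrArg (z ≫ ·) (P.leg_map _))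
  have w1 := (Scheme.pointSmallEtale (z ≫ π)).toPresheafFiber_w_apply g' (stPoint P (op i)) ((EtCoh.push f).obj F).obj s
  rw [hv] at w1
  have w2 := (Scheme.pointSmallEtale (z ≫ π)).toPresheafFiber_w_apply (P.V.map (homOfLE hk).op) (stPoint P (op k))
    ((EtCoh.push f).obj F).obj (((EtCoh.push f).obj F).obj.map g'.op s)
  rw [hk'] at w2
  refine w1.symm.trans (w2.symm.trans ?_)
  exact (congrArg ((Scheme.pointSmallEtale (z ≫ π)).toPresheafFiber (P.V.obj (op k)) (stPoint P (op k))
    ((EtCoh.push f).obj F).obj) h2).trans (map_zero _)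

include hz P in
/-- the stalk of the direct image is the group of sections over the fibre product -/
theorem nonempty_stalkPushIso :
    Nonempty (EtCoh.push f ⋙ EtCoh.stalk (z ≫ π) ≅ EtCoh.pull (pullback.fst f π) ⋙ EtCore.gsec (pullback f π)) := by
  haveI : ∀ F, IsIso ((stalkPushNat f hz).app F) := fun F => (ConcreteCategory.isIso_iff_bijective _).2
    ⟨stalkPushApp_injective f hz P F, stalkPushApp_surjective f hz P F⟩
  exact ⟨NatIso.ofComponents (fun F => asIso ((stalkPushNat f hz).app F)) fun a => (stalkPushNat f hz).naturality a⟩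

end bijective

end Groth.Agent.EtLimit
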