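import Groth.Agent.EtLimit.Mates
import Groth.Agent.EtLimit.HTools
import Groth.Agent.EtFound.Stalk

/-! systems of sheaves on an inverse system: dying systems have no cohomology in the limit -/

set_option autoImplicit false
set_option linter.style.haveILetI false
universe u

open CategoryTheory CategoryTheory.Limits AlgebraicGeometry Opposite CategoryTheory.Abelian

namespace Groth.Agent.EtLimit

open Groth.Agent.EtFound

set_option backward.isDefEq.respectTransparency.types false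

variable {ι : Type u} [Preorder ι] (Xs : ιᵒᵖ ⥤ Scheme.{u})

/-- a transition morphism -/
noncomputable abbrev tr {i j : ι} (h : i ≤ j) : Xs.obj (op j) ⟶ Xs.obj (op i) := Xs.map (homOfLE h).op

theorem tr_comp {i j k : ι} (hij : i ≤ j) (hjk : j ≤ k) : tr Xs hjk ≫ tr Xs hij = tr Xs (hij.trans hjk) := by
  rw [← Xs.map_comp]; rfl

/-- a compatible system of sheaves on the stages -/
structure Sys where
  obj : ∀ i : ι, EtCoh.Ab (Xs.obj (op i))
  φ : ∀ {i j : ι} (h : i ≤ j), (EtCoh.pull (tr Xs h)).obj (obj i) ⟶ obj j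
  cocycle : ∀ {i j k : ι} (hij : i ≤ j) (hjk : j ≤ k),
    (θPull (tr Xs hjk) (tr Xs hij) (tr Xs (hij.trans hjk)) (tr_comp Xs hij hjk)).hom.app (obj i) ≫
        φ (hij.trans hjk) = (EtCoh.pull (tr Xs hjk)).map (φ hij) ≫ φ hjk

variable {Xs}

namespace Sys

/-- a morphism of systems -/
structure Hom (A B : Sys Xs) where
  app : ∀ i : ι, A.obj i ⟶ B.obj i
  natural : ∀ {i j : ι} (h : i ≤ j), (EtCoh.pull (tr Xs h)).map (app i) ≫ B.φ h = A.φ h ≫ app j

variable (A : Sys Xs)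

/-- the adjoint transition -/
noncomputable def τ {i j : ι} (h : i ≤ j) : A.obj i ⟶ (EtCoh.push (tr Xs h)).obj (A.obj j) :=
  (EtCoh.pullPushAdj (tr Xs h)).homEquiv _ _ (A.φ h)

theorem τ_trans {i j k : ι} (hij : i ≤ j) (hjk : j ≤ k) :
    A.τ (hij.trans hjk) = A.τ hij ≫ (EtCoh.push (tr Xs hij)).map (A.τ hjk) ≫
      (EtCoh.pushComp (tr Xs hij) (tr Xs hjk)).hom.app _ ≫ (EtCoh.pushCongr (tr_comp Xs hij hjk)).hom.app _ :=
  homEquiv_of_cocycle _ _ _ _ _ _ _ (A.cocycle hij hjk)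

/-- every section over an affine eventually dies -/
def Dead : Prop :=
  ∀ (j : ι) (W : (Xs.obj (op j)).Etale) (_ : IsAffine W.left) (s : (A.obj j).obj.obj (op W)),
    ∃ (k : ι) (h : j ≤ k), (A.τ h).hom.app (op W) s = 0

variable [∀ ⦃a b : ιᵒᵖ⦄ (h : a ⟶ b), PreservesFiniteLimits (EtCoh.pull (Xs.map h))]

/-- transition on cohomology -/
noncomputable abbrev Tr {i j : ι} (h : i ≤ j) (n : ℕ) :
    EtCoh.H (Xs.obj (op i)) (A.obj i) n →+ EtCoh.H (Xs.obj (op j)) (A.obj j) n :=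
  hThen (tr Xs h) (A.obj i) (A.φ h) n

theorem Tr_trans {i j k : ι} (hij : i ≤ j) (hjk : j ≤ k) (n : ℕ) (ξ : EtCoh.H (Xs.obj (op i)) (A.obj i) n) :
    A.Tr hjk n (A.Tr hij n ξ) = A.Tr (hij.trans hjk) n ξ :=
  hThen_comp _ _ _ (tr_comp Xs hij hjk) _ _ _ (A.cocycle hij hjk) n ξ

end Sys

theorem Sys.Hom.Tr {A B : Sys Xs} (f : Sys.Hom A B)
    [∀ ⦃a b : ιᵒᵖ⦄ (h : a ⟶ b), PreservesFiniteLimits (EtCoh.pull (Xs.map h))] {i j : ι} (h : i ≤ j) (n : ℕ)
    (ξ : EtCoh.H (Xs.obj (op i)) (A.obj i) n) :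
    B.Tr h n (hmap (f.app i) n ξ) = hmap (f.app j) n (A.Tr h n ξ) :=
  HpullThen_hmap _ _ _ _ _ (f.natural h) n ξ

theorem exists_section_kernel {X : Scheme.{u}} {F G : EtCoh.Ab X} (a : F ⟶ G) (W : X.Etale)
    (s : F.obj.obj (op W)) (hs : a.hom.app (op W) s = 0) :
    ∃ t : (kernel a).obj.obj (op W), (kernel.ι a).hom.app (op W) t = s := by
  let E := sheafToPresheaf X.smallEtaleTopology AddCommGrpCat.{u + 1} ⋙ (evaluation _ _).obj (op W)
  haveI : PreservesFiniteLimits E := comp_preservesFiniteLimits _ _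
  haveI : E.Additive := inferInstance
  let S : ShortComplex (EtCoh.Ab X) := ShortComplex.mk (kernel.ι a) a (kernel.condition a)
  have hS : S.Exact := ShortComplex.exact_of_f_is_kernel S (kernelIsKernel a)
  haveI : Mono S.f := inferInstanceAs (Mono (kernel.ι a))
  have h := hS.map_of_mono_of_preservesKernel E inferInstance inferInstance
  exact (ShortComplex.ab_exact_iff _).1 h s hs

namespace Sys

variable (A : Sys Xs)

/-- the kernels of the transitions out of a stage -/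
noncomputable def kerDiag (j : ι) : {k : ι // j ≤ k} ⥤ EtCoh.Ab (Xs.obj (op j)) where
  obj k := kernel (A.τ k.2)
  map {k l} g := kernel.lift _ (kernel.ι _) (by
    rw [A.τ_trans k.2 (leOfHom g), kernel.condition_assoc, zero_comp])
  map_id k := equalizer.hom_ext (by simp)
  map_comp f g := equalizer.hom_ext (by simp)

/-- the kernels map to the stage -/
noncomputable def kerCocone (j : ι) : Cocone (A.kerDiag j) :=
  Cocone.mk (A.obj j) { app := fun k => kernel.ι _, naturality := fun k l g => by simp [kerDiag] }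

theorem Dead.isIso_desc [IsDirected ι (· ≤ ·)] {A : Sys Xs} (hA : A.Dead) (j : ι) :
    IsIso (colimit.desc _ (A.kerCocone j)) := by
  let J := {k : ι // j ≤ k}
  haveI : Nonempty J := ⟨⟨j, le_rfl⟩⟩
  haveI : IsDirected J (· ≤ ·) := ⟨fun a b => by
    obtain ⟨c, hac, hbc⟩ := directed_of (· ≤ ·) a.1 b.1
    exact ⟨⟨c, a.2.trans hac⟩, hac, hbc⟩⟩
  haveI : IsFiltered J := isFiltered_of_directed_le_nonempty J
  let K := A.kerDiag j
  let c := A.kerCocone j
  rw [isIso_iff_stalks]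
  intro Ω _ _ ξ'
  let P := Scheme.pointSmallEtale ξ'
  rw [ConcreteCategory.isIso_iff_bijective]
  let col := isColimitOfPreserves (EtCoh.stalk ξ') (colimit.isColimit K)
  have hleg : ∀ k x, (EtCoh.stalk ξ').map (colimit.desc K c) ((EtCoh.stalk ξ').map (colimit.ι K k) x) =
      (EtCoh.stalk ξ').map (kernel.ι (A.τ k.2)) x := fun k x => by
    rw [← ConcreteCategory.comp_apply, ← Functor.map_comp, colimit.ι_desc]
    rfl
  refine ⟨(injective_iff_map_eq_zero _).2 fun x hx => ?_, fun y => ?_⟩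
  · obtain ⟨k, x, rfl⟩ := Concrete.isColimit_exists_rep _ col x
    have hx' : (EtCoh.stalk ξ').map (kernel.ι (A.τ k.2)) x = 0 := (hleg k x).symm.trans hx
    haveI : Mono ((EtCoh.stalk ξ').map (kernel.ι (A.τ k.2))) := inferInstance
    have := (AddCommGrpCat.mono_iff_injective _).1 this (hx'.trans (map_zero _).symm)
    rw [this]
    exact map_zero _
  · obtain ⟨W, w, s, rfl⟩ := P.toPresheafFiber_jointly_surjective y
    obtain ⟨O, hO, hxO, -⟩ := exists_isAffineOpen_mem_and_subset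
      (U := (⊤ : W.left.Opens)) (TopologicalSpace.Opens.mem_top
        ((w.left : Spec (CommRingCat.of Ω) ⟶ W.left).base (default : Spec (CommRingCat.of Ω))))
    haveI : AlgebraicGeometry.Etale W.hom := W.prop
    let W' : (Xs.obj (op j)).Etale := Scheme.Etale.mk (O.ι ≫ W.hom)
    let m : W' ⟶ W := MorphismProperty.Over.homMk O.ι rfl trivial
    obtain ⟨w', hw', -⟩ := exists_lift_point m w ⟨_, hxO⟩ rfl
    obtain ⟨k, hk, hs⟩ := hA j W' hO ((A.obj j).obj.map m.op s)
    obtain ⟨t, ht⟩ := exists_section_kernel _ W' _ hs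
    refine ⟨(EtCoh.stalk ξ').map (colimit.ι K ⟨k, hk⟩) (P.toPresheafFiber W' w' (kernel (A.τ hk)).obj t), ?_⟩
    refine (hleg _ _).trans ?_
    refine (P.toPresheafFiber_naturality_apply _ _ _ _).trans ?_
    exact (congrArg _ ht).trans ((P.toPresheafFiber_w_apply m w' _ s).trans
      (congrArg (fun x => P.toPresheafFiber W x (A.obj j).obj s) hw'))

/-- cohomology classes of dying systems die -/
theorem Dead.kill [∀ ⦃a b : ιᵒᵖ⦄ (h : a ⟶ b), PreservesFiniteLimits (EtCoh.pull (Xs.map h))]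
    [IsDirected ι (· ≤ ·)] (hqc : ∀ a, CompactSpace ↥(Xs.obj a)) (hqs : ∀ a, QuasiSeparatedSpace ↥(Xs.obj a))
    {A : Sys Xs} (hA : A.Dead) (j : ι) (n : ℕ) (ξ : EtCoh.H (Xs.obj (op j)) (A.obj j) n) :
    ∃ (k : ι) (h : j ≤ k), A.Tr h n ξ = 0 := by
  haveI : Nonempty {k : ι // j ≤ k} := ⟨⟨j, le_rfl⟩⟩
  haveI : IsDirected {k : ι // j ≤ k} (· ≤ ·) := ⟨fun a b => by
    obtain ⟨c, hac, hbc⟩ := directed_of (· ≤ ·) a.1 b.1
    exact ⟨⟨c, a.2.trans hac⟩, hac, hbc⟩⟩
  haveI : IsFiltered {k : ι // j ≤ k} := isFiltered_of_directed_le_nonempty _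
  haveI : CompactSpace ↥(Xs.obj (op j)) := hqc _
  haveI : QuasiSeparatedSpace ↥(Xs.obj (op j)) := hqs _
  haveI := preservesColimitsOfShape_HF (Xs.obj (op j)) n {k : ι // j ≤ k}
  haveI : IsIso ((colimit.isColimit (A.kerDiag j)).desc (A.kerCocone j)) := hA.isIso_desc j
  have hc : IsColimit (A.kerCocone j) := IsColimit.ofPointIso (colimit.isColimit _)
  obtain ⟨k, η, hη⟩ := exists_hmap_of_isColimit n hc ξ
  have h0 : (EtCoh.pull (tr Xs k.2)).map (kernel.ι (A.τ k.2)) ≫ A.φ k.2 =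
      (0 : (EtCoh.pull (tr Xs k.2)).obj (kernel (A.τ k.2)) ⟶ A.obj k.1) := by
    apply ((EtCoh.pullPushAdj (tr Xs k.2)).homEquiv _ _).injective
    rw [Adjunction.homEquiv_naturality_left, Adjunction.homAddEquiv_zero]
    exact kernel.condition _
  refine ⟨k.1, k.2, ?_⟩
  exact (congrArg (A.Tr k.2 n) hη.symm).trans (HpullThen_kill (tr Xs k.2) _ _ h0 n η)

end Sys

end Groth.Agent.EtLimit
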